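import Mathlib.RepresentationTheory.Irreducible
import Mathlib.GroupTheory.Commutator.Basic
import Mathlib.GroupTheory.Sylow
import Mathlib.Analysis.Complex.Basic

/-!
Linear groups of degree sixteen with a non-normal Sylow subgroup for a prime of at least nineteen:
the perfect core to which the classification reduces.
-/

set_option autoImplicit false

namespace Cfsg.Agent.SmallDeg16

universe u

/-- A perfect group with Sylow subgroups of order `p` all whose proper normal subgroups are central. -/
structure Core (p : ℕ) (L : Type u) [Group L] : Prop where
  prime : p.Prime
  big : 19 ≤ p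
  perf : commutator L = ⊤
  dvd : p ∣ Nat.card L
  sq : ¬ p ^ 2 ∣ Nat.card L
  norm : ∀ M : Subgroup L, M.Normal → M ≠ ⊤ → M ≤ Subgroup.center L

end Cfsg.Agent.SmallDeg16
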