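import Cfsg.Agent.Lib.SmallDim.HalfDegree
import Cfsg.Agent.Lib.SmallDeg16.Basic
import Cfsg.Agent.Lib.Char.Basic

/-!
Few eigenvalues: a perfect group with Sylow subgroups of order `p` and a faithful representation of
degree less than `p` in which an element of order `p` has at most `p / 2` eigenvalues is a central
extension of `PSL₂(p)`.
-/

set_option autoImplicit false
set_option linter.unusedSectionVars false
set_option linter.style.haveILetI false

namespace Cfsg.Agent.SmallDeg16

open Finset Module SmallDim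
open scoped Classical MatrixGroups Polynomial

universe u

section Triple

variable {k : Type*} [Field k] {U : Type*} [AddCommGroup U] [Module k U] [FiniteDimensional k U]
variable {G : Type*} [Group G] [Finite G] (ρ : Representation k G U)
variable {p : ℕ} [hpF : Fact p.Prime] [CharP k p] {S : Subgroup G} [Fintype S] {y : G}

local notation "𝕄" => Module.End k U

/-- The standard triple, with the nilpotency index in place of the dimension. -/
theorem exists_triple_nil (hS : Nat.card S = p) (hsq : ¬ p ^ 2 ∣ Nat.card G) (hy : y ∈ S)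
    (hA : ρ y ≠ 1) {m : ℕ} (hAm : (ρ y - 1) ^ m = 0) (hd : 2 * m ≤ p + 1)
    (hfr : Module.finrank k U < p) (hp5 : 5 ≤ p) :
    ∃ v : Fin 3 → 𝕄, YRel (adRep ρ y) v ∧ trForm (v 0) (v 2) ≠ 0 ∧
      (∀ n ∈ Subgroup.normalizer (S : Set G), ∀ i,
        adRep ρ n (v i) ∈ Submodule.span k (Set.range v)) ∧
      ∀ n ∈ Subgroup.normalizer (S : Set G), ∀ a : ℕ, n * y * n⁻¹ = y ^ a →
        adRep ρ n (v 2) = (a : k) • v 2 := by
  have hy1 : y ≠ 1 := fun h => hA (by rw [h, map_one])
  have h2 : (2 : k) ≠ 0 := by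
    rw [show (2 : k) = ((2 : ℕ) : k) by norm_num, Ne, CharP.cast_eq_zero_iff k p]
    intro h; have := Nat.le_of_dvd (by norm_num) h; omega
  set A := ρ y - 1 with hAdef
  set d := m with hdd
  have hAd : A ^ d = 0 := hAm
  obtain ⟨X, hX, hXe⟩ := exists_log (k := k) (p := p) hAd (by omega)
  have hu : texp k p X = ρ y := by rw [hXe, hAdef, add_sub_cancel]
  have hu' : texp k p (-X) = ρ y⁻¹ := by
    have h := congrArg (ρ y⁻¹ * ·) (texp_mul_neg (p := p) hAd (by omega) hX)
    simp only [hu, ← mul_assoc, rho_inv_mul, one_mul, mul_one] at h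
    exact h
  -- the nilpotency index
  have hXd : X ^ d = 0 := by
    have := hX.pow_mul_pow hAd hX d 0 (by omega)
    rwa [pow_zero, mul_one] at this
  have hX0 : X ≠ 0 := fun h => hA (by rw [← hu, h, texp_zero hpF.out.pos])
  have hex : ∃ r, X ^ r = 0 := ⟨d, hXd⟩
  have hrd : Nat.find hex ≤ d := Nat.find_le hXd
  have hr2 : 2 ≤ Nat.find hex := by
    by_contra h
    have h1 := Nat.find_spec hex
    rcases (show Nat.find hex = 0 ∨ Nat.find hex = 1 by omega) with e | e <;> rw [e] at h1
    · rw [pow_zero] at h1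
      exact hX0 (by rw [← mul_one X, h1, mul_zero])
    · exact hX0 (by rwa [pow_one] at h1)
  obtain ⟨n, hn⟩ : ∃ n, Nat.find hex = n + 2 := ⟨Nat.find hex - 2, by omega⟩
  have hXn : X ^ (n + 2) = 0 := hn ▸ Nat.find_spec hex
  have hXn' : X ^ (n + 1) ≠ 0 := Nat.find_min hex (by omega)
  -- the complement of `S` in the normaliser
  set N := Subgroup.normalizer (S : Set G) with hN
  have hSN : S ≤ N := Subgroup.le_normalizer
  haveI : (S.subgroupOf N).Normal := Subgroup.normal_subgroupOf_of_le_normalizer le_rfl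
  have hcS : Nat.card (S.subgroupOf N) = p := by
    rw [Nat.card_congr (Subgroup.subgroupOfEquivOfLe hSN).toEquiv, hS]
  have hindex : ¬ p ∣ (S.subgroupOf N).index := fun h => hsq (by
    have e := Subgroup.card_mul_index (S.subgroupOf N)
    rw [hcS] at e
    exact (pow_two p ▸ mul_dvd_mul_left p h).trans (e ▸ Subgroup.card_subgroup_dvd_card N))
  obtain ⟨L, hL⟩ := Subgroup.exists_right_complement'_of_coprime
    (N := S.subgroupOf N) (by rw [hcS]; exact hpF.out.coprime_iff_not_dvd.2 hindex)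
  haveI : Fintype L := Fintype.ofFinite _
  have hLc : (Nat.card L : k) ≠ 0 := by
    rw [Ne, CharP.cast_eq_zero_iff k p, ← (Subgroup.IsComplement'.symm hL).index_eq_card]
    exact hindex
  have hcong : ∀ n ∈ N, ∃ a : ℕ, n * y * n⁻¹ = y ^ a := fun n hn =>
    exists_pow_eq hS hy hy1 ((Subgroup.mem_normalizer_iff.1 hn y).1 hy)
  choose! a ha using hcong
  -- the action on the logarithm
  have hscale : ∀ g : G, ∀ b : ℕ, g * y * g⁻¹ = y ^ b → adAlg ρ g X = (b : k) • X := by
    intro g b hb
    have hσA : adAlg ρ g A = (1 + A) ^ b - 1 := by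
      rw [hAdef, map_sub, map_one, adAlg_apply, adRep_apply, ← map_mul, ← map_mul, hb,
        add_sub_cancel, map_pow]
    have hσAm : InN (k := k) A (adAlg ρ g A) := by
      rw [hσA]
      refine ⟨∑ i ∈ range b, (1 + A) ^ i, Subalgebra.sum_mem _ fun i _ =>
        Subalgebra.pow_mem _ (add_mem (one_mem _) (Algebra.self_mem_adjoin_singleton k A)) i, ?_⟩
      rw [← mul_geom_sum, add_sub_cancel_left]
    have hσX : InN (k := k) A (adAlg ρ g X) := by
      obtain ⟨r, hr, e⟩ := hX
      rw [e, map_mul]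
      refine hσAm.mul ?_
      have hle : Algebra.adjoin k {A} ≤ (Algebra.adjoin k {A}).comap (adAlg ρ g) :=
        Algebra.adjoin_le (Set.singleton_subset_iff.2 hσAm.mem)
      exact hle hr
    refine texp_injective (p := p) hAd (by omega) hσX (hX.smul _) ?_
    rw [← texp_map, ← texp_pow hAd (by omega) hX, hu, adAlg_apply, adRep_apply, ← map_mul, ← map_mul,
      hb, map_pow]
  have ha0 : ∀ n ∈ N, ((a n : ℕ) : k) ≠ 0 := by
    intro n hn h
    rw [CharP.cast_eq_zero_iff k p] at h
    obtain ⟨t, ht⟩ := h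
    have := ha n hn
    rw [ht, pow_mul, pow_p_eq_one hS hy, one_pow] at this
    exact hy1 (conj_eq_one_iff.1 this)
  let g : L → G := fun l => ((l : N) : G)
  obtain ⟨Q, F, htr, hQ⟩ := exists_frame (p := p) (hdp := by omega) (L := L) hLc
    (fun l => adAlg ρ (g l)) (fun l m x => by
      show adAlg ρ (g (l * m)) x = adAlg ρ (g l) (adAlg ρ (g m) x)
      simp only [adAlg_apply]
      rw [show g (l * m) = g l * g m from rfl, map_mul]
      rfl)
    (fun l => ((a (g l) : ℕ) : k)) (fun l => ha0 _ (l : N).2) X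
    (fun l => hscale _ _ (ha _ (l : N).2)) hXn hXn'
  set v : Fin 3 → 𝕄 := ![bY X Q n, bH X Q n, bX X Q n] with hv
  -- the action of `y`
  have hAdy : ∀ z : 𝕄,
      (LinearMap.mulLeft k X - LinearMap.mulRight k X)
        ((LinearMap.mulLeft k X - LinearMap.mulRight k X)
          ((LinearMap.mulLeft k X - LinearMap.mulRight k X) z)) = 0 →
      adRep ρ y z = z + (X * z - z * X) +
        (2 : k)⁻¹ • (X * (X * z - z * X) - (X * z - z * X) * X) := by
    intro z hz
    set D := LinearMap.mulLeft k X - LinearMap.mulRight k X with hD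
    have he : adRep ρ y = texp k p D := by
      have eL : texp k p (LinearMap.mulLeft k X) = LinearMap.mulLeft k (texp k p X) :=
        (texp_map (Algebra.lmul k 𝕄) p X).symm
      have eR : texp k p (-LinearMap.mulRight k X) = LinearMap.mulRight k (texp k p (-X)) := by
        have e : -LinearMap.mulRight k X = LinearMap.mulRight k (-X) :=
          LinearMap.ext fun f => by simp
        rw [e]
        refine LinearMap.ext fun f => ?_
        simp only [texp, LinearMap.sum_apply, LinearMap.smul_apply, LinearMap.pow_mulRight,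
          LinearMap.mulRight_apply, Finset.mul_sum, mul_smul_comm]
      rw [hD, sub_eq_add_neg, ← texp_add (p := p) ((LinearMap.commute_mulLeft_right (R := k) X X).neg_right)]
      · rw [eL, eR, hu, hu']
        refine LinearMap.ext fun f => ?_
        rw [adRep_apply, Module.End.mul_apply, LinearMap.mulLeft_apply, LinearMap.mulRight_apply,
          mul_assoc]
      · intro i j hij
        rw [neg_pow, LinearMap.pow_mulLeft, LinearMap.pow_mulRight]
        rcases Nat.lt_or_ge i d with h | h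
        · rw [pow_eq_zero_of_le (show d ≤ j by omega) hXd, LinearMap.mulRight_zero_eq_zero]
          simp
        · rw [pow_eq_zero_of_le h hXd, LinearMap.mulLeft_zero_eq_zero]
          simp
    have hD3 : ∀ i, (D ^ (i + 1 + 1 + 1)) z = 0 := fun i => by
      rw [show i + 1 + 1 + 1 = i + 3 by omega, pow_add, Module.End.mul_apply, pow_succ, pow_two,
        Module.End.mul_apply, Module.End.mul_apply, hz, map_zero]
    obtain ⟨m, hm⟩ : ∃ m, p = m + 1 + 1 + 1 := ⟨p - 3, by omega⟩
    rw [he, texp, hm, Finset.sum_range_succ', Finset.sum_range_succ', Finset.sum_range_succ']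
    simp only [LinearMap.add_apply, LinearMap.sum_apply, LinearMap.smul_apply, hD3, smul_zero,
      Finset.sum_const_zero, zero_add]
    simp [pow_two, hD, Module.End.mul_apply]
    abel
  have c2 : X * bX X Q n - bX X Q n * X = 0 := F.bX_comm
  have c1 : X * bH X Q n - bH X Q n * X = (-2 : k) • bX X Q n := F.bH_comm
  have c0 : X * bY X Q n - bY X Q n * X = bH X Q n := F.bY_comm
  have c2' : X * bX X Q n = bX X Q n * X := sub_eq_zero.1 c2
  have hrel : YRel (adRep ρ y) v := by
    refine ⟨?_, ?_, ?_⟩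
    · show adRep ρ y (bX X Q n) = bX X Q n
      rw [hAdy _ (by simp [c2]), c2]
      simp
    · show adRep ρ y (bH X Q n) = bH X Q n - (2 : k) • bX X Q n
      rw [hAdy _ (by simp [c1, c2']), c1]
      simp [c2', sub_eq_add_neg]
    · show adRep ρ y (bY X Q n) = bY X Q n + bH X Q n - bX X Q n
      rw [hAdy _ (by simp [c0, c1, c2']), c0, c1, smul_smul]
      rw [show (2 : k)⁻¹ * -2 = -1 by field_simp, neg_one_smul, sub_eq_add_neg (bY X Q n + _)]
  -- stability
  have hfix2 : ∀ s ∈ S, adRep ρ s (v 2) = v 2 := by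
    intro s hs
    obtain ⟨b, rfl⟩ := exists_pow_eq hS hy hy1 hs
    rw [map_pow]
    clear hs
    induction b with
    | zero => rfl
    | succ b ih => rw [pow_succ, Module.End.mul_apply, hrel.two, ih]
  have hspS : ∀ s ∈ S, ∀ z ∈ Submodule.span k (Set.range v),
      adRep ρ s z ∈ Submodule.span k (Set.range v) := by
    have m : ∀ i, v i ∈ Submodule.span k (Set.range v) := fun i =>
      Submodule.subset_span (Set.mem_range_self i)
    have h1 : Submodule.span k (Set.range v) ≤ (Submodule.span k (Set.range v)).comap (adRep ρ y) :=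
      Submodule.span_le.2 (by
        rintro _ ⟨i, rfl⟩
        fin_cases i
        · exact Submodule.mem_comap.2 (hrel.zero ▸ sub_mem (add_mem (m 0) (m 1)) (m 2))
        · exact Submodule.mem_comap.2 (hrel.one ▸ sub_mem (m 1) (Submodule.smul_mem _ _ (m 2)))
        · exact Submodule.mem_comap.2 (hrel.two.symm ▸ m 2))
    intro s hs z hz
    obtain ⟨b, rfl⟩ := exists_pow_eq hS hy hy1 hs
    rw [map_pow]
    clear hs
    induction b with
    | zero => exact hz
    | succ b ih => rw [pow_succ', Module.End.mul_apply]; exact h1 ih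
  have hsplit : ∀ n ∈ N, ∃ s ∈ S, ∃ l : L, n = s * g l := by
    intro n hn
    obtain ⟨⟨⟨⟨s, hsN⟩, hs⟩, l⟩, hsl⟩ := hL.2 ⟨n, hn⟩
    exact ⟨s, hs, l, (congrArg Subtype.val hsl).symm⟩
  refine ⟨v, hrel, F.trace_bY_bX (p := p) (by omega) htr, fun nn hn i => ?_, fun nn hn b hb => ?_⟩
  · obtain ⟨s, hs, l, rfl⟩ := hsplit nn hn
    rw [map_mul, Module.End.mul_apply]
    refine hspS s hs _ ?_
    have hXl := hscale _ _ (ha _ (l : N).2)
    have m : ∀ (c : k) i, c • v i ∈ Submodule.span k (Set.range v) := fun c i =>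
      Submodule.smul_mem _ c (Submodule.subset_span (Set.mem_range_self i))
    fin_cases i
    · show adAlg ρ (g l) (bY X Q n) ∈ _
      rw [F.map_bY _ (ha0 _ (l : N).2) hXl (hQ l)]
      exact m _ 0
    · show adAlg ρ (g l) (bH X Q n) ∈ _
      rw [F.map_bH _ (ha0 _ (l : N).2) hXl (hQ l)]
      exact Submodule.subset_span (Set.mem_range_self (1 : Fin 3))
    · show adAlg ρ (g l) (bX X Q n) ∈ _
      rw [F.map_bX _ (ha0 _ (l : N).2) hXl (hQ l)]
      exact m _ 2
  · obtain ⟨s, hs, l, rfl⟩ := hsplit nn hn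
    have hal : g l * y * (g l)⁻¹ = y ^ b := by
      have hc : s⁻¹ * y ^ b * s = y ^ b := by
        obtain ⟨i, rfl⟩ := exists_pow_eq hS hy hy1 hs
        rw [mul_assoc, ((Commute.refl y).pow_pow b i).eq, ← mul_assoc, inv_mul_cancel, one_mul]
      rw [← hc, ← hb]
      group
    rw [map_mul, Module.End.mul_apply]
    show adRep ρ s (adAlg ρ (g l) (bX X Q n)) = _
    rw [F.map_bX _ (ha0 _ (l : N).2) (hscale _ _ (ha _ (l : N).2)) (hQ l), map_smul]
    have e : ((a (g l) : ℕ) : k) = (b : k) := by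
      have h1 := (hscale _ _ (ha _ (l : N).2)).symm.trans (hscale _ _ hal)
      exact smul_left_injective k hX0 h1
    rw [e]
    exact congrArg _ (hfix2 s hs)

/-- A nilpotency index of at most `p / 2` gives a map to `PGL₂`. -/
theorem exists_hom_nil (hS : Nat.card S = p) (hsq : ¬ p ^ 2 ∣ Nat.card G) (hy : y ∈ S)
    (hA : ρ y ≠ 1) {m : ℕ} (hAm : (ρ y - 1) ^ m = 0) (hd : 2 * m ≤ p)
    (hfr : Module.finrank k U < p) (hp5 : 5 ≤ p) :
    ∃ φ : G →* PGL(2, k), φ y = Matrix.ProjGenLinGroup.mk
      (Matrix.GeneralLinearGroup.mkOfDetNeZero !![1, 1; 0, 1] (by simp [Matrix.det_fin_two])) := by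
  obtain ⟨v, hrel, h02, hst, -⟩ := exists_triple_nil ρ hS hsq hy hA hAm (by omega) hfr hp5
  have hy1 : y ≠ 1 := fun h => hA (by rw [h, map_one])
  have h2 : (2 : k) ≠ 0 := SmallDim.two_ne_zero_of hp5
  have hkill : ∑ s : S, adRep ρ (s : G) = 0 := by
    rw [sum_rep_eq (adRep ρ) hS hy hy1, adRep_sub_one]
    have hc : Commute (LinearMap.mulLeft k (ρ y - 1) - LinearMap.mulRight k (ρ y - 1))
        (LinearMap.mulRight k (ρ y⁻¹)) := by
      refine (LinearMap.commute_mulLeft_right _ _).sub_left ?_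
      refine LinearMap.ext fun f => ?_
      simp [mul_assoc, sub_mul, mul_sub, rho_inv_mul, rho_mul_inv]
    rw [hc.mul_pow, ad_pow_eq_zero hAm (by omega), zero_mul]
  exact exists_hom_pgl (p := p) h2 (adRep ρ) S hS
    (fun g hg s hs h => ti_of_prime S hS hsq g hg s hs h)
    trForm trForm_symm trForm_nondeg (trForm_inv ρ) (o := 1) (fun g => Commute.one_left _)
    (mul_one 1) IsSA.one (by rw [hkill, zero_mul]) hy hrel h02 (fun i => rfl) hst

end Triple

section Perfect

variable {G : Type u} [Group G] [Finite G] {p : ℕ} [hpF : Fact p.Prime]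

/-- The centre of a perfect group with Sylow subgroups of order `p` has order prime to `p`. -/
theorem not_dvd_center_of_perfect (hperf : commutator G = ⊤) (hsq : ¬ p ^ 2 ∣ Nat.card G) :
    ¬ p ∣ Nat.card (Subgroup.center G) := by
  intro h
  obtain ⟨z, hz⟩ := exists_prime_orderOf_dvd_card' p h
  have hzo : orderOf (z : G) = p := by rw [Subgroup.orderOf_coe, hz]
  set H := Subgroup.zpowers (z : G) with hH
  have hc : Nat.card H = p := by rw [Nat.card_zpowers, hzo]
  have key : ∀ (k : ℕ) (g : G), g⁻¹ * (z : G) ^ k * g ∈ H →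
      g⁻¹ * (z : G) ^ k * g = (z : G) ^ k := fun k g _ => by
    have hcm : Commute g (z : G) := Subgroup.mem_center_iff.1 z.2 g
    rw [mul_assoc, ← (hcm.pow_right k).eq, inv_mul_cancel_left]
  have hcomm : ∀ a b : H, a * b = b * a := fun a b => by
    obtain ⟨i, hi⟩ := Subgroup.mem_zpowers_iff.1 a.2
    obtain ⟨j, hj⟩ := Subgroup.mem_zpowers_iff.1 b.2
    refine Subtype.ext ?_
    show (a : G) * b = b * a
    rw [← hi, ← hj, ← zpow_add, ← zpow_add, add_comm]
  letI : CommGroup H := { (inferInstance : Group H) with mul_comm := hcomm }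
  have ht := MonoidHom.transfer_eq_pow (MonoidHom.id H) (z : G) key
  have h0 : (MonoidHom.id H).transfer (z : G) = 1 :=
    Abelianization.commutator_subset_ker _ (by rw [hperf]; exact Subgroup.mem_top _)
  rw [h0] at ht
  have h1 : (z : G) ^ H.index = 1 := (congrArg Subtype.val ht).symm
  have h2 : p ∣ H.index := hzo ▸ orderOf_dvd_of_pow_eq_one h1
  refine hsq ?_
  rw [← Subgroup.card_mul_index H, hc, pow_two]
  exact mul_dvd_mul_left p h2

/-- No non-trivial normal `p`-subgroup. -/
theorem eq_bot_of_normal_pGroup (hperf : commutator G = ⊤) (hsq : ¬ p ^ 2 ∣ Nat.card G)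
    (hnorm : ∀ M : Subgroup G, M.Normal → M ≠ ⊤ → M ≤ Subgroup.center G)
    (H : Subgroup G) (hH : H.Normal) (hp : IsPGroup p H) : H = ⊥ := by
  obtain ⟨i, hi⟩ := hp.exists_card_eq
  rcases (show i = 0 ∨ i = 1 ∨ 2 ≤ i by omega) with h | h | h
  · rwa [h, pow_zero, Subgroup.card_eq_one] at hi
  · rw [h, pow_one] at hi
    by_cases htop : H = ⊤
    · exfalso
      haveI : IsCyclic G := isCyclic_of_prime_card (p := p) (by
        rw [← Subgroup.card_top (G := G), ← htop, hi])
      have hb : commutator G = ⊥ := by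
        rw [commutator_def, eq_bot_iff, Subgroup.commutator_le]
        intro a _ b _
        rw [Subgroup.mem_bot, commutatorElement_eq_one_iff_mul_comm]
        exact IsMulCommutative.is_comm.comm a b
      rw [hb] at hperf
      rw [htop, ← hperf, Subgroup.card_bot] at hi
      exact hpF.out.ne_one hi.symm
    · exact absurd (hi ▸ Subgroup.card_dvd_of_le (hnorm H hH htop))
        (not_dvd_center_of_perfect hperf hsq)
  · exact absurd ((pow_dvd_pow p h).trans (hi ▸ H.card_subgroup_dvd_card)) hsq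

/-- An element of order `p` is not central. -/
theorem not_mem_center_of_order (hperf : commutator G = ⊤) (hsq : ¬ p ^ 2 ∣ Nat.card G) {y : G}
    (hy : orderOf y = p) : y ∉ Subgroup.center G := fun h =>
  not_dvd_center_of_perfect hperf hsq (hy ▸ Subgroup.orderOf_dvd_natCard _ h)

/-- A non-trivial map to `PGL₂` can be put in standard form. -/
theorem exists_std_hom (hp5 : 5 ≤ p) (hperf : commutator G = ⊤) (hsq : ¬ p ^ 2 ∣ Nat.card G)
    (hnorm : ∀ M : Subgroup G, M.Normal → M ≠ ⊤ → M ≤ Subgroup.center G)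
    {k : Type} [Field k] [IsAlgClosed k] [CharP k p] (φ₀ : G →* PGL(2, k)) {y : G}
    (hy : orderOf y = p) (hne : φ₀ y ≠ 1) :
    ∃ φ : G →* PGL(2, k), φ.ker = Subgroup.center G ∧ φ.range = (iotaSL k p).range ∧
      φ y = Matrix.SpecialLinearGroup.toPGL (sU 1) := by
  have hyp : y ^ p = 1 := hy ▸ pow_orderOf_eq_one y
  obtain ⟨z, hz, hzp, htr⟩ := exists_lift_pow hp5 (X := φ₀ y) (by rw [← map_pow, hyp, map_one])
  -- a base change to the standard transvection
  obtain ⟨g, hg⟩ : ∃ g : GL (Fin 2) k,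
      (z : Matrix (Fin 2) (Fin 2) k) * (g : Matrix (Fin 2) (Fin 2) k) =
        (g : Matrix (Fin 2) (Fin 2) k) * !![1, 1; 0, 1] := by
    have hdet := z.2
    rw [Matrix.det_fin_two] at hdet
    by_cases hc : z 1 0 = 0
    · have h00 : z 0 0 = 1 := by
        rw [hc, mul_zero, sub_zero] at hdet
        have : (z 0 0 - 1) ^ 2 = 0 := by linear_combination -hdet + z 0 0 * htr
        exact sub_eq_zero.1 (pow_eq_zero_iff two_ne_zero |>.1 this)
      have h11 : z 1 1 = 1 := by linear_combination htr - h00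
      have hb : z 0 1 ≠ 0 := by
        intro hb
        refine hne ?_
        rw [← hz, ← map_one (Matrix.SpecialLinearGroup.toPGL (n := Fin 2) (R := k))]
        refine congrArg _ (Subtype.ext ?_)
        ext i j
        fin_cases i <;> fin_cases j <;> simp [h00, h11, hb, hc]
      refine ⟨Matrix.GeneralLinearGroup.mkOfDetNeZero !![z 0 1, 0; 0, 1]
        (by simp [Matrix.det_fin_two, hb]), ?_⟩
      ext i j
      fin_cases i <;> fin_cases j <;>
        simp [Matrix.GeneralLinearGroup.mkOfDetNeZero, Matrix.mul_apply, h00, h11, hc]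
    · refine ⟨Matrix.GeneralLinearGroup.mkOfDetNeZero !![z 0 0 - 1, 1; z 1 0, 0]
        (by simp [Matrix.det_fin_two, hc]), ?_⟩
      ext i j
      fin_cases i <;> fin_cases j <;>
        simp [Matrix.GeneralLinearGroup.mkOfDetNeZero, Matrix.mul_apply, Fin.sum_univ_two]
      · linear_combination -hdet + z 0 0 * htr - 0 * htr
      · linear_combination z 1 0 * htr
  set γ := Matrix.ProjGenLinGroup.mk g with hγ
  have hφ₁ : ((MulAut.conj γ⁻¹).toMonoidHom.comp φ₀) y =
      Matrix.SpecialLinearGroup.toPGL (sU 1) := by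
    show γ⁻¹ * φ₀ y * γ⁻¹⁻¹ = _
    rw [inv_inv, ← hz, mul_assoc, inv_mul_eq_iff_eq_mul, hγ]
    show Matrix.ProjGenLinGroup.mk (Matrix.SpecialLinearGroup.toGL z) * Matrix.ProjGenLinGroup.mk g =
      Matrix.ProjGenLinGroup.mk g * Matrix.ProjGenLinGroup.mk (Matrix.SpecialLinearGroup.toGL (sU 1))
    rw [← map_mul, ← map_mul]
    exact congrArg Matrix.ProjGenLinGroup.mk (Units.ext hg)
  obtain ⟨φ, -, hφy, hle, hge⟩ := exists_conj_hom hp5 hsq _ hφ₁
  refine ⟨φ, ?_⟩
  have hTne : φ y ≠ 1 := by
    rw [hφy, Ne, ← MonoidHom.mem_ker, Matrix.SpecialLinearGroup.toPGL_ker]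
    intro h
    rcases center_sl_eq h with h | h <;>
      simpa [sU] using congrFun (congrFun h 0) 1
  have hK : φ.ker ≤ Subgroup.center G := hnorm _ inferInstance fun h => hTne (by
    rw [← MonoidHom.mem_ker, h]; exact Subgroup.mem_top y)
  set G0 := Subgroup.closure {x : G | x ^ p = 1} with hG0
  have hG0n : G0.Normal := ⟨fun a ha g => by
    have h : G0 ≤ G0.comap (MulAut.conj g).toMonoidHom :=
      (Subgroup.closure_le _).2 fun x hx => Subgroup.subset_closure (by
        show (g * x * g⁻¹) ^ p = 1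
        rw [conj_pow, hx, mul_one, mul_inv_cancel])
    exact h ha⟩
  have htop : G0 = ⊤ := by
    by_contra h
    exact not_mem_center_of_order hperf hsq hy (hnorm G0 hG0n h (Subgroup.subset_closure hyp))
  have hrange : φ.range = (iotaSL k p).range := by
    refine le_antisymm ?_ (hge.resolve_right fun h => hTne ?_)
    · rw [MonoidHom.range_eq_map, ← htop, hG0, MonoidHom.map_closure, Subgroup.closure_le]
      rintro _ ⟨x, hx, rfl⟩
      exact hle x hx
    · have hall : ∀ x : G, φ x ∈ Subgroup.zpowers (φ y) := fun x => by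
        have hc : G0 ≤ (Subgroup.zpowers (φ y)).comap φ := (Subgroup.closure_le _).2 h
        exact hc (htop ▸ Subgroup.mem_top x)
      have hker : commutator G ≤ φ.ker := by
        rw [commutator_def, Subgroup.commutator_le]
        intro a _ b _
        obtain ⟨i, hi⟩ := Subgroup.mem_zpowers_iff.1 (hall a)
        obtain ⟨j, hj⟩ := Subgroup.mem_zpowers_iff.1 (hall b)
        rw [MonoidHom.mem_ker, map_commutatorElement, commutatorElement_eq_one_iff_mul_comm, ← hi,
          ← hj, ← zpow_add, ← zpow_add, add_comm]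
      rw [hperf] at hker
      exact MonoidHom.mem_ker.1 (hker (Subgroup.mem_top y))
  refine ⟨le_antisymm hK ?_, hrange, hφy⟩
  -- the quotient is simple
  haveI : IsSimpleGroup (Matrix.ProjectiveSpecialLinearGroup (Fin 2) (ZMod p)) :=
    Matrix.ProjectiveSpecialLinearGroup.rank_two_simple (by rw [Nat.card_zmod]; omega)
  let e : G ⧸ φ.ker ≃* Matrix.ProjectiveSpecialLinearGroup (Fin 2) (ZMod p) :=
    ((QuotientGroup.quotientKerEquivRange φ).trans
      (MulEquiv.subgroupCongr (hrange.trans (iotaPSL_range k p).symm))).trans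
      (MonoidHom.ofInjective (iotaPSL_injective k p)).symm
  haveI : Nontrivial (G ⧸ φ.ker) := e.toEquiv.nontrivial
  haveI : IsSimpleGroup (G ⧸ φ.ker) := IsSimpleGroup.isSimpleGroup_of_surjective e.symm.toMonoidHom
    e.symm.surjective
  haveI : ((Subgroup.center G).map (QuotientGroup.mk' φ.ker)).Normal :=
    Subgroup.Normal.map inferInstance _ (QuotientGroup.mk'_surjective _)
  rcases (inferInstance : ((Subgroup.center G).map
    (QuotientGroup.mk' φ.ker)).Normal).eq_bot_or_eq_top with h | h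
  · rwa [Subgroup.map_eq_bot_iff, QuotientGroup.ker_mk'] at h
  · exfalso
    have h' : Subgroup.center G ⊔ φ.ker = ⊤ := by
      have := congrArg (Subgroup.comap (QuotientGroup.mk' φ.ker)) h
      rwa [Subgroup.comap_map_eq, QuotientGroup.ker_mk', Subgroup.comap_top] at this
    rw [sup_eq_left.2 hK] at h'
    exact not_mem_center_of_order hperf hsq hy (h' ▸ Subgroup.mem_top y)

variable {d : ℕ}

/-- The semisimple part: the roots outside `μ_p` may be discarded. -/
theorem aeval_roots_unity {A : Type*} [Ring A] [Algebra ℂ A] {x : A} (hx : x ^ p = 1) (E : Finset ℂ)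
    (h : Polynomial.aeval x (∏ μ ∈ E, (Polynomial.X - Polynomial.C μ)) = 0) :
    Polynomial.aeval x (∏ μ ∈ E.filter (fun μ => μ ^ p = 1),
      (Polynomial.X - Polynomial.C μ)) = 0 := by
  set P : ℂ[X] := Polynomial.X ^ p - 1 with hP
  set r : ℂ[X] := ∏ μ ∈ E.filter (fun μ => ¬ μ ^ p = 1), (Polynomial.X - Polynomial.C μ) with hr
  have hcop : IsCoprime r P := IsCoprime.prod_left fun μ hμ =>
    (Polynomial.irreducible_X_sub_C μ).coprime_iff_not_dvd.2 fun hdvd => by
      rw [Polynomial.dvd_iff_isRoot, hP] at hdvd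
      simp only [Polynomial.IsRoot, Polynomial.eval_sub, Polynomial.eval_pow, Polynomial.eval_X,
        Polynomial.eval_one, sub_eq_zero] at hdvd
      exact (Finset.mem_filter.1 hμ).2 hdvd
  obtain ⟨u, v, huv⟩ := hcop
  rw [← Finset.prod_filter_mul_prod_filter_not E (fun μ => μ ^ p = 1), ← hr] at h
  set q : ℂ[X] := ∏ μ ∈ E.filter (fun μ => μ ^ p = 1), (Polynomial.X - Polynomial.C μ) with hq
  have e : q = u * (q * r) + (q * v) * P := by linear_combination -q * huv
  rw [e, map_add, map_mul, h, mul_zero, zero_add, map_mul, hP, map_sub, map_pow, Polynomial.aeval_X,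
    map_one, hx, sub_self, mul_zero]

/-- Roots of unity are integral. -/
theorem isIntegral_of_pow_eq_one {μ : ℂ} (h : μ ^ p = 1) : IsIntegral ℤ μ :=
  IsIntegral.of_pow hpF.out.pos (h ▸ isIntegral_one)

/-- The map to `PGL₂` from few eigenvalues. -/
theorem exists_hom_few (hp5 : 5 ≤ p) (hperf : commutator G = ⊤) (hsq : ¬ p ^ 2 ∣ Nat.card G)
    (hnorm : ∀ M : Subgroup G, M.Normal → M ≠ ⊤ → M ≤ Subgroup.center G)
    (ρ : Representation ℂ G (Fin d → ℂ)) (hρ : Function.Injective ρ) (hd : d < p) {y : G}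
    (hy : orderOf y = p) (E : Finset ℂ) (hE : 2 * E.card ≤ p)
    (hker : Polynomial.aeval (ρ y) (∏ μ ∈ E, (Polynomial.X - Polynomial.C μ)) = 0) :
    ∃ (k : Type) (_ : Field k) (_ : IsAlgClosed k) (_ : CharP k p) (φ : G →* PGL(2, k)),
      φ.ker = Subgroup.center G ∧ φ.range = (iotaSL k p).range ∧
        φ y = Matrix.SpecialLinearGroup.toPGL (sU 1) := by
  haveI : Fintype G := Fintype.ofFinite G
  have hyp : y ^ p = 1 := hy ▸ pow_orderOf_eq_one y
  obtain ⟨V, hpV, hch, m, σ, hσ, hinj, htr⟩ :=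
    exists_reduction (eq_bot_of_normal_pGroup hperf hsq hnorm) ρ hρ
  haveI := hch
  set S := Subgroup.zpowers y with hSd
  have hS : Nat.card S = p := by rw [Nat.card_zpowers, hy]
  haveI : Fintype S := Fintype.ofFinite _
  set E' := E.filter (fun μ => μ ^ p = 1) with hE'
  have hker' := aeval_roots_unity (by rw [← map_pow, hyp, map_one]) E hker
  rw [← hE'] at hker'
  -- the integral form is equivalent over the complex numbers
  set Φ := (V.subtype).mapMatrix (m := Fin d) with hΦ
  let ρ' : Representation ℂ G (Fin d → ℂ) :=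
    (Matrix.toLinAlgEquiv' (R := ℂ) (n := Fin d)).toAlgHom.toRingHom.toMonoidHom.comp
      (Φ.toMonoidHom.comp m)
  have hρ' : ∀ g, ρ' g = Matrix.toLinAlgEquiv' (Φ (m g)) := fun g => rfl
  obtain ⟨e⟩ := Char.nonempty_equiv_of_char_eq ρ ρ' (funext fun g => by
    show LinearMap.trace ℂ _ (ρ g) = LinearMap.trace ℂ _ (ρ' g)
    rw [← htr, hρ']
    exact (Matrix.trace_toLin'_eq ((Φ (m g)))).symm)
  set qV : V[X] := ∏ μ ∈ E'.attach, (Polynomial.X - Polynomial.C
    (⟨μ.1, mem_of_isIntegral V (isIntegral_of_pow_eq_one (Finset.mem_filter.1 μ.2).2)⟩ : V)) with hqV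
  have hqC : qV.map V.subtype = ∏ μ ∈ E', (Polynomial.X - Polynomial.C μ) := by
    rw [hqV, Polynomial.map_prod, ← Finset.prod_attach E' (fun μ => Polynomial.X - Polynomial.C μ)]
    simp
  have h0C : Polynomial.aeval (ρ' y) (qV.map V.subtype) = 0 := by
    have hc : ρ' y = (LinearEquiv.conjAlgEquiv ℂ e.toLinearEquiv) (ρ y) := by
      refine LinearMap.ext fun v => ?_
      show ρ' y v = e.toLinearEquiv (ρ y (e.toLinearEquiv.symm v))
      have h := LinearMap.congr_fun (e.toIntertwiningMap.isIntertwining' y) (e.toLinearEquiv.symm v)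
      refine Eq.trans ?_ h.symm
      show ρ' y v = ρ' y (e.toLinearEquiv (e.toLinearEquiv.symm v))
      rw [LinearEquiv.apply_symm_apply]
    rw [hqC, hc, Polynomial.aeval_algHom_apply, hker', map_zero]
  have h0V : Polynomial.aeval (m y) qV = 0 := by
    have h1 : Polynomial.aeval (Φ (m y)) (qV.map V.subtype) = 0 := by
      rw [hρ', Polynomial.aeval_algHom_apply] at h0C
      exact (Matrix.toLinAlgEquiv' (R := ℂ) (n := Fin d)).injective (by rw [h0C, map_zero])
    have h2 : Φ (Polynomial.aeval (m y) qV) = 0 := by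
      rw [Polynomial.map_aeval_eq_aeval_map (φ := V.subtype) (ψ := Φ) ?_ qV (m y), h1]
      ext c i j
      simp only [hΦ, RingHom.comp_apply, RingHom.mapMatrix_apply, Matrix.map_apply,
        Matrix.algebraMap_matrix_apply]
      split_ifs <;> rfl
    exact Matrix.map_injective (fun a b h => Subtype.ext h) (h2.trans (map_zero Φ).symm)
  set r : V →+* IsLocalRing.ResidueField V := IsLocalRing.residue V with hr
  have hres : qV.map r = (Polynomial.X - 1) ^ E'.card := by
    rw [hqV, Polynomial.map_prod, ← Finset.card_attach (s := E')]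
    refine Finset.prod_eq_pow_card fun μ _ => ?_
    rw [Polynomial.map_sub, Polynomial.map_X, Polynomial.map_C, ← Polynomial.C_1]
    congr 2
    refine sub_eq_zero.1 (eq_zero_of_pow_eq_zero (n := p) ?_)
    rw [sub_pow_char, one_pow, ← map_pow, sub_eq_zero, ← map_one r]
    exact congrArg r (Subtype.ext (by simpa using (Finset.mem_filter.1 μ.2).2))
  have hnil : (σ y - 1) ^ E'.card = 0 := by
    have h3 : Polynomial.aeval (r.mapMatrix (m y)) (qV.map r) = 0 := by
      rw [← Polynomial.map_aeval_eq_aeval_map (φ := r) (ψ := r.mapMatrix) ?_ qV (m y), h0V, map_zero]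
      ext c i j
      simp [Matrix.algebraMap_matrix_apply, apply_ite r]
    rw [hres] at h3
    have h4 := congrArg (Matrix.toLinAlgEquiv' (R := IsLocalRing.ResidueField V) (n := Fin d)) h3
    rw [← Polynomial.aeval_algHom_apply, map_zero] at h4
    rw [hσ]
    simp only [map_pow, map_sub, Polynomial.aeval_X, map_one] at h4
    exact h4
  have hA : σ y ≠ 1 := fun h => by
    have h1 : y = 1 := hinj (by rw [h, map_one])
    exact hpF.out.ne_one (by rw [← hy, h1, orderOf_one])
  haveI := isAlgClosed_residue V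
  obtain ⟨φ₀, hφ₀⟩ := exists_hom_nil σ hS hsq (Subgroup.mem_zpowers y) hA hnil
    ((Nat.mul_le_mul_left 2 (Finset.card_filter_le _ _)).trans hE)
    (by rw [Module.finrank_fin_fun]; exact hd) hp5
  have hne : φ₀ y ≠ 1 := by
    rw [show φ₀ y = Matrix.SpecialLinearGroup.toPGL (sU 1) from hφ₀.trans
      (congrArg Matrix.ProjGenLinGroup.mk (Units.ext rfl)), Ne, ← MonoidHom.mem_ker,
      Matrix.SpecialLinearGroup.toPGL_ker]
    intro h
    rcases center_sl_eq h with h | h <;>
      simpa [sU] using congrFun (congrFun h 0) 1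
  obtain ⟨φ, h1, h2, h3⟩ := exists_std_hom hp5 hperf hsq hnorm φ₀ hy hne
  exact ⟨_, inferInstance, inferInstance, hch, φ, h1, h2, h3⟩

/-- Few eigenvalues force `PSL₂(p)`. -/
theorem psl_of_few_eigen (hp5 : 5 ≤ p) (hperf : commutator G = ⊤) (hsq : ¬ p ^ 2 ∣ Nat.card G)
    (hnorm : ∀ M : Subgroup G, M.Normal → M ≠ ⊤ → M ≤ Subgroup.center G)
    (ρ : Representation ℂ G (Fin d → ℂ)) (hρ : Function.Injective ρ) (hd : d < p) {y : G}
    (hy : orderOf y = p) (E : Finset ℂ) (hE : 2 * E.card ≤ p)
    (hker : Polynomial.aeval (ρ y) (∏ μ ∈ E, (Polynomial.X - Polynomial.C μ)) = 0) :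
    Nonempty (G ⧸ Subgroup.center G ≃* Matrix.ProjectiveSpecialLinearGroup (Fin 2) (ZMod p)) := by
  obtain ⟨k, _, _, _, φ, hk, hr, -⟩ := exists_hom_few hp5 hperf hsq hnorm ρ hρ hd hy E hE hker
  exact ⟨((QuotientGroup.quotientMulEquivOfEq hk.symm).trans
    (QuotientGroup.quotientKerEquivRange φ)).trans
    ((MulEquiv.subgroupCongr (hr.trans (iotaPSL_range k p).symm)).trans
      (MonoidHom.ofInjective (iotaPSL_injective k p)).symm)⟩

/-- The data of a standard map: centraliser and normaliser of an element of order `p`. -/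
theorem centralizer_of_std (hp5 : 5 ≤ p) (hperf : commutator G = ⊤) (hsq : ¬ p ^ 2 ∣ Nat.card G)
    {k : Type} [Field k] [CharP k p] (φ : G →* PGL(2, k)) {y : G} (hy : orderOf y = p)
    (hk : φ.ker = Subgroup.center G) (hr : φ.range = (iotaSL k p).range)
    (hφy : φ y = Matrix.SpecialLinearGroup.toPGL (sU 1)) :
    Subgroup.centralizer ({y} : Set G) = Subgroup.zpowers y ⊔ Subgroup.center G ∧
      (Subgroup.centralizer ({y} : Set G)).relIndex
        (Subgroup.normalizer (Subgroup.zpowers y : Set G)) = (p - 1) / 2 ∧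
      (∀ t : (ZMod p)ˣ, ∃ n : G, n * y * n⁻¹ = y ^ (((t : ZMod p) ^ 2).val)) := by
  have hp := hpF.out
  have hyp : y ^ p = 1 := hy ▸ pow_orderOf_eq_one y
  have h2 : (2 : ZMod p) ≠ 0 := SmallDim.two_ne_zero_of hp5
  have hT : iotaSL k p (sU 1) = φ y := by
    rw [hφy, iotaSL, MonoidHom.comp_apply]
    refine congrArg Matrix.SpecialLinearGroup.toPGL (Subtype.ext (Matrix.ext fun i j => ?_))
    show ZMod.castHom (dvd_refl p) k ((sU (1 : ZMod p)).1 i j) = (sU (1 : k)).1 i j
    fin_cases i <;> fin_cases j <;> simp [sU]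
  have hcen : ∀ a : ℕ, ∀ n : G, φ (n * y * n⁻¹) = φ (y ^ a) → n * y * n⁻¹ = y ^ a := by
    intro a n h
    have hc : (y ^ a)⁻¹ * (n * y * n⁻¹) ∈ Subgroup.center G := by
      rw [← hk, MonoidHom.mem_ker, map_mul, map_inv, h, inv_mul_cancel]
    set c := (y ^ a)⁻¹ * (n * y * n⁻¹) with hcd
    have e : n * y * n⁻¹ = y ^ a * c := by rw [hcd, mul_inv_cancel_left]
    have hcp : c ^ p = 1 := by
      have hcm : Commute (y ^ a) c := Subgroup.mem_center_iff.1 hc _
      have h1 : (n * y * n⁻¹) ^ p = 1 := by rw [conj_pow, hyp, mul_one, mul_inv_cancel]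
      rw [e, hcm.mul_pow, ← pow_mul, mul_comm a p, pow_mul, hyp, one_pow, one_mul] at h1
      exact h1
    rcases (Nat.dvd_prime hp).1 (orderOf_dvd_of_pow_eq_one hcp) with ho | ho
    · rw [e, orderOf_eq_one_iff.1 ho, mul_one]
    · exact absurd hc (not_mem_center_of_order hperf hsq ho)
  have hsq' : ∀ t : (ZMod p)ˣ, ∃ n : G, n * y * n⁻¹ = y ^ (((t : ZMod p) ^ 2).val) := by
    intro t
    let D : Matrix.SpecialLinearGroup (Fin 2) (ZMod p) :=
      ⟨!![(t : ZMod p), 0; 0, ((t⁻¹ : (ZMod p)ˣ) : ZMod p)], by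
        rw [Matrix.det_fin_two_of, Units.mul_inv, mul_zero, sub_zero]⟩
    obtain ⟨n, hn⟩ := MonoidHom.mem_range.1 (hr ▸ MonoidHom.mem_range.2 ⟨D, rfl⟩ :
      iotaSL k p D ∈ φ.range)
    refine ⟨n, hcen _ n ?_⟩
    rw [map_mul, map_mul, map_inv, hn, map_pow, ← hT, ← map_inv, ← map_mul, ← map_mul, ← map_pow]
    congr 1
    rw [sU_pow, ZMod.natCast_zmod_val, mul_one, mul_inv_eq_iff_eq_mul]
    refine Subtype.ext ?_
    show D.1 * (sU (1 : ZMod p)).1 = (sU ((t : ZMod p) ^ 2)).1 * D.1
    have key : ∀ u v : ZMod p, u * v = 1 → (!![u, 0; 0, v] : Matrix (Fin 2) (Fin 2) (ZMod p)) *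
        !![1, 1; 0, 1] = !![1, u ^ 2; 0, 1] * !![u, 0; 0, v] := by
      intro u v huv
      ext i j
      fin_cases i <;> fin_cases j <;> simp [Matrix.mul_apply]
      linear_combination -u * huv
    exact key _ _ (Units.mul_inv t)
  -- a conjugate power of `y` has a square exponent
  have hpre : ∀ n : G, ∀ a : ℕ, n * y * n⁻¹ = y ^ a → ∃ m : Matrix.SpecialLinearGroup (Fin 2) (ZMod p),
      iotaSL k p m = φ n ∧ m 1 0 = 0 ∧ (a : ZMod p) = m 0 0 ^ 2 := by
    intro n a ha
    obtain ⟨m, hm⟩ : φ n ∈ (iotaSL k p).range := hr ▸ ⟨n, rfl⟩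
    refine ⟨m, hm, ?_⟩
    have h0 : ((sU (1 : ZMod p)) ^ a * m)⁻¹ * (m * sU 1) ∈ (iotaSL k p).ker := by
      rw [MonoidHom.mem_ker, map_mul, map_inv, map_mul, map_mul, map_pow, hT, hm, ← map_pow, ← ha,
        ← map_mul, ← map_mul, ← map_inv, ← map_mul,
        show (n * y * n⁻¹ * n)⁻¹ * (n * y) = 1 by group, map_one]
    rw [iotaSL_ker] at h0
    set W := sU (1 : ZMod p) ^ a * m with hW
    have e : (m * sU 1).1 = W.1 * (W⁻¹ * (m * sU 1)).1 := by
      rw [← Matrix.SpecialLinearGroup.coe_mul, mul_inv_cancel_left]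
    have hdet := m.2
    rw [Matrix.det_fin_two] at hdet
    rcases center_sl_eq h0 with hc | hc
    · rw [hc, mul_one, hW, sU_pow, mul_one, Matrix.SpecialLinearGroup.coe_mul,
        Matrix.SpecialLinearGroup.coe_mul] at e
      have e1 := congrFun (congrFun e 1) 1
      have e2 := congrFun (congrFun e 0) 1
      simp [sU, Matrix.mul_apply, Matrix.vecMul, dotProduct, Fin.sum_univ_two] at e1 e2
      refine ⟨e1, ?_⟩
      rw [e1, mul_zero, sub_zero] at hdet
      linear_combination (a : ZMod p) * (-hdet) + (-m 0 0) * e2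
    · exfalso
      rw [hc, Matrix.mul_neg, mul_one, hW, sU_pow, mul_one, Matrix.SpecialLinearGroup.coe_mul,
        Matrix.SpecialLinearGroup.coe_mul] at e
      have e1 := congrFun (congrFun e 1) 0
      have e2 := congrFun (congrFun e 1) 1
      simp [sU, Matrix.mul_apply, Matrix.vecMul, dotProduct, Fin.sum_univ_two] at e1 e2
      have h10 : m 1 0 = 0 := (mul_eq_zero.1 (by linear_combination e1 :
        (2 : ZMod p) * m 1 0 = 0)).resolve_left h2
      have h11 : m 1 1 = 0 := (mul_eq_zero.1 (by linear_combination e2 - h10 :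
        (2 : ZMod p) * m 1 1 = 0)).resolve_left h2
      rw [h10, h11] at hdet
      simp at hdet
  have hC : Subgroup.centralizer ({y} : Set G) = Subgroup.zpowers y ⊔ Subgroup.center G := by
    refine le_antisymm (fun x hx => ?_) (sup_le (Subgroup.zpowers_le.2
      (Subgroup.mem_centralizer_singleton_iff.2 rfl)) (Subgroup.center_le_centralizer _))
    have hxy : x * y * x⁻¹ = y ^ 1 := by
      rw [pow_one, mul_inv_eq_iff_eq_mul]
      exact Subgroup.mem_centralizer_singleton_iff.1 hx
    obtain ⟨m, hm, h10, h00⟩ := hpre x 1 hxy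
    push_cast at h00
    set b : ZMod p := m 0 0 * m 0 1 with hb
    have hmc : (m * (sU b)⁻¹) ∈ (iotaSL k p).ker := by
      rw [iotaSL_ker, Matrix.SpecialLinearGroup.mem_center_iff]
      have hdet := m.2
      rw [Matrix.det_fin_two, h10, mul_zero, sub_zero] at hdet
      have h11 : m 1 1 = m 0 0 := by linear_combination m 0 0 * hdet + m 1 1 * h00
      refine ⟨m 0 0, by rw [Fintype.card_fin]; exact h00.symm, ?_⟩
      rw [Matrix.SpecialLinearGroup.coe_mul, Matrix.SpecialLinearGroup.coe_inv, show (sU b).1 =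
        !![1, b; 0, 1] from rfl, Matrix.adjugate_fin_two_of]
      ext i j
      fin_cases i <;> fin_cases j <;> simp [Matrix.mul_apply, Fin.sum_univ_two, h10, h11]
      linear_combination -(m 0 1) * h00
    have hφ : φ x = φ (y ^ b.val) := by
      rw [MonoidHom.mem_ker, map_mul, map_inv, mul_inv_eq_one] at hmc
      rw [← hm, hmc, map_pow, ← hT, ← map_pow, sU_pow, ZMod.natCast_zmod_val, mul_one]
    have hz : (y ^ b.val)⁻¹ * x ∈ Subgroup.center G := by
      rw [← hk, MonoidHom.mem_ker, map_mul, map_inv, hφ, inv_mul_cancel]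
    rw [← mul_inv_cancel_left (y ^ b.val) x]
    exact Subgroup.mul_mem_sup (Subgroup.npow_mem_zpowers y _) hz
  refine ⟨hC, ?_, hsq'⟩
  -- the normaliser acts by squares
  set N := Subgroup.normalizer (Subgroup.zpowers y : Set G) with hN
  have hexp : ∀ n : N, ∃ a : (ZMod p)ˣ, (n : G) * y * (n : G)⁻¹ = y ^ (a : ZMod p).val := by
    intro n
    have hS : Nat.card (Subgroup.zpowers y) = p := by rw [Nat.card_zpowers, hy]
    have hy1 : y ≠ 1 := fun h => hp.ne_one (by rw [← hy, h, orderOf_one])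
    obtain ⟨a, ha⟩ := exists_pow_eq hS (Subgroup.mem_zpowers y) hy1
      ((Subgroup.mem_normalizer_iff.1 n.2 y).1 (Subgroup.mem_zpowers y))
    have ha0 : (a : ZMod p) ≠ 0 := by
      rw [Ne, ZMod.natCast_eq_zero_iff]
      rintro ⟨c, rfl⟩
      rw [pow_mul, hyp, one_pow] at ha
      exact hy1 (conj_eq_one_iff.1 ha)
    refine ⟨Units.mk0 _ ha0, ?_⟩
    rw [Units.val_mk0, ha, ZMod.val_natCast, ← pow_eq_pow_mod a hyp]
  choose f hf using hexp
  have huniq : ∀ a b : ZMod p, y ^ a.val = y ^ b.val → a = b := fun a b h =>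
    ZMod.val_injective p (pow_injOn_Iio_orderOf
      (show a.val ∈ Set.Iio (orderOf y) by rw [hy]; exact ZMod.val_lt a)
      (show b.val ∈ Set.Iio (orderOf y) by rw [hy]; exact ZMod.val_lt b) h)
  let F : N →* (ZMod p)ˣ := MonoidHom.mk' f fun m n => Units.ext (huniq _ _ (by
    rw [← hf, Units.val_mul, ZMod.val_mul, ← pow_eq_pow_mod _ hyp, pow_mul, ← hf, conj_pow, ← hf]
    simp only [Subgroup.coe_mul, mul_inv_rev, mul_assoc]))
  have hker : F.ker = (Subgroup.centralizer ({y} : Set G)).subgroupOf N := by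
    ext n
    rw [MonoidHom.mem_ker, Subgroup.mem_subgroupOf, Subgroup.mem_centralizer_singleton_iff,
      ← mul_inv_eq_iff_eq_mul, hf]
    constructor
    · intro h
      rw [show f n = F n from rfl, h, Units.val_one, ZMod.val_one, pow_one]
    · intro h
      refine Units.ext (huniq _ _ ?_)
      rw [Units.val_one, ZMod.val_one, pow_one]
      exact h
  have hrange : F.range = (powMonoidHom 2 : (ZMod p)ˣ →* (ZMod p)ˣ).range := by
    ext a
    constructor
    · rintro ⟨n, rfl⟩
      obtain ⟨m, -, h10, hsqm⟩ := hpre n _ (hf n)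
      rw [ZMod.natCast_zmod_val] at hsqm
      have hm0 : m 0 0 ≠ 0 := fun h => (f n).ne_zero (by rw [hsqm, h]; ring)
      exact ⟨Units.mk0 _ hm0, Units.ext (show (m 0 0) ^ 2 = ((f n : (ZMod p)ˣ) : ZMod p) from hsqm.symm)⟩
    · rintro ⟨t, rfl⟩
      obtain ⟨n, hn⟩ := hsq' t
      have hnN : n ∈ N := Subgroup.mem_normalizer_fintype fun z hz => by
        obtain ⟨j, rfl⟩ := Subgroup.mem_zpowers_iff.1 hz
        rw [← conj_zpow, hn]
        exact zpow_mem (Subgroup.npow_mem_zpowers y _) j
      refine ⟨⟨n, hnN⟩, Units.ext (huniq _ _ ?_)⟩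
      show y ^ (f ⟨n, hnN⟩ : ZMod p).val = _
      rw [← hf]
      exact hn.trans (by simp)
  show ((Subgroup.centralizer ({y} : Set G)).subgroupOf N).index = _
  rw [← hker, Subgroup.index_ker, hrange, IsCyclic.card_powMonoidHom_range, Nat.card_eq_fintype_card,
    ZMod.card_units, Nat.gcd_eq_right]
  rcases hp.eq_two_or_odd with h | h <;> omega

end Perfect

end Cfsg.Agent.SmallDeg16
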