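import Cfsg.Agent.Lib.SmallDeg16.Family
import Cfsg.Agent.Lib.SmallDeg16.FewEigen
import Cfsg.Agent.Lib.Char.GlaubermanMod

/-!
A faithful irreducible character of degree sixteen of a perfect core: the prime is 19 or 31, the
centralizer of a Sylow subgroup is `P × Z`, and the restriction to `P` is known.
-/

set_option autoImplicit false
set_option linter.unusedSectionVars false
set_option linter.style.haveILetI false

namespace Cfsg.Agent.SmallDeg16

open Cfsg Cfsg.Agent.Char Cfsg.Agent.Blocks Cfsg.Agent.CCSylow Cfsg.Agent.DefOne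
open Cfsg.Agent.DegreePTwo
open scoped ComplexConjugate

universe u

/-- The multiplicities of `ζ` on `P`: the regular character minus the subgroup of order `e`. -/
def aF (p e : ℕ) (j : ZMod p) : ℤ := if j ^ e = 1 then 0 else 1

/-- The same for the opposite exceptional character. -/
def aB (p e : ℕ) (j : ZMod p) : ℤ := if (-j) ^ e = 1 then 0 else 1

theorem pe_cases {p e : ℕ} (hp : p.Prime) (hbig : 19 ≤ p) (he : e = p - 16) (hdvd : e ∣ p - 1) :
    (p = 19 ∧ e = 3) ∨ (p = 31 ∧ e = 15) := by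
  have h15 : e ∣ 15 := by
    have := Nat.dvd_sub hdvd (dvd_refl e)
    rwa [show p - 1 - e = 15 by omega] at this
  have hle := Nat.le_of_dvd (by norm_num) h15
  have : p ≤ 31 := by omega
  subst he
  interval_cases p <;> first | omega | (norm_num at hp)

variable {G : Type u} [Group G] [Fintype G] {p : ℕ}

/-- The local facts about a character of degree sixteen. -/
structure Local [NeZero p] {P V N : Subgroup G} {e : ℕ} (K : Conf p P V N e) [Fintype V]
    (ζ ζ' : IrrCharacter G) (b : IrrCharacter V) (C : Coord p P) : Prop where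
  pe : (p = 19 ∧ e = 3) ∨ (p = 31 ∧ e = 15)
  center : V = Subgroup.center G
  deg : (ζ : G → ℂ) 1 = 16
  deg' : (ζ' : G → ℂ) 1 = 16
  faith : ∀ g, (ζ : G → ℂ) g = (ζ : G → ℂ) 1 → g = 1
  lin : (b : V → ℂ) 1 = 1
  cen : Cen V (ζ : G → ℂ) b
  cen' : Cen V (ζ' : G → ℂ) b
  reg : ∀ g : G, ¬ p ∣ orderOf g → (ζ' : G → ℂ) g = (ζ : G → ℂ) g
  mz : HasMult C (ζ : G → ℂ) (aF p e)
  mz' : HasMult C (ζ' : G → ℂ) (aB p e)
  noinv : ∀ (g : G) (y : P), y ≠ 1 → g * y * g⁻¹ ≠ (y : G)⁻¹

section Kill

variable {P V N : Subgroup G} {e : ℕ} (K : Conf p P V N e)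
  [Fintype P] [Fintype V] [Fintype N] [Fintype (P →* ℂˣ)]

include K

/-- An element of `P` is killed by the product over the linear characters occurring in it. -/
theorem aeval_prod_eq_zero {d : ℕ} (ρ : Representation ℂ G (Fin d → ℂ)) (y : P)
    (E : Finset ℂ) (hE : ∀ l : P →* ℂˣ, ((l y : ℂˣ) : ℂ) ∉ E → ∀ γ : IrrCharacter V,
      co K.D ρ.character l γ = 0) (hy : y ≠ 1) :
    Polynomial.aeval (ρ (y : G)) (∏ μ ∈ E, (Polynomial.X - Polynomial.C μ)) = 0 := by
  classical
  rw [← LinearMap.ker_eq_top, ← top_le_iff, ← SmallDim.iSup_eigenspace_rep ρ (y : G)]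
  refine iSup_le fun μ v hv => ?_
  rw [Module.End.mem_eigenspace_iff] at hv
  rw [LinearMap.mem_ker]
  by_cases hμE : μ ∈ E
  · rw [← Finset.mul_prod_erase E _ hμE, mul_comm, map_mul, Module.End.mul_apply]
    simp [hv]
  by_cases hv0 : v = 0
  · rw [hv0, map_zero]
  exfalso
  have hpow : ∀ i : ℕ, ρ ((y : G) ^ i) v = μ ^ i • v := fun i => by
    induction i with
    | zero => simp
    | succ i ih => rw [pow_succ', map_mul, Module.End.mul_apply, ih, map_smul, hv, smul_smul, pow_succ]
  have hμp : μ ^ p = 1 := by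
    have h := hpow p
    rw [pow_eq_one_of_card K.hP y.2, map_one, Module.End.one_apply] at h
    exact (smul_left_injective ℂ hv0 ((one_smul ℂ v).trans h)).symm
  -- the linear character with this value
  obtain ⟨l₀, hl₀⟩ := exists_dual_ne_one K
  have hprim : IsPrimitiveRoot ((l₀ y : ℂˣ) : ℂ) p := by
    rw [IsPrimitiveRoot.iff_orderOf]
    haveI := Fact.mk K.hp
    refine orderOf_eq_prime (linear_pow_p K l₀ y) fun h => hy ((linear_eq_one_iff K hl₀ y).1 ?_)
    exact Units.ext (by simpa using h)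
  haveI : NeZero p := ⟨K.hp.ne_zero⟩
  obtain ⟨i, -, hi⟩ := hprim.eq_pow_of_pow_eq_one hμp
  set l := l₀ ^ i with hl
  have hly : ((l y : ℂˣ) : ℂ) = μ := by
    rw [hl, MonoidHom.pow_apply, Units.val_pow_eq_pow_val, hi]
  have hlz : ∀ z : P, ρ (z : G) v = ((l z : ℂˣ) : ℂ) • v := fun z => by
    obtain ⟨j, rfl⟩ := exists_pow_eq K hy z
    rw [SubmonoidClass.coe_pow, hpow, map_pow, Units.val_pow_eq_pow_val, hly]
  set c : ℂ := (Nat.card P : ℂ) with hc
  have hc0 : c ≠ 0 := Nat.cast_ne_zero.2 Nat.card_pos.ne'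
  set π : Module.End ℂ (Fin d → ℂ) := c⁻¹ • ∑ z : P, conj ((l z : ℂˣ) : ℂ) • ρ (z : G) with hπ
  have hnorm : ∀ z : P, conj ((l z : ℂˣ) : ℂ) * ((l z : ℂˣ) : ℂ) = 1 := fun z => by
    rw [conj_linear, ← Units.val_mul, ← map_mul, inv_mul_cancel, map_one, Units.val_one]
  have hmulπ : ∀ x : P, ρ (x : G) * π = ((l x : ℂˣ) : ℂ) • π := by
    intro x
    rw [hπ, mul_smul_comm, smul_comm ((l x : ℂˣ) : ℂ), Finset.mul_sum, Finset.smul_sum,
      Finset.smul_sum, Finset.smul_sum]
    refine Fintype.sum_equiv (Equiv.mulLeft x) _ _ fun z => ?_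
    congr 1
    rw [Equiv.coe_mulLeft, mul_smul_comm, ← map_mul, smul_smul, Subgroup.coe_mul, map_mul l,
      Units.val_mul, map_mul (starRingEnd ℂ), ← mul_assoc, mul_comm ((l x : ℂˣ) : ℂ), hnorm, one_mul]
  have hππ : π * π = π := by
    conv_lhs => rw [hπ, smul_mul_assoc, Finset.sum_mul]
    rw [← hπ, Finset.sum_congr rfl (g := fun _ => π) fun x _ => by
      rw [smul_mul_assoc, hmulπ, smul_smul, hnorm, one_smul], Finset.sum_const, Finset.card_univ,
      ← Nat.card_eq_fintype_card, ← Nat.cast_smul_eq_nsmul ℂ, ← hc, inv_smul_smul₀ hc0]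
  have hπv : π v = v := by
    rw [hπ, LinearMap.smul_apply, LinearMap.sum_apply,
      Finset.sum_congr rfl (g := fun _ => v) fun z _ => by
        rw [LinearMap.smul_apply, hlz, smul_smul, hnorm, one_smul],
      Finset.sum_const, Finset.card_univ, ← Nat.card_eq_fintype_card, ← Nat.cast_smul_eq_nsmul ℂ,
      ← hc, inv_smul_smul₀ hc0]
  have hcl : IsClassFunction G ρ.character := IsCharacter.isClassFunction (isCharacter_of_rep ρ)
  have htr : LinearMap.trace ℂ _ π = 0 := by
    have hzero : ∀ γ : IrrCharacter V, co K.D ρ.character l γ = 0 :=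
      hE l (hly ▸ hμE)
    have hsum : ∑ z : P, conj ((l z : ℂˣ) : ℂ) * ρ.character z = 0 := by
      have hval : ∀ z : P, ρ.character z = ∑ m : P →* ℂˣ, ∑ γ : IrrCharacter V,
          co K.D ρ.character m γ * ((m z : ℂˣ) : ℂ) * (γ : V → ℂ) 1 := fun z => by
        have h := expansion K.D hcl z 1
        rwa [OneMemClass.coe_one, mul_one] at h
      simp only [hval, Finset.mul_sum]
      rw [Finset.sum_comm]
      refine Finset.sum_eq_zero fun m _ => ?_
      rw [Finset.sum_comm]
      refine Finset.sum_eq_zero fun γ _ => ?_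
      calc _ = co K.D ρ.character m γ * (γ : V → ℂ) 1 *
            ∑ z : P, ((m z : ℂˣ) : ℂ) * conj ((l z : ℂˣ) : ℂ) := by
            rw [Finset.mul_sum]; exact Finset.sum_congr rfl fun z _ => by ring
        _ = 0 := by
            rw [orth K.D]
            split_ifs with hml
            · rw [hml, hzero γ, zero_mul, zero_mul]
            · rw [mul_zero]
    rw [hπ, map_smul, map_sum, Finset.sum_congr rfl (g := fun z : P => conj ((l z : ℂˣ) : ℂ) * ρ.character z)
      fun z _ => by rw [map_smul, smul_eq_mul]; rfl, hsum, smul_zero]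
  exact hv0 (by
    have h := LinearMap.IsIdempotentElem.isProj_range π hππ
    have h0 : Module.finrank ℂ (LinearMap.range π) = 0 := by
      have := h.trace
      rw [htr] at this
      exact_mod_cast this.symm
    rw [Submodule.finrank_eq_zero, LinearMap.range_eq_bot] at h0
    rw [← hπv, h0, LinearMap.zero_apply])

end Kill

section Orbit

variable [NeZero p] {P V N : Subgroup G} {e : ℕ} (K : Conf p P V N e)
  [Fintype P] [Fintype V] [Fintype N] [Fintype (P →* ℂˣ)]

include K

theorem lam_pow (C : Coord p P) (i j : ZMod p) : C.lam i ^ j.val = C.lam (i * j) := by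
  refine MonoidHom.ext fun z => Units.ext ?_
  obtain ⟨k, rfl⟩ := C.el_surjective z
  rw [MonoidHom.pow_apply, Units.val_pow_eq_pow_val, C.lam_el, C.lam_el,
    ← AddChar.map_nsmul_eq_pow, nsmul_eq_mul, ZMod.natCast_zmod_val]
  congr 1
  ring

theorem lT_lam (C : Coord p P) {w : N} {i : ZMod p} (hi : lT K.D w (C.lam 1) = C.lam i) (j : ZMod p) :
    lT K.D w (C.lam j) = C.lam (i * j) := by
  rw [show C.lam j = C.lam 1 ^ j.val by rw [lam_pow K, one_mul], lT_pow K, hi, lam_pow K]

/-- The indices of the orbit of a linear character form the roots of unity of order `e`. -/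
theorem orbit_index (C : Coord p P) (he : 0 < e) :
    (∀ w : N, ∀ i : ZMod p, lT K.D w (C.lam 1) = C.lam i → i ^ e = 1) ∧
      ∀ i : ZMod p, i ^ e = 1 → ∃ w : N, lT K.D w (C.lam 1) = C.lam i := by
  classical
  haveI := Fact.mk K.hp
  have hne : C.lam (1 : ZMod p) ≠ 1 := fun h => one_ne_zero (C.lam_eq_one.1 h)
  set I : Finset (ZMod p) := Finset.univ.filter fun i => ∃ w : N, lT K.D w (C.lam 1) = C.lam i with hI
  have hcard : I.card = e := by
    rw [← CCSylow.card_orb K.D hne]
    refine Finset.card_bij (fun i _ => C.lam i) (fun i hi => ?_) (fun a _ b _ h => C.lam_injective h)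
      fun l hl => ?_
    · exact (CCSylow.mem_orb K.D).2 (Finset.mem_filter.1 hi).2
    · obtain ⟨i, rfl⟩ := (lam_bijective K C).2 l
      exact ⟨i, Finset.mem_filter.2 ⟨Finset.mem_univ _, (CCSylow.mem_orb K.D).1 hl⟩, rfl⟩
  have h0 : ∀ i ∈ I, i ≠ 0 := by
    intro i hi h
    obtain ⟨w, hw⟩ := (Finset.mem_filter.1 hi).2
    rw [h, C.lam_zero] at hw
    exact hne ((lT_eq_one_iff K.D w _).1 hw)
  have hmul : ∀ i ∈ I, ∀ j ∈ I, i * j ∈ I := by
    intro i hi j hj
    obtain ⟨w, hw⟩ := (Finset.mem_filter.1 hi).2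
    obtain ⟨x, hx⟩ := (Finset.mem_filter.1 hj).2
    refine Finset.mem_filter.2 ⟨Finset.mem_univ _, w * x, ?_⟩
    rw [lT_mul, hw, lT_lam K C hx, mul_comm]
  have hpow : ∀ i ∈ I, i ^ e = 1 := by
    intro i hi
    have himg : I.image (fun x => i * x) = I := Finset.eq_of_subset_of_card_le
      (Finset.image_subset_iff.2 fun x hx => hmul i hi x hx)
      (by rw [Finset.card_image_of_injective _ (mul_right_injective₀ (h0 i hi))])
    have hprod : i ^ e * ∏ x ∈ I, x = ∏ x ∈ I, x := by
      conv_rhs => rw [← himg, Finset.prod_image (fun a _ b _ h => mul_right_injective₀ (h0 i hi) h)]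
      rw [Finset.prod_mul_distrib, Finset.prod_const, hcard]
    exact (mul_eq_right₀ (Finset.prod_ne_zero_iff.2 h0)).1 hprod
  refine ⟨fun w i hw => hpow i (Finset.mem_filter.2 ⟨Finset.mem_univ _, w, hw⟩), fun i hi => ?_⟩
  have hsub : I ⊆ (Polynomial.nthRoots e (1 : ZMod p)).toFinset := fun x hx => by
    rw [Multiset.mem_toFinset, Polynomial.mem_nthRoots he]
    exact hpow x hx
  have heq := Finset.eq_of_subset_of_card_le hsub
    ((Multiset.toFinset_card_le _).trans ((Polynomial.card_nthRoots e 1).trans hcard.ge))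
  have hmem : i ∈ I := by
    rw [heq, Multiset.mem_toFinset, Polynomial.mem_nthRoots he]
    exact hi
  exact (Finset.mem_filter.1 hmem).2

theorem nonneg_acoef_support {μ : IrrCharacter V} (hV : V ≤ Subgroup.center G) (C : Coord p P)
    (χ : IrrCharacter G) {j : ZMod p} (he : 0 < e) (hj : acoef K χ μ (C.lam j) ≠ 0) {i : ZMod p}
    (hi : i ^ e = 1) : acoef K χ μ (C.lam (i * j)) ≠ 0 := by
  obtain ⟨w, hw⟩ := (orbit_index K C he).2 i hi
  rw [← lT_lam K C hw j]
  have h := acoef_bT K χ w μ (C.lam j)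
  rw [Faithful.bT_eq K hV] at h
  rwa [h]

end Orbit

section Main

variable {P V N : Subgroup G} {e : ℕ} (K : Conf p P V N e)
  [Fintype P] [Fintype V] [Fintype N] [Fintype (P →* ℂˣ)] {M : Ideal AlgInt} [M.IsPrime]

include K

open scoped Classical in
set_option maxHeartbeats 1000000 in
/-- The character is exceptional for a linear character of the centre, with sign one. -/
theorem exceptional_form (hcore : Core p G) (hM : IsPModular p M) (hPn : ¬ P.Normal)
    (ρ : Representation ℂ G (Fin 16 → ℂ)) [ρ.IsIrreducible] (hρ : Function.Injective ρ)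
    (ζ : IrrCharacter G) (hζ : (ζ : G → ℂ) = ρ.character) :
    ((p = 19 ∧ e = 3) ∨ (p = 31 ∧ e = 15)) ∧ V = Subgroup.center G ∧
      ∃ b : IrrCharacter V, (b : V → ℂ) 1 = 1 ∧ InR K ζ b ∧
        ∃ (X Y : Finset (IrrCharacter G)) (δ : ℤ) (sg : IrrCharacter G → ℤ),
          Fam K (M := M) b X Y δ sg ∧ ζ ∈ Y ∧ δ = 1 := by
  haveI := Fact.mk K.hp
  haveI : NeZero p := ⟨K.hp.ne_zero⟩
  have hbig := hcore.big
  have hdeg1 : (ζ : G → ℂ) 1 = 16 := by
    rw [hζ, Representation.char_one]; simp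
  have hd : charDegree (ζ : G → ℂ) = 16 := by
    have h := irr_one_eq_charDegree ζ
    rw [hdeg1] at h
    exact_mod_cast h.symm
  have hf : ∀ g, (ζ : G → ℂ) g = (ζ : G → ℂ) 1 → g = 1 := by
    intro g hg
    rw [hζ] at hg
    have hn : ‖ρ.character g‖ = (Module.finrank ℂ (Fin 16 → ℂ) : ℝ) := by
      rw [hg, Representation.char_one]; simp
    obtain ⟨ω, hω⟩ := (norm_char_eq_iff ρ g).1 hn
    refine hρ ?_
    have hω1 : ω = 1 := by
      rw [Representation.char_one, Representation.character, hω, map_smul, LinearMap.trace_id,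
        smul_eq_mul] at hg
      exact (mul_eq_right₀ (by simp)).1 hg
    rw [hω, hω1, one_smul, map_one]
    rfl
  have hdp : ¬ p ∣ charDegree (ζ : G → ℂ) := by
    rw [hd]; intro h; have := Nat.le_of_dvd (by norm_num) h; omega
  obtain ⟨b, hb⟩ := exists_inR K hM hdp
  have hζc := IsIrrCharacter.isCharacter ζ.2
  have hbdeg : 0 < charDegree (b : V → ℂ) := CharX.irr_deg_pos b
  -- outside the orbit
  have hout : ∀ γ, γ ∉ orbB K b → ∀ l, nco K.D hζc l γ = 0 := by
    intro γ hγ l
    have hnR : ¬ InR K ζ γ := fun h => hγ ((mem_orbB K).2 (exists_conj_of_block K hM hb h rfl))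
    rw [const_of_not_inR K hnR l]
    by_contra hne
    have h1 := deg_eq_nat K ζ
    have h2 : (∑ m, nco K.D hζc m γ) * charDegree (γ : V → ℂ) ≤ charDegree (ζ : G → ℂ) :=
      (Finset.single_le_sum (f := fun δ : IrrCharacter V => (∑ m, nco K.D hζc m δ) *
        charDegree (δ : V → ℂ)) (fun _ _ => Nat.zero_le _) (Finset.mem_univ γ)).trans h1.le
    rw [Finset.sum_congr rfl (g := fun _ => nco K.D hζc 1 γ) (fun m _ => const_of_not_inR K hnR m),
      Finset.sum_const, Finset.card_univ, card_dual_eq K, smul_eq_mul, hd] at h2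
    have h3 : p * 1 * 1 ≤ p * nco K.D hζc 1 γ * charDegree (γ : V → ℂ) :=
      Nat.mul_le_mul (Nat.mul_le_mul le_rfl (Nat.pos_of_ne_zero hne)) (CharX.irr_deg_pos γ)
    omega
  set S := ∑ l, nco K.D hζc l b with hS
  have hdeg : (orbB K b).card * (S * charDegree (b : V → ℂ)) = 16 := by
    rw [← hd, ← deg_eq_nat K ζ, ← Finset.sum_subset (Finset.subset_univ (orbB K b))
      (fun γ _ hγ => by simp [hout γ hγ]), Finset.sum_congr rfl (g := fun _ => S * charDegree (b : V → ℂ))
      (fun γ hγ => ?_), Finset.sum_const, smul_eq_mul]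
    obtain ⟨w, rfl⟩ := (mem_orbB K).1 hγ
    rw [charDegree_bT K, hS, ← Fintype.sum_bijective _ (lT_bijective K w)
      (fun l => nco K.D hζc (lT K.D w l) (bT K.D w b)) (fun l => nco K.D hζc l (bT K.D w b)) fun _ => rfl,
      Finset.sum_congr rfl fun l _ => nco_inv K.D hζc w l b]
  obtain ⟨eb, X, Y, δ, sg, F⟩ := DefOne.exists_families K hM b
  set k := nco K.D hζc 1 b with hk
  have hnco : ∀ l, (nco K.D hζc l b : ℤ) = (k : ℤ) - acoef K ζ b l := fun l => by
    simp only [acoef, hk]; ring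
  have hSz : (S : ℤ) = (p : ℤ) * k - ∑ l, acoef K ζ b l := by
    rw [hS, Nat.cast_sum, Finset.sum_congr rfl fun l _ => hnco l, Finset.sum_sub_distrib,
      Finset.sum_const, Finset.card_univ, card_dual_eq K, nsmul_eq_mul]
  have horb : 0 < (orbB K b).card := Finset.card_pos.2 ⟨b, (mem_orbB K).2 ⟨1, bT_one K b⟩⟩
  have hSle : S ≤ 16 := by
    rw [← hdeg]
    calc S = 1 * (S * 1) := by ring
      _ ≤ _ := Nat.mul_le_mul horb (Nat.mul_le_mul le_rfl hbdeg)
  have htriv : (∀ l, l ≠ 1 → nco K.D hζc l b = 0) → False := by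
    intro h0
    obtain ⟨y, hy⟩ := exists_ne_one_P K
    refine hy (Subtype.ext (hf y ?_))
    have e1 := expansion K.D (IsCharacter.isClassFunction hζc) y 1
    have e2 := expansion K.D (IsCharacter.isClassFunction hζc) 1 1
    rw [OneMemClass.coe_one, mul_one] at e1
    simp only [OneMemClass.coe_one, mul_one] at e2
    rw [e1, e2]
    refine Finset.sum_congr rfl fun l _ => Finset.sum_congr rfl fun γ _ => ?_
    by_cases hl : l = 1
    · simp [hl]
    · have hz : nco K.D hζc l γ = 0 := by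
        by_cases hγ : γ ∈ orbB K b
        · obtain ⟨w, rfl⟩ := (mem_orbB K).1 hγ
          obtain ⟨l', rfl⟩ := (lT_bijective K w).2 l
          rw [nco_inv K.D hζc w l' b]
          exact h0 l' fun e => hl (by rw [e, lT_triv])
        · exact hout γ hγ l
      simp [co_eq K.D hζc, hz]
  have hkp : ∀ m : ℕ, 2 ≤ m → 2 * (p : ℤ) ≤ (p : ℤ) * m := fun m hm => by
    have : (p : ℤ) * 2 ≤ (p : ℤ) * m := mul_le_mul_of_nonneg_left (by omega) (by omega)
    omega
  have hY : ζ ∈ Y := by
    rcases (mem_iff_inR K F ζ).2 hb with hX | hY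
    · exfalso
      rw [Families.sum_X K F hX] at hSz
      rcases F.signX ζ hX with hs | hs <;> rw [hs] at hSz
      · rcases (show k = 0 ∨ k = 1 ∨ 2 ≤ k by omega) with h | h | h
        · rw [h] at hSz; push_cast at hSz; omega
        · refine htriv fun l hl => ?_
          have h1 := hnco l
          rw [F.rowX ζ hX l hl, hs, h] at h1
          omega
        · have := hkp k h
          omega
      · have h' : 0 ≤ (p : ℤ) * k := by positivity
        omega
    · exact hY
  have hNcard : Nat.card N = e * (p * Nat.card V) := by rw [K.D.hcard, K.hP]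
  have he_orb : (orbB K b).card * eb = e := by
    have h := card_orbB K b
    rw [F.card_stab, hNcard, ← mul_assoc] at h
    exact Nat.eq_of_mul_eq_mul_right (Nat.mul_pos K.hp.pos Nat.card_pos) h
  have hep : e ∣ p - 1 := by
    have h := dvd_card_sub_one K.D
    rwa [K.hP] at h
  have hebd : eb ∣ p - 1 := Families.eb_dvd K F
  have heble : eb ≤ p - 1 := Nat.le_of_dvd (by omega) hebd
  have hebp := Families.eb_pos K F
  rw [F.sumY ζ hY] at hSz
  rcases F.sign with hδ | hδ
  swap
  · -- few eigenvalues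
    exfalso
    rw [hδ] at hSz
    have hk0 : k = 0 := by
      by_contra h
      have : (p : ℤ) * 1 ≤ (p : ℤ) * k := mul_le_mul_of_nonneg_left (by omega) (by omega)
      omega
    rw [hk0] at hSz
    push_cast at hSz
    have hSeb : S = eb := by omega
    have he16 : e ∣ 16 := ⟨charDegree (b : V → ℂ),
      hdeg.symm.trans ((mul_assoc _ _ _).symm.trans (congrArg (· * _) (hSeb ▸ he_orb)))⟩
    have he' : e ≠ p - 1 := fun h => by
      have := Nat.le_of_dvd (by norm_num) he16
      omega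
    obtain ⟨y, hy⟩ := exists_ne_one_P K
    set L := Finset.univ.filter (fun l : P →* ℂˣ => ∃ γ, nco K.D hζc l γ ≠ 0) with hL
    have hLcard : L.card ≤ e := by
      have hsub : L ⊆ (orbB K b).biUnion fun γ =>
          Finset.univ.filter fun l => nco K.D hζc l γ ≠ 0 := by
        intro l hl
        obtain ⟨γ, hγ⟩ := (Finset.mem_filter.1 hl).2
        exact Finset.mem_biUnion.2 ⟨γ, by_contra fun h => hγ (hout γ h l),
          Finset.mem_filter.2 ⟨Finset.mem_univ _, hγ⟩⟩
      refine (Finset.card_le_card hsub).trans ((Finset.card_biUnion_le).trans ?_)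
      refine (Finset.sum_le_sum (g := fun _ => S) fun γ hγ => ?_).trans
        (by rw [Finset.sum_const, smul_eq_mul, hSeb, he_orb])
      obtain ⟨w, rfl⟩ := (mem_orbB K).1 hγ
      have hSw : ∑ l, nco K.D hζc l (bT K.D w b) = S := by
        rw [hS, ← Fintype.sum_bijective _ (lT_bijective K w)
          (fun l => nco K.D hζc (lT K.D w l) (bT K.D w b)) (fun l => nco K.D hζc l (bT K.D w b))
            fun _ => rfl, Finset.sum_congr rfl fun l _ => nco_inv K.D hζc w l b]
      rw [← hSw, Finset.card_eq_sum_ones, Finset.sum_filter]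
      exact Finset.sum_le_sum fun l _ => by split_ifs <;> omega
    obtain ⟨q, hq⟩ := hep
    have h2e : 2 * e ≤ p := by
      have hq2 : 2 ≤ q := by
        rcases (show q = 0 ∨ q = 1 ∨ 2 ≤ q by omega) with h | h | h
        · rw [h, mul_zero] at hq; omega
        · rw [h, mul_one] at hq; omega
        · exact h
      have := Nat.mul_le_mul (le_refl e) hq2
      omega
    have hyp : orderOf (y : G) = p := orderOf_P' K y.2 (fun h => hy (Subtype.ext h))
    set E := L.image (fun l : P →* ℂˣ => ((l y : ℂˣ) : ℂ)) with hE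
    have hEcard : 2 * E.card ≤ p := by
      have := (Finset.card_image_le (s := L) (f := fun l : P →* ℂˣ => ((l y : ℂˣ) : ℂ))).trans hLcard
      rw [hE]
      omega
    have hker := aeval_prod_eq_zero K ρ y E (fun l hl γ => by
      rw [← hζ, co_eq K.D hζc]
      have : nco K.D hζc l γ = 0 := by_contra fun h =>
        hl (Finset.mem_image.2 ⟨l, Finset.mem_filter.2 ⟨Finset.mem_univ _, γ, h⟩, rfl⟩)
      rw [this, Nat.cast_zero]) hy
    obtain ⟨k', _, _, _, φ, hkφ, hrφ, hφy⟩ := exists_hom_few (by omega) hcore.perf hcore.sq hcore.norm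
      ρ hρ (by omega) hyp E hEcard hker
    obtain ⟨-, hidx, -⟩ := centralizer_of_std (by omega) hcore.perf hcore.sq φ hyp hkφ hrφ hφy
    have hzP : Subgroup.zpowers (y : G) = P := Subgroup.eq_of_le_of_card_ge
      (Subgroup.zpowers_le.2 y.2) (by rw [Nat.card_zpowers, hyp, K.hP])
    rw [hzP, centralizer_singleton_eq K.hp K.hP y.2 (fun h => hy (Subtype.ext h)), ← K.hN,
      Subgroup.relIndex, K.D.he] at hidx
    have hp2 := K.hp.odd_of_ne_two (by omega)
    obtain ⟨r, hr⟩ := hp2
    have hle := Nat.le_of_dvd (by norm_num) he16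
    have hp17 : 9 ≤ e := by omega
    have : e = 16 := by
      obtain ⟨n, hn, hne⟩ := (Nat.dvd_prime_pow Nat.prime_two).1 (show e ∣ 2 ^ 4 from he16)
      rcases (show n = 0 ∨ n = 1 ∨ n = 2 ∨ n = 3 ∨ n = 4 by omega) with h | h | h | h | h <;>
        rw [h] at hne <;> omega
    rw [show p = 33 by omega] at hbig
    have := K.hp
    rw [show p = 33 by omega] at this
    norm_num at this
  rw [hδ] at hSz
  have hk1 : k = 1 := by
    rcases (show k = 0 ∨ k = 1 ∨ 2 ≤ k by omega) with h | h | h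
    · rw [h] at hSz; push_cast at hSz; omega
    · exact h
    · have := hkp k h
      omega
  rw [hk1] at hSz
  push_cast at hSz
  have hSeb : S + eb = p := by omega
  have heb2 : eb ≠ p - 1 := by
    intro h
    refine htriv fun l hl => ?_
    have h1 : nco K.D hζc 1 b + nco K.D hζc l b ≤ S := by
      rw [hS, ← Finset.sum_pair hl.symm (f := fun m => nco K.D hζc m b)]
      exact Finset.sum_le_sum_of_subset (Finset.subset_univ _)
    omega
  have h2eb : 2 * eb ≤ p - 1 := by
    obtain ⟨q, hq⟩ := hebd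
    rw [hq]
    have hq2 : 2 ≤ q := by
      rcases (show q = 0 ∨ q = 1 ∨ 2 ≤ q by omega) with h | h | h
      · rw [h, mul_zero] at hq; omega
      · rw [h, mul_one] at hq; omega
      · exact h
    calc 2 * eb = eb * 2 := mul_comm _ _
      _ ≤ eb * q := Nat.mul_le_mul le_rfl hq2
  have hmul1 : (orbB K b).card * charDegree (b : V → ℂ) = 1 := by
    by_contra hne
    have h2 : 2 ≤ (orbB K b).card * charDegree (b : V → ℂ) := by
      have := Nat.mul_pos horb hbdeg
      omega
    have h3 : 2 * S ≤ 16 := by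
      rw [← hdeg, show (orbB K b).card * (S * charDegree (b : V → ℂ)) =
        (orbB K b).card * charDegree (b : V → ℂ) * S by ring]
      exact Nat.mul_le_mul h2 le_rfl
    omega
  obtain ⟨horb1, hb1⟩ := mul_eq_one.1 hmul1
  rw [horb1, hb1, one_mul, mul_one] at hdeg
  have hb1' : (b : V → ℂ) 1 = 1 := by rw [irr_one_eq_charDegree, hb1, Nat.cast_one]
  have hZC : Subgroup.center G ≤ Subgroup.centralizer (P : Set G) :=
    Subgroup.center_le_centralizer _
  have hres : ∀ v : V, (ζ : G → ℂ) v = (ζ : G → ℂ) 1 * (b : V → ℂ) v := by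
    intro v
    have h1 := expansion_one K.D (IsCharacter.isClassFunction hζc) v
    rw [h1, Finset.sum_eq_single b (fun γ _ hγ => ?_) (fun h => absurd (Finset.mem_univ _) h),
      irr_one_eq_charDegree, hd, ← hdeg, hS, Nat.cast_sum]
    · congr 1
      exact Finset.sum_congr rfl fun l _ => co_eq K.D hζc l b
    · have hγ' : γ ∉ orbB K b := fun h => hγ (Finset.card_le_one.1 horb1.le γ h b
        ((mem_orbB K).2 ⟨1, bT_one K b⟩))
      simp [co_eq K.D hζc, hout γ hγ']
  have hVc : V = Subgroup.center G := by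
    refine le_antisymm (fun v hv => ?_) fun z hz => mem_V_of_regular K (hZC hz) fun h => ?_
    · refine mem_center_of_norm ζ.2 hf (d := 16) (by rw [hdeg1]; norm_num) ?_
      rw [hres ⟨v, hv⟩, norm_mul, hdeg1]
      obtain ⟨f, hf'⟩ := exists_hom_of_degree_one (IsIrrCharacter.isCharacter b.2) hb1'
      rw [hf']
      show ‖(16 : ℂ)‖ * ‖((f ⟨v, hv⟩ : ℂˣ) : ℂ)‖ = _
      rw [norm_eq_one_of_pow (z := ((f ⟨v, hv⟩ : ℂˣ) : ℂ)) (m := Nat.card V) Nat.card_pos.ne' ?_,
        mul_one]
      · simp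
      rw [← Units.val_pow_eq_pow_val, ← map_pow, pow_card_eq_one', map_one, Units.val_one]
    · exact not_dvd_center K.hp K.hP K.hsq hPn
        (h.trans (Subgroup.orderOf_dvd_natCard _ hz))
  have hVle : V ≤ Subgroup.center G := hVc.le
  obtain rfl : e = eb := (Faithful.eb_eq K hVle F).symm
  refine ⟨?_, hVc, b, hb1', hb, X, Y, δ, sg, ⟨hM, hVle, hb1', F⟩, hY, hδ⟩
  exact pe_cases K.hp hbig (by omega) hep

set_option maxHeartbeats 1000000 in
open scoped Classical in
/-- The local facts. -/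
theorem exists_local [NeZero p] (hcore : Core p G) (hM : IsPModular p M) (hPn : ¬ P.Normal)
    (ρ : Representation ℂ G (Fin 16 → ℂ)) [ρ.IsIrreducible] (hρ : Function.Injective ρ)
    (ζ : IrrCharacter G) (hζ : (ζ : G → ℂ) = ρ.character) :
    ∃ (ζ' : IrrCharacter G) (b : IrrCharacter V) (C : Coord p P), Local K ζ ζ' b C := by
  haveI := Fact.mk K.hp
  obtain ⟨hpe, hVc, b, hb1, hb, X, Y, δ, sg, F, hζY, hδ⟩ :=
    exceptional_form K hcore hM hPn ρ hρ ζ hζ
  have he : 0 < e := by rcases hpe with ⟨-, h⟩ | ⟨-, h⟩ <;> omega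
  have hodd : Odd e := by rcases hpe with ⟨-, h⟩ | ⟨-, h⟩ <;> rw [h] <;> decide
  have hpsum : (p : ℤ) - e = 16 := by rcases hpe with ⟨h1, h2⟩ | ⟨h1, h2⟩ <;> rw [h1, h2] <;> norm_num
  -- a linear character in the fibre
  obtain ⟨l, hl⟩ : ∃ l, acoef K ζ b l ≠ 0 := hb
  have hl1 : l ≠ 1 := fun h => hl (by rw [h, acoef_one])
  obtain ⟨C, hC⟩ := exists_coord K hl1
  have hlam1 : C.lam 1 = l := by
    refine MonoidHom.ext fun z => ?_
    rw [Coord.lam, ZMod.val_one, MonoidHom.pow_apply, pow_one, hC]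
  -- fibres
  have hfib : ∀ θ ∈ Y, ∀ j : ZMod p, j ≠ 0 → acoef K θ b (C.lam j) ≠ 0 →
      ∀ i, acoef K θ b (C.lam i) = if (i * j⁻¹) ^ e = 1 then δ else 0 := by
    intro θ hθ j hj hne i
    set S := Finset.univ.filter (fun i : ZMod p => acoef K θ b (C.lam i) ≠ 0) with hS
    set T := Finset.univ.filter (fun i : ZMod p => (i * j⁻¹) ^ e = 1) with hT
    have hsub : T ⊆ S := fun x hx => Finset.mem_filter.2 ⟨Finset.mem_univ _, by
      have h := nonneg_acoef_support K F.hV C θ he hne (i := x * j⁻¹) (Finset.mem_filter.1 hx).2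
      rwa [mul_assoc, inv_mul_cancel₀ hj, mul_one] at h⟩
    have hScard : S.card = e := by
      refine Eq.trans ?_ (F.card_fibre hθ)
      refine Finset.card_bij (fun i _ => C.lam i) (fun i hi => ?_) (fun a _ b _ h => C.lam_injective h)
        fun m hm => ?_
      · exact Finset.mem_filter.2 ⟨Finset.mem_univ _, (Finset.mem_filter.1 hi).2⟩
      · obtain ⟨i, rfl⟩ := (lam_bijective K C).2 m
        exact ⟨i, Finset.mem_filter.2 ⟨Finset.mem_univ _, (Finset.mem_filter.1 hm).2⟩, rfl⟩
    have hTcard : e ≤ T.card := by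
      have hne' : C.lam (1 : ZMod p) ≠ 1 := fun h => one_ne_zero (C.lam_eq_one.1 h)
      rw [← CCSylow.card_orb K.D hne']
      refine Finset.card_le_card_of_surjOn (fun i => C.lam (i * j⁻¹)) fun m hm => ?_
      obtain ⟨w, rfl⟩ := (CCSylow.mem_orb K.D).1 (Finset.mem_coe.1 hm)
      obtain ⟨r, hr⟩ := (lam_bijective K C).2 (lT K.D w (C.lam 1))
      refine ⟨r * j, Finset.mem_coe.2 (Finset.mem_filter.2 ⟨Finset.mem_univ _, ?_⟩), ?_⟩
      · rw [mul_assoc, mul_inv_cancel₀ hj, mul_one]
        exact (orbit_index K C he).1 w r hr.symm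
      · show C.lam (r * j * j⁻¹) = _
        rw [mul_assoc, mul_inv_cancel₀ hj, mul_one, hr]
    have hST : S = T := (Finset.eq_of_subset_of_card_le hsub (hScard.le.trans hTcard)).symm
    by_cases hi : (i * j⁻¹) ^ e = 1
    · rw [if_pos hi]
      have hm : i ∈ S := hST ▸ Finset.mem_filter.2 ⟨Finset.mem_univ _, hi⟩
      exact (F.fam.valY θ hθ _).resolve_left (Finset.mem_filter.1 hm).2
    · rw [if_neg hi]
      by_contra hne'
      have hm : i ∈ T := hST ▸ Finset.mem_filter.2 ⟨Finset.mem_univ _, hne'⟩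
      exact hi (Finset.mem_filter.1 hm).2
  -- multiplicities of an exceptional character
  have hmult : ∀ θ ∈ Y, ∀ j : ZMod p, j ≠ 0 → acoef K θ b (C.lam j) ≠ 0 → (θ : G → ℂ) 1 = 16 →
      HasMult C (θ : G → ℂ) (fun i => if (i * j⁻¹) ^ e = 1 then 0 else 1) := by
    intro θ hθ j hj hne h16
    have h0 := hasMult_irr K C θ hb1 F.hV (F.cen_of_inR (F.inR_Y hθ))
    set k : ℕ := nco K.D (IsIrrCharacter.isCharacter θ.2) 1 b with hk
    have hn : ∀ i : ZMod p, (nco K.D (IsIrrCharacter.isCharacter θ.2) (C.lam i) b : ℤ) =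
        (k : ℤ) - acoef K θ b (C.lam i) := fun i => by simp only [acoef, hk]; ring
    have hk1 : (k : ℤ) = 1 := by
      have hdeg := h0.degree
      rw [h16] at hdeg
      have h16' : (16 : ℤ) = ∑ i : ZMod p, ((k : ℤ) - acoef K θ b (C.lam i)) := by
        rw [← Finset.sum_congr rfl fun i _ => hn i]
        exact_mod_cast hdeg
      rw [Finset.sum_sub_distrib, Finset.sum_const, Finset.card_univ, ZMod.card, nsmul_eq_mul,
        (lam_bijective K C).sum_comp (fun m => acoef K θ b m), F.fam.sumY θ hθ, hδ, one_mul] at h16'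
      exact mul_left_cancel₀ (show (p : ℤ) ≠ 0 by exact_mod_cast K.hp.ne_zero)
        (show (p : ℤ) * k = p * 1 by omega)
    refine h0.congr fun i => ?_
    rw [hn i, hk1, hfib θ hθ j hj hne i, hδ]
    split_ifs <;> norm_num
  have hreg1 : ¬ p ∣ orderOf (1 : G) := by simpa using K.hp.ne_one
  have hdeg1 : (ζ : G → ℂ) 1 = 16 := by rw [hζ, Representation.char_one]; simp
  have hagree : ∀ θ ∈ Y, ∀ g : G, ¬ p ∣ orderOf g → (θ : G → ℂ) g = (ζ : G → ℂ) g :=
    fun θ hθ g hg => Families.agree K F.fam hθ hζY hg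
  obtain ⟨ζ', hζ'Y, hζ'v⟩ := F.exists_th (l := C.lam (-1))
    (fun h => neg_ne_zero.2 one_ne_zero (C.lam_eq_one.1 h))
  have hζ'ne : acoef K ζ' b (C.lam (-1)) ≠ 0 := by
    rw [hζ'v ζ' hζ'Y, if_pos rfl, hδ]; norm_num
  refine ⟨ζ', b, C, hpe, hVc, hdeg1, (hagree ζ' hζ'Y 1 hreg1).trans hdeg1, ?_, hb1,
    F.cen_of_inR (F.inR_Y hζY), F.cen_of_inR (F.inR_Y hζ'Y), hagree ζ' hζ'Y, ?_, ?_, ?_⟩
  · intro g hg
    rw [hdeg1, hζ] at hg
    have hn : ‖ρ.character g‖ = (Module.finrank ℂ (Fin 16 → ℂ) : ℝ) := by rw [hg]; simp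
    obtain ⟨ω, hω⟩ := (norm_char_eq_iff ρ g).1 hn
    refine hρ ?_
    have hω1 : ω = 1 := by
      rw [Representation.character, hω, map_smul, LinearMap.trace_id, smul_eq_mul,
        Module.finrank_fin_fun] at hg
      push_cast at hg
      linear_combination hg / 16
    rw [hω, hω1, one_smul, map_one]
    rfl
  · refine (hmult ζ hζY 1 one_ne_zero (by rwa [hlam1]) hdeg1).congr fun i => ?_
    simp [aF]
  · refine (hmult ζ' hζ'Y (-1) (neg_ne_zero.2 one_ne_zero) hζ'ne
      ((hagree ζ' hζ'Y 1 hreg1).trans hdeg1)).congr fun i => ?_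
    simp [aB]
  · intro g y hy hg
    have hgN : g ∈ N := K.D.hTI _ y.2 (fun h => hy (Subtype.ext h)) g (by rw [hg]; exact P.inv_mem y.2)
    have hall : ∀ z : P, g * (z : G) * g⁻¹ = (z : G)⁻¹ := fun z => by
      obtain ⟨n, rfl⟩ := exists_pow_eq K hy z
      rw [SubmonoidClass.coe_pow, ← conj_pow, hg, inv_pow]
    have hlT : lT K.D ⟨g, hgN⟩ (C.lam 1) = C.lam (-1) := by
      refine MonoidHom.ext fun z => Units.ext ?_
      obtain ⟨i, rfl⟩ := C.el_surjective z
      have hinv : (⟨g * (C.el i : G) * g⁻¹, K.D.hNP g hgN _ (C.el i).2⟩ : P) = C.el (-i) := by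
        refine Subtype.ext ?_
        show g * (C.el i : G) * g⁻¹ = _
        rw [hall]
        refine inv_eq_of_mul_eq_one_right ?_
        rw [← Subgroup.coe_mul, ← C.el_add, add_neg_cancel, C.el_zero]
        rfl
      rw [lT_apply]
      show ((C.lam 1 (⟨g * (C.el i : G) * g⁻¹, _⟩ : P) : ℂˣ) : ℂ) = _
      rw [hinv, C.lam_el, C.lam_el]
      congr 1
      ring
    have hneg := (orbit_index K C he).1 ⟨g, hgN⟩ (-1) hlT
    rw [hodd.neg_one_pow] at hneg
    have h2 : ((2 : ℕ) : ZMod p) = 0 := by push_cast; linear_combination -hneg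
    rw [ZMod.natCast_eq_zero_iff] at h2
    have := Nat.le_of_dvd (by norm_num) h2
    have := hcore.big
    omega

end Main

end Cfsg.Agent.SmallDeg16
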