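import Cfsg.Agent.Lib.SmallDeg16.Constituent

/-!
Elements with a large eigenspace and abelian normal `p`-subgroups are central.
-/

set_option autoImplicit false
set_option linter.unusedSectionVars false
set_option linter.style.haveILetI false

namespace Cfsg.Agent.SmallDeg16

open Module
open scoped Classical

universe u

/-- In degree `n` the Sylow subgroup has order `p` modulo the centre, unless it is normal. -/
def SqBound (p n : ℕ) : Prop :=
  ∀ (G : Type u) [Group G] [Finite G] (ρ : Representation ℂ G (Fin n → ℂ)),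
    Function.Injective ρ → ρ.IsIrreducible → ¬ PNormal p G →
      ¬ p ^ 2 ∣ (Subgroup.center G).index

variable {G : Type u} [Group G] [Finite G] {p : ℕ} [hpF : Fact p.Prime] {n : ℕ}

theorem Inv.eq_top {ρ : Representation ℂ G (Fin n → ℂ)} [ρ.IsIrreducible]
    {W : Submodule ℂ (Fin n → ℂ)} (hW : Inv ρ W) (h : W ≠ ⊥) : W = ⊤ := by
  rcases IsSimpleOrder.eq_bot_or_eq_top (⟨W, fun g _ hw => hW g _ hw⟩ : Subrepresentation ρ) with
    e | e
  · exact absurd (congrArg Subrepresentation.toSubmodule e) h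
  · exact congrArg Subrepresentation.toSubmodule e

/-- Scalars are central. -/
theorem mem_center_of_scalar (ρ : Representation ℂ G (Fin n → ℂ)) (hρ : Function.Injective ρ)
    {z : G} {c : ℂ} (h : ∀ v, ρ z v = c • v) : z ∈ Subgroup.center G :=
  Subgroup.mem_center_iff.2 fun g => hρ (LinearMap.ext fun v => by
    rw [map_mul, map_mul, Module.End.mul_apply, Module.End.mul_apply, h, h, map_smul])

theorem isPGroup_of_comm (hc : ∀ a b : G, a * b = b * a) {s : Set G}
    (hs : ∀ x ∈ s, IsPElt p x) (htop : Subgroup.closure s = ⊤) : IsPGroup p G :=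
  PNormal.isPGroup_of_closure (fun P => ⟨fun a ha g => by rwa [hc g a, mul_inv_cancel_right]⟩) hs htop

theorem pnormal_of_comm (hc : ∀ a b : G, a * b = b * a) : PNormal p G :=
  fun _ => ⟨fun a ha g => by rwa [hc g a, mul_inv_cancel_right]⟩

/-- An abelian normal `p`-subgroup is central, unless the Sylow subgroups are normal. -/
theorem le_center_of_normal (ρ : Representation ℂ G (Fin n → ℂ)) [ρ.IsIrreducible]
    (hρ : Function.Injective ρ) (hp19 : 19 ≤ p) (hn : n ≤ 16) (hG : ¬ PNormal p G)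
    (A : Subgroup G) [hA : A.Normal] (hAp : IsPGroup p A) : A ≤ Subgroup.center G := by
  intro a ha
  set N := Subgroup.centralizer (A : Set G) with hN
  haveI hNn : N.Normal := ⟨fun z hz g => Subgroup.mem_centralizer_iff.2 fun b hb => by
    have h1 := Subgroup.mem_centralizer_iff.1 hz (g⁻¹ * b * g) (by simpa using hA.conj_mem b hb g⁻¹)
    calc b * (g * z * g⁻¹) = g * (g⁻¹ * b * g * z) * g⁻¹ := by group
      _ = g * (z * (g⁻¹ * b * g)) * g⁻¹ := by rw [h1]
      _ = g * z * g⁻¹ * b := by group⟩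
  have hpN : ∀ x : G, IsPElt p x → x ∈ N := fun x hx => by
    obtain ⟨P, hP⟩ := hx.isPGroup_zpowers.exists_le_sylow
    haveI := hA
    have hAP : A ≤ (P : Subgroup G) := IsPGroup.le_sylow_of_normal hAp P
    exact Subgroup.mem_centralizer_iff.2 fun b hb =>
      Char.Blich.comm_of_small ρ hρ (by omega) _ P.isPGroup' b (hAP hb) x
        (hP (Subgroup.mem_zpowers x))
  have hN' : ¬ PNormal p N := fun h => hG (pnormal_of_normal N hpN h)
  haveI : Nontrivial (Fin n → ℂ) := Char.nontrivial_of_irreducible ρ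
  let σ : Representation ℂ N (Fin n → ℂ) := MonoidHom.comp ρ N.subtype
  obtain ⟨U, -, hU⟩ := exists_minInv (ρ := σ) (W := ⊤) (fun _ _ _ => Submodule.mem_top) top_ne_bot
  have hinv : ∀ g : G, Inv σ (U.map (ρ g)) := by
    rintro g m _ ⟨u, hu, rfl⟩
    have hm : g⁻¹ * m * g ∈ N := by simpa using hNn.conj_mem (m : G) m.2 g⁻¹
    refine ⟨σ ⟨_, hm⟩ u, hU.inv _ u hu, ?_⟩
    show ρ g (ρ (g⁻¹ * (m : G) * g) u) = ρ (m : G) (ρ g u)
    rw [← Module.End.mul_apply, ← map_mul, ← Module.End.mul_apply, ← map_mul, ← mul_assoc,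
      ← mul_assoc, mul_inv_cancel, one_mul]
  have hinj : ∀ g : G, Function.Injective (ρ g) := fun g u v h => by
    have := congrArg (ρ g⁻¹) h
    rwa [← Module.End.mul_apply, ← Module.End.mul_apply, ← map_mul, inv_mul_cancel, map_one,
      Module.End.one_apply, Module.End.one_apply] at this
  have hdim : ∀ g : G, finrank ℂ (U.map (ρ g)) = finrank ℂ U := fun g =>
    (Submodule.equivMapOfInjective (ρ g) (hinj g) U).finrank_eq.symm
  have htop : ⨆ g : G, U.map (ρ g) = ⊤ := by
    refine Inv.eq_top (ρ := ρ) (fun h w hw => ?_) fun h => hU.ne_bot (le_bot_iff.1 ?_)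
    · have hle : (⨆ g : G, U.map (ρ g)) ≤ (⨆ g : G, U.map (ρ g)).comap (ρ h) := by
        refine iSup_le fun g => ?_
        rintro _ ⟨u, hu, rfl⟩
        refine Submodule.mem_iSup_of_mem (h * g) ⟨u, hu, ?_⟩
        rw [map_mul, Module.End.mul_apply]
      exact hle hw
    · rw [← h]
      exact fun u hu => Submodule.mem_iSup_of_mem 1 ⟨u, hu, by rw [map_one, Module.End.one_apply]⟩
  rcases Nat.lt_or_ge (finrank ℂ U) 9 with h8 | h9
  · exact absurd (pnormal_of_spanning σ (hρ.comp N.subtype_injective) hp19 _ hinv htop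
      (fun g => by rw [hdim]; omega)) hN'
  have hfix : ∀ g : G, U.map (ρ g) = U := by
    intro g
    have hne : U ⊓ U.map (ρ g) ≠ ⊥ := by
      intro h
      have h1 := Submodule.finrank_sup_add_finrank_inf_eq U (U.map (ρ g))
      have h2 := (Submodule.finrank_le (U ⊔ U.map (ρ g))).trans_eq (Module.finrank_fin_fun ℂ (n := n))
      rw [h, finrank_bot, hdim] at h1
      omega
    rcases hU.min (U ⊓ U.map (ρ g)) inf_le_left
      (fun m w hw => ⟨hU.inv m w hw.1, hinv g m w hw.2⟩) with e | e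
    · exact absurd e hne
    · exact (Submodule.eq_of_le_of_finrank_le (inf_eq_left.1 e) (hdim g).le).symm
  have hUtop : U = ⊤ := by
    rw [← htop]
    simp [hfix]
  obtain ⟨c, hc⟩ := hU.scalar (ρ a) (fun m => by
    show ρ a * ρ (m : G) = ρ (m : G) * ρ a
    rw [← map_mul, ← map_mul, Subgroup.mem_centralizer_iff.1 m.2 a ha])
    (fun u _ => hUtop ▸ Submodule.mem_top)
  exact mem_center_of_scalar ρ hρ fun v => hc v (hUtop ▸ Submodule.mem_top)

/-- The conjugates of an element with a large eigenspace generate `p`-groups with it. -/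
theorem isPGroup_pair (IH : ∀ m < n, SqBound.{u} p m) (ρ : Representation ℂ G (Fin n → ℂ))
    (hρ : Function.Injective ρ) (hp19 : 19 ≤ p) (hn : n ≤ 16) {y : G} (hy : orderOf y = p) {μ : ℂ}
    (hμ : 9 ≤ finrank ℂ (Module.End.eigenspace (ρ y) μ)) (g : G) :
    IsPGroup p (Subgroup.closure ({y, g * y * g⁻¹} : Set G)) := by
  set y' := g * y * g⁻¹ with hy'
  set H := Subgroup.closure ({y, y'} : Set G) with hH
  let σ : Representation ℂ H (Fin n → ℂ) := MonoidHom.comp ρ H.subtype
  have hσ : Function.Injective σ := hρ.comp H.subtype_injective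
  set a : H := ⟨y, Subgroup.subset_closure (by simp)⟩ with ha
  set b : H := ⟨y', Subgroup.subset_closure (by simp)⟩ with hb
  have hab : Subgroup.closure ({a, b} : Set H) = ⊤ := by
    refine eq_top_iff.2 fun x _ => ?_
    have hle : H ≤ (Subgroup.closure ({a, b} : Set H)).map H.subtype := (Subgroup.closure_le _).2 (by
      rintro z (rfl | rfl)
      · exact ⟨a, Subgroup.subset_closure (by simp), rfl⟩
      · exact ⟨b, Subgroup.subset_closure (by simp), rfl⟩)
    obtain ⟨x', hx', e⟩ := hle x.2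
    rwa [show x' = x from Subtype.ext e] at hx'
  have hyp : y ^ p = 1 := hy ▸ pow_orderOf_eq_one y
  have hap : a ^ p = 1 := Subtype.ext hyp
  have hbp : b ^ p = 1 := Subtype.ext (by
    show y' ^ p = 1
    rw [hy', conj_pow, hyp, mul_one, mul_inv_cancel])
  refine isPGroup_of_sep (fun U : {U : Submodule ℂ (Fin n → ℂ) // MinInv σ U} => invKer σ U.2.inv)
    (fun x hx => hσ ?_) fun U => ?_
  · have hle : ⨆ U : {U : Submodule ℂ (Fin n → ℂ) // MinInv σ U}, U.1 ≤ LinearMap.ker (σ x - 1) :=
      iSup_le fun U w hw => by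
        rw [LinearMap.mem_ker, LinearMap.sub_apply, Module.End.one_apply,
          mem_invKer.1 (hx U) w hw, sub_self]
    rw [iSup_minInv, top_le_iff, LinearMap.ker_eq_top, sub_eq_zero] at hle
    rw [hle, map_one]
  obtain ⟨U, hU⟩ := U
  set K := invKer σ hU.inv with hK
  let π := QuotientGroup.mk' K
  have hgen : Subgroup.closure ({π a, π b} : Set (H ⧸ K)) = ⊤ := by
    have h := congrArg (Subgroup.map π) hab
    rwa [MonoidHom.map_closure, Set.image_pair,
      Subgroup.map_top_of_surjective π (QuotientGroup.mk'_surjective K)] at h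
  have hpe : ∀ z ∈ ({π a, π b} : Set (H ⧸ K)), IsPElt p z := by
    rintro z (rfl | rfl)
    · exact ⟨1, by rw [pow_one, ← map_pow, hap, map_one]⟩
    · exact ⟨1, by rw [pow_one, ← map_pow, hbp, map_one]⟩
  show IsPGroup p (H ⧸ K)
  refine PNormal.isPGroup_of_closure ?_ hpe hgen
  by_contra hQ
  have hnc : π a * π b ≠ π b * π a := fun h => hQ (pnormal_of_comm fun u v => by
    have key : ∀ u : H ⧸ K, ∀ z ∈ ({π a, π b} : Set (H ⧸ K)), (∀ w ∈ ({π a, π b} : Set (H ⧸ K)),
        u * w = w * u) → u * z = z * u := fun u z hz h => h z hz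
    have hgc : ∀ w ∈ ({π a, π b} : Set (H ⧸ K)), ∀ z ∈ ({π a, π b} : Set (H ⧸ K)), w * z = z * w := by
      rintro w (rfl | rfl) z (rfl | rfl)
      · rfl
      · exact h
      · exact h.symm
      · rfl
    have h1 : ∀ w ∈ ({π a, π b} : Set (H ⧸ K)), ∀ x : H ⧸ K, w * x = x * w := by
      intro w hw x
      have hle : Subgroup.closure ({π a, π b} : Set (H ⧸ K)) ≤
          Subgroup.centralizer ({w} : Set (H ⧸ K)) :=
        (Subgroup.closure_le _).2 fun z hz =>
          Subgroup.mem_centralizer_singleton_iff.2 (hgc z hz w hw)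
      exact (Subgroup.mem_centralizer_singleton_iff.1 (hle (hgen ▸ Subgroup.mem_top x))).symm
    have hle : Subgroup.closure ({π a, π b} : Set (H ⧸ K)) ≤
        Subgroup.centralizer ({v} : Set (H ⧸ K)) :=
      (Subgroup.closure_le _).2 fun z hz => Subgroup.mem_centralizer_singleton_iff.2 (h1 z hz v)
    exact Subgroup.mem_centralizer_singleton_iff.1 (hle (hgen ▸ Subgroup.mem_top u)))
  -- the common eigenvectors
  set W := Module.End.eigenspace (ρ y) μ with hW
  set F := W ⊓ Module.End.eigenspace (ρ y') μ with hF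
  have hscal : ∀ h : H, ∃ c : ℂ, ∀ v ∈ F, σ h v = c • v := by
    intro h
    have hh : h ∈ Subgroup.closure ({a, b} : Set H) := hab ▸ Subgroup.mem_top h
    refine Subgroup.closure_induction (fun z hz => ?_) ⟨1, fun v _ => by simp⟩
      (fun z w _ _ hz hw => ?_) (fun z _ hz => ?_) hh
    · refine ⟨μ, fun v hv => ?_⟩
      rcases hz with rfl | rfl
      · exact Module.End.mem_eigenspace_iff.1 hv.1
      · exact Module.End.mem_eigenspace_iff.1 hv.2
    · obtain ⟨c, hc⟩ := hz; obtain ⟨c', hc'⟩ := hw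
      exact ⟨c' * c, fun v hv => by
        rw [map_mul, Module.End.mul_apply, hc' v hv, map_smul, hc v hv, smul_smul]⟩
    · obtain ⟨c, hc⟩ := hz
      refine ⟨c⁻¹, fun v hv => ?_⟩
      have h1 : c • σ z⁻¹ v = v := by
        rw [← map_smul, ← hc v hv, ← Module.End.mul_apply, ← map_mul, inv_mul_cancel, map_one,
          Module.End.one_apply]
      rcases eq_or_ne c 0 with rfl | hc0
      · rw [zero_smul] at h1
        rw [← h1, map_zero, smul_zero]
      · rw [eq_inv_smul_iff₀ hc0, h1]
  have hdisj : U ⊓ F = ⊥ := by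
    have hinv : Inv σ (U ⊓ F) := fun h w hw => by
      obtain ⟨c, hc⟩ := hscal h
      refine ⟨hU.inv h w hw.1, ?_⟩
      rw [hc w hw.2]
      exact Submodule.smul_mem _ c hw.2
    rcases hU.min _ inf_le_left hinv with e | e
    · exact e
    · exfalso
      refine hnc ?_
      rw [← map_mul, ← map_mul]
      refine QuotientGroup.eq.2 (mem_invKer.2 fun w hw => ?_)
      obtain ⟨c, hc⟩ := hscal a
      obtain ⟨c', hc'⟩ := hscal b
      have hwF : w ∈ F := inf_eq_left.1 e hw
      have e1 : σ (a * b) w = σ (b * a) w := by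
        rw [map_mul, map_mul, Module.End.mul_apply, Module.End.mul_apply, hc' w hwF, map_smul,
          hc w hwF, map_smul, hc' w hwF, smul_comm]
      rw [map_mul, Module.End.mul_apply, ← e1, ← Module.End.mul_apply, ← map_mul, inv_mul_cancel,
        map_one, Module.End.one_apply]
  have hWd : finrank ℂ (Module.End.eigenspace (ρ y') μ) = finrank ℂ W := by
    rw [hy', finrank_eigenspace_conj]
  have hfn : ∀ X : Submodule ℂ (Fin n → ℂ), finrank ℂ X ≤ n := fun X =>
    (Submodule.finrank_le X).trans_eq (Module.finrank_fin_fun ℂ (n := n))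
  have h1 := Submodule.finrank_sup_add_finrank_inf_eq W (Module.End.eigenspace (ρ y') μ)
  rw [hWd, ← hF] at h1
  have h2 := Submodule.finrank_sup_add_finrank_inf_eq U F
  rw [hdisj, finrank_bot] at h2
  have h3 := Submodule.finrank_sup_add_finrank_inf_eq U W
  have h4 := hfn (W ⊔ Module.End.eigenspace (ρ y') μ)
  have h5 := hfn (U ⊔ F)
  have h6 := hfn (U ⊔ W)
  set m := finrank ℂ U with hm
  have hmn : m < n := by omega
  obtain ⟨τ, hτ, hτi, hτe⟩ := exists_quot_rep σ hU.inv
  haveI := hτi hU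
  have hind := IH m hmn (H ⧸ K) τ hτ (hτi hU) hQ
  have hac : π a ∉ Subgroup.center (H ⧸ K) := fun h => hnc (Subgroup.mem_center_iff.1 h _).symm
  have hao : orderOf (π a) = p := orderOf_eq_prime (by rw [← map_pow, hap, map_one])
    fun h => hac (h ▸ one_mem _)
  obtain ⟨P, hP⟩ : ∃ P : Sylow p (H ⧸ K), ¬ (P : Subgroup (H ⧸ K)).Normal := by
    simpa [PNormal] using hQ
  have hle := mult_le τ hτ hp19 (by omega) P hP hind hao hac μ
  rw [show π a = ((a : H) : H ⧸ K) from rfl, hτe] at hle
  have e : (σ a) = ρ y := rfl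
  rw [e, ← hW] at hle
  omega

/-- An element of order `p` with a large eigenspace is central. -/
theorem mem_center_of_mult (IH : ∀ m < n, SqBound.{u} p m) (ρ : Representation ℂ G (Fin n → ℂ))
    [ρ.IsIrreducible] (hρ : Function.Injective ρ) (hp19 : 19 ≤ p) (hn : n ≤ 16)
    (hG : ¬ PNormal p G) {y : G} (hy : orderOf y = p) {μ : ℂ}
    (hμ : 9 ≤ finrank ℂ (Module.End.eigenspace (ρ y) μ)) : y ∈ Subgroup.center G := by
  have hyp : y ^ p = 1 := hy ▸ pow_orderOf_eq_one y
  have hcomm : ∀ g : G, Commute y (g * y * g⁻¹) := fun g =>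
    Char.Blich.comm_of_small ρ hρ (by omega) _ (isPGroup_pair IH ρ hρ hp19 hn hy hμ g) y
      (Subgroup.subset_closure (by simp)) _ (Subgroup.subset_closure (by simp))
  have hcc : ∀ a ∈ Group.conjugatesOfSet ({y} : Set G), ∀ b ∈ Group.conjugatesOfSet ({y} : Set G),
      Commute a b := by
    intro a ha b hb
    obtain ⟨z, hz, hac⟩ := Group.mem_conjugatesOfSet_iff.1 ha
    obtain ⟨z', hz', hbc⟩ := Group.mem_conjugatesOfSet_iff.1 hb
    rw [Set.mem_singleton_iff] at hz hz'
    subst hz
    subst hz'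
    obtain ⟨g, rfl⟩ := isConj_iff.1 hac
    obtain ⟨h, rfl⟩ := isConj_iff.1 hbc
    have h1 := (hcomm (g⁻¹ * h)).map (MulAut.conj g).toMonoidHom
    simp only [MulEquiv.coe_toMonoidHom, MulAut.conj_apply] at h1
    rwa [show g * (g⁻¹ * h * z' * (g⁻¹ * h)⁻¹) * g⁻¹ = h * z' * h⁻¹ by group] at h1
  set A := Subgroup.normalClosure ({y} : Set G) with hA
  have hAc : ∀ a ∈ A, ∀ b ∈ Group.conjugatesOfSet ({y} : Set G), Commute a b := fun a ha b hb => by
    have hle : A ≤ Subgroup.centralizer ({b} : Set G) := (Subgroup.closure_le _).2 fun x hx =>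
      Subgroup.mem_centralizer_singleton_iff.2 (hcc x hx b hb).eq
    exact Subgroup.mem_centralizer_singleton_iff.1 (hle ha)
  have hAA : ∀ a ∈ A, ∀ b ∈ A, Commute a b := fun a ha b hb => by
    have hle : A ≤ Subgroup.centralizer ({a} : Set G) := (Subgroup.closure_le _).2 fun x hx =>
      Subgroup.mem_centralizer_singleton_iff.2 (hAc a ha x hx).symm.eq
    exact (Subgroup.mem_centralizer_singleton_iff.1 (hle hb)).symm
  have hall : ∀ a ∈ A, a ^ p = 1 := fun a ha => by
    refine Subgroup.closure_induction (p := fun x _ => x ^ p = 1) (fun x hx => ?_) (one_pow p)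
      (fun u v hu hv e1 e2 => by rw [(hAA u hu v hv).mul_pow, e1, e2, one_mul])
      (fun u _ e => by rw [inv_pow, e, inv_one]) ha
    obtain ⟨z, hz, hxc⟩ := Group.mem_conjugatesOfSet_iff.1 hx
    rw [Set.mem_singleton_iff] at hz
    subst hz
    obtain ⟨g, rfl⟩ := isConj_iff.1 hxc
    rw [conj_pow, hyp, mul_one, mul_inv_cancel]
  have hAp : IsPGroup p A := fun a => ⟨1, by rw [pow_one]; exact Subtype.ext (hall a a.2)⟩
  exact le_center_of_normal ρ hρ hp19 hn hG A hAp (Subgroup.subset_normalClosure rfl)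

/-- An element whose centraliser has a non-normal Sylow subgroup has a large eigenspace. -/
theorem exists_mult (ρ : Representation ℂ G (Fin n → ℂ)) (hρ : Function.Injective ρ) (hp19 : 19 ≤ p)
    {y : G} (hy : ¬ PNormal p (Subgroup.centralizer ({y} : Set G))) :
    ∃ μ : ℂ, 9 ≤ finrank ℂ (Module.End.eigenspace (ρ y) μ) := by
  haveI : Fintype G := Fintype.ofFinite G
  by_contra h
  push Not at h
  refine hy (pnormal_of_spanning (MonoidHom.comp ρ (Subgroup.centralizer ({y} : Set G)).subtype)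
    (hρ.comp (Subgroup.centralizer ({y} : Set G)).subtype_injective) hp19
    (fun μ : ℂ => Module.End.eigenspace (ρ y) μ) (fun μ c w hw => ?_)
    (SmallDim.iSup_eigenspace_rep ρ y) fun μ => by have := h μ; omega)
  rw [Module.End.mem_eigenspace_iff] at hw ⊢
  show ρ y (ρ (c : G) w) = μ • ρ (c : G) w
  rw [← Module.End.mul_apply, ← map_mul, ← Subgroup.mem_centralizer_singleton_iff.1 c.2, map_mul,
    Module.End.mul_apply, hw, map_smul]

/-- An element of order `p` with such a centraliser is central. -/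
theorem mem_center_of_centralizer (IH : ∀ m < n, SqBound.{u} p m)
    (ρ : Representation ℂ G (Fin n → ℂ)) [ρ.IsIrreducible] (hρ : Function.Injective ρ)
    (hp19 : 19 ≤ p) (hn : n ≤ 16) (hG : ¬ PNormal p G) {y : G} (hy : orderOf y = p)
    (hc : ¬ PNormal p (Subgroup.centralizer ({y} : Set G))) : y ∈ Subgroup.center G := by
  obtain ⟨μ, hμ⟩ := exists_mult ρ hρ hp19 hc
  exact mem_center_of_mult IH ρ hρ hp19 hn hG hy hμ

end Cfsg.Agent.SmallDeg16
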