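import Cfsg.Agent.Lib.SmallDeg16.Invol

/-!
The squares of the character of degree sixteen, and elementary facts about a family.
-/

set_option autoImplicit false
set_option linter.unusedSectionVars false
set_option linter.style.haveILetI false

namespace Cfsg.Agent.SmallDeg16

open Cfsg Cfsg.Agent.Char Cfsg.Agent.Blocks Cfsg.Agent.CCSylow Cfsg.Agent.DefOne
open Cfsg.Agent.DegreePTwo Cfsg.Agent.CharExtend
open scoped ComplexConjugate

universe u

variable {G : Type u} [Group G]

/-- The exterior square. -/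
noncomputable def altF (f : G → ℂ) : G → ℂ := fun g => (f g * f g - f (g * g)) / 2

/-- The symmetric square. -/
noncomputable def symF (f : G → ℂ) : G → ℂ := fun g => (f g * f g + f (g * g)) / 2

/-- The product. -/
def prdF (f f' : G → ℂ) : G → ℂ := fun g => f g * f' g

/-- The multiplicities of the value at squares. -/
def aSq (p e : ℕ) [NeZero p] (j : ZMod p) : ℤ := ∑ k, if 2 * k = j then aF p e k else 0

/-- The multiplicities of the square. -/
def aTwo (p e : ℕ) [NeZero p] (j : ZMod p) : ℤ := ∑ i, aF p e i * aF p e (j - i)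

/-- The multiplicities of the exterior square. -/
def aA (p e : ℕ) [NeZero p] (j : ZMod p) : ℤ := (aTwo p e j - aSq p e j) / 2

/-- The multiplicities of the symmetric square. -/
def aS (p e : ℕ) [NeZero p] (j : ZMod p) : ℤ := (aTwo p e j + aSq p e j) / 2

/-- The multiplicities of the product. -/
def aP (p e : ℕ) [NeZero p] (j : ZMod p) : ℤ := ∑ i, aF p e i * aB p e (j - i)

theorem table_nineteen : ((∀ j : ZMod 19, 2 ∣ aTwo 19 3 j - aSq 19 3 j) ∧
    aA 19 3 0 = 6 ∧ aS 19 3 0 = 7 ∧ aP 19 3 0 = 16) := by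
  refine ⟨?_, ?_, ?_, ?_⟩ <;> decide +kernel

theorem table_thirtyone : ((∀ j : ZMod 31, 2 ∣ aTwo 31 15 j - aSq 31 15 j) ∧
    aA 31 15 0 = 0 ∧ aS 31 15 0 = 1 ∧ aP 31 15 0 = 16) := by
  refine ⟨?_, ?_, ?_, ?_⟩ <;> decide +kernel

variable [Fintype G]

theorem mult_add {f f' : G → ℂ} (hf : IsCharacter G f) (hf' : IsCharacter G f') (χ : IrrCharacter G) :
    mult (fun g => f g + f' g) χ = mult f χ + mult f' χ := by
  have h := mult_eq (IsCharacter.add hf hf') χ
  rw [classInner_add_left, mult_eq hf, mult_eq hf'] at h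
  exact_mod_cast h.symm

theorem mult_self (χ : IrrCharacter G) : mult (χ : G → ℂ) χ = 1 := by
  have h := mult_eq (IsIrrCharacter.isCharacter χ.2) χ
  rw [classInner_self_irr χ.2] at h
  exact_mod_cast h.symm

theorem principal_apply (g : G) : (principal G : G → ℂ) g = 1 := rfl

theorem charDegree_principal : charDegree (principal G : G → ℂ) = 1 := by
  have h := irr_one_eq_charDegree (principal G)
  rw [principal_apply] at h
  exact_mod_cast h.symm

/-- A character of degree one of a perfect group is principal. -/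
theorem eq_principal_of_one (hperf : commutator G = ⊤) {χ : IrrCharacter G}
    (h : charDegree (χ : G → ℂ) = 1) : χ = principal G := by
  obtain ⟨f, hf⟩ := exists_hom_of_degree_one (IsIrrCharacter.isCharacter χ.2)
    (by rw [irr_one_eq_charDegree, h, Nat.cast_one])
  refine Subtype.ext (funext fun g => ?_)
  rw [hf, hom_eq_one hperf f, principal_apply]
  simp

variable {p : ℕ} {P V N : Subgroup G} {e : ℕ} {K : Conf p P V N e}
  [Fintype P] [Fintype V] [Fintype N] [Fintype (P →* ℂˣ)]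

/-- The determinant of a central element. -/
theorem cen_pow_degree (hperf : commutator G = ⊤) {μ : IrrCharacter V} (hμ : (μ : V → ℂ) 1 = 1)
    {χ : IrrCharacter G} (hc : Cen V (χ : G → ℂ) μ) (v : V) :
    (μ : V → ℂ) v ^ charDegree (χ : G → ℂ) = 1 := by
  obtain ⟨m, ρ, hρ, hχ⟩ := id χ.2
  have h1 := irr_one_eq_charDegree χ
  rw [← hχ, Representation.char_one, Module.finrank_fin_fun] at h1
  rw [show charDegree (χ : G → ℂ) = m by rw [← hχ]; exact_mod_cast h1.symm]
  have hμn : ‖(μ : V → ℂ) v‖ = 1 := by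
    obtain ⟨g, hg⟩ := lin_hom hμ
    rw [hg]
    refine norm_eq_one_of_pow (m := Nat.card V) Nat.card_pos.ne' ?_
    rw [← Units.val_pow_eq_pow_val, ← map_pow, pow_card_eq_one', map_one, Units.val_one]
  have hval : ρ.character (v : G) = (μ : V → ℂ) v * (Module.finrank ℂ (Fin m → ℂ) : ℂ) := by
    rw [← Representation.char_one ρ, hχ]
    exact hc.apply v
  obtain ⟨c, hcs⟩ := (norm_char_eq_iff ρ (v : G)).1 (by
    rw [hval, norm_mul, hμn, one_mul, Complex.norm_natCast])
  have hcμ : c = (μ : V → ℂ) v := by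
    rw [Representation.character, hcs, map_smul, LinearMap.trace_id, smul_eq_mul] at hval
    exact mul_right_cancel₀ (Nat.cast_ne_zero.2 (finrank_pos_of_irreducible ρ).ne') hval
  have hdet : LinearMap.det (ρ (v : G)) = 1 := by
    rw [← detHom_apply, DFunLike.congr_fun (hom_eq_one hperf (detHom ρ)) (v : G), MonoidHom.one_apply,
      Units.val_one]
  rw [hcs, LinearMap.det_smul, LinearMap.det_id, mul_one, Module.finrank_fin_fun] at hdet
  rwa [← hcμ]

section FamFacts

variable [NeZero p] {M : Ideal AlgInt} [M.IsPrime] {μ : IrrCharacter V} {X Y : Finset (IrrCharacter G)} {δ : ℤ}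
  {sg : IrrCharacter G → ℤ}

theorem Fam.deg_X (F : Fam K (M := M) μ X Y δ sg) {χ : IrrCharacter G} (hχ : χ ∈ X) :
    (p : ℤ) ∣ (charDegree (χ : G → ℂ) : ℤ) - sg χ := by
  classical
  have h := Faithful.congr_deg K F.hV F.hM F.lin (F.inR_X hχ)
  rw [← Finset.add_sum_erase _ _ (Finset.mem_univ (1 : P →* ℂˣ)), acoef_one, zero_add,
    Finset.sum_congr rfl fun l hl => F.fam.rowX χ hχ l (Finset.ne_of_mem_erase hl), Finset.sum_const,
    Finset.card_erase_of_mem (Finset.mem_univ _), Finset.card_univ, card_dual K.D, K.hP, nsmul_eq_mul,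
    Nat.cast_sub K.hp.one_le, Nat.cast_one] at h
  have h2 := Int.dvd_sub h (dvd_mul_right (p : ℤ) (sg χ))
  convert h2 using 1
  ring

theorem Fam.deg_Y (F : Fam K (M := M) μ X Y δ sg) {θ : IrrCharacter G} (hθ : θ ∈ Y) :
    (p : ℤ) ∣ (charDegree (θ : G → ℂ) : ℤ) + δ * e := by
  have h := Faithful.congr_deg K F.hV F.hM F.lin (F.inR_Y hθ)
  rwa [F.fam.sumY θ hθ] at h

theorem Fam.mem_of_cen (F : Fam K (M := M) μ X Y δ sg) {η : IrrCharacter G}
    (hc : Cen V (η : G → ℂ) μ) (hd : ¬ p ∣ charDegree (η : G → ℂ)) : η ∈ X ∨ η ∈ Y := by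
  by_contra h
  rw [not_or] at h
  exact hd (F.dvd_of_outside (IsIrrCharacter.isCharacter η.2) hc h.1 h.2 (by rw [mult_self]; omega))

theorem Fam.deg_Y_eq (F : Fam K (M := M) μ X Y δ sg) {θ θ' : IrrCharacter G} (hθ : θ ∈ Y)
    (hθ' : θ' ∈ Y) : charDegree (θ : G → ℂ) = charDegree (θ' : G → ℂ) := by
  have h := Families.agree K F.fam hθ hθ' (g := 1) (by simpa using K.hp.ne_one)
  rw [irr_one_eq_charDegree, irr_one_eq_charDegree] at h
  exact_mod_cast h

theorem Fam.deg_rel (F : Fam K (M := M) μ X Y δ sg) {θ : IrrCharacter G} (hθ : θ ∈ Y) :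
    ∑ χ ∈ X, sg χ * (charDegree (χ : G → ℂ) : ℤ) + δ * (charDegree (θ : G → ℂ) : ℤ) = 0 := by
  have h := Families.relation K F.fam hθ (g := 1) (by simpa using K.hp.ne_one)
  simp only [irr_one_eq_charDegree] at h
  exact_mod_cast h

/-- The principal character lies in the family of a trivial central character. -/
theorem Fam.principal_mem (F : Fam K (M := M) μ X Y δ sg) (htriv : ∀ v : V, (μ : V → ℂ) v = 1)
    (hp2 : p ≠ 2) (hY : ∀ θ ∈ Y, charDegree (θ : G → ℂ) ≠ 1) : principal G ∈ X ∧ sg (principal G) = 1 := by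
  have hc : Cen V (principal G : G → ℂ) μ := fun v g => by
    rw [principal_apply, principal_apply, htriv, one_mul]
  have hX : principal G ∈ X := by
    refine (F.mem_of_cen hc ?_).resolve_right fun h => hY _ h charDegree_principal
    rw [charDegree_principal, Nat.dvd_one]
    exact K.hp.ne_one
  refine ⟨hX, (F.fam.signX _ hX).resolve_right fun h => ?_⟩
  have h2 := F.deg_X hX
  rw [h, charDegree_principal] at h2
  have h3 : p ∣ 2 := Int.natCast_dvd_natCast.1 (by simpa using h2)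
  exact hp2 ((Nat.prime_dvd_prime_iff_eq K.hp Nat.prime_two).1 h3)

end FamFacts

section LocalFacts

variable [NeZero p] {ζ ζ' : IrrCharacter G} {b : IrrCharacter V} {C : Coord p P}
  (L : Local K ζ ζ' b C)

include L

theorem Local.charDegree_eq : charDegree (ζ : G → ℂ) = 16 := by
  have h1 := irr_one_eq_charDegree ζ
  rw [L.deg] at h1
  exact_mod_cast h1.symm

theorem Local.isChar : IsCharacter G (altF (ζ : G → ℂ)) ∧ IsCharacter G (symF (ζ : G → ℂ)) ∧
    IsCharacter G (prdF (ζ : G → ℂ) (ζ' : G → ℂ)) :=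
  ⟨DegreePTwo.isCharacter_extSquare (IsIrrCharacter.isCharacter ζ.2),
    M12Uniq.isCharacter_symSquare (IsIrrCharacter.isCharacter ζ.2),
    IsCharacter.mul (IsIrrCharacter.isCharacter ζ.2) (IsIrrCharacter.isCharacter ζ'.2)⟩

theorem Local.degrees : altF (ζ : G → ℂ) 1 = ((120 : ℕ) : ℂ) ∧ symF (ζ : G → ℂ) 1 = ((136 : ℕ) : ℂ) ∧
    prdF (ζ : G → ℂ) (ζ' : G → ℂ) 1 = ((256 : ℕ) : ℂ) := by
  refine ⟨?_, ?_, ?_⟩ <;> simp [altF, symF, prdF, L.deg, L.deg'] <;> norm_num

/-- The central character of the squares. -/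
theorem Local.exists_mu : ∃ μ : IrrCharacter V, (μ : V → ℂ) 1 = 1 ∧
    ∀ v : V, (μ : V → ℂ) v = (b : V → ℂ) v * (b : V → ℂ) v := by
  obtain ⟨g, hg⟩ := lin_hom L.lin
  refine ⟨⟨_, isIrrCharacter_linear (g * g)⟩, ?_, fun v => ?_⟩
  · show (((g * g) 1 : ℂˣ) : ℂ) = 1
    simp
  · show (((g * g) v : ℂˣ) : ℂ) = _
    rw [hg, MonoidHom.mul_apply, Units.val_mul]

theorem Local.sq_cen (v : V) (g : G) :
    (ζ : G → ℂ) ((v : G) * g * ((v : G) * g)) = (b : V → ℂ) v * (b : V → ℂ) v * (ζ : G → ℂ) (g * g) := by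
  have hc := Subgroup.mem_center_iff.1 (L.hV v.2) g
  rw [show (v : G) * g * ((v : G) * g) = ((v * v : V) : G) * (g * g) by
    rw [Subgroup.coe_mul]
    simp only [mul_assoc]
    rw [← mul_assoc g (v : G), hc, mul_assoc (v : G) g], L.cen, lin_mul L.lin]

theorem Local.cen_sq {μ : IrrCharacter V} (hμ : ∀ v : V, (μ : V → ℂ) v = (b : V → ℂ) v * (b : V → ℂ) v) :
    Cen V (altF (ζ : G → ℂ)) μ ∧ Cen V (symF (ζ : G → ℂ)) μ ∧
      Cen V (prdF (ζ : G → ℂ) (ζ' : G → ℂ)) μ := by
  refine ⟨fun v g => ?_, fun v g => ?_, fun v g => ?_⟩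
  · simp only [altF]; rw [L.cen, L.sq_cen, hμ]; ring
  · simp only [symF]; rw [L.cen, L.sq_cen, hμ]; ring
  · simp only [prdF]; rw [L.cen, L.cen', hμ]; ring

theorem Local.mult_sq (hev : ∀ j : ZMod p, 2 ∣ aTwo p e j - aSq p e j) :
    HasMult C (altF (ζ : G → ℂ)) (aA p e) ∧ HasMult C (symF (ζ : G → ℂ)) (aS p e) ∧
      HasMult C (prdF (ζ : G → ℂ) (ζ' : G → ℂ)) (aP p e) := by
  have h2 : HasMult C (fun g => (ζ : G → ℂ) g * (ζ : G → ℂ) g) (aTwo p e) := L.mz.mul L.mz
  have hs : HasMult C (fun g => (ζ : G → ℂ) (g * g)) (aSq p e) := L.mz.sq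
  refine ⟨?_, ?_, L.mz.mul L.mz'⟩
  · have h := h2.half hs (s := -1) (c := aA p e) fun j => by
      simp only [aA]
      rw [Int.mul_ediv_cancel' (hev j)]
      ring
    intro i
    rw [← h i]
    simp only [altF]
    push_cast
    ring
  · have h := h2.half hs (s := 1) (c := aS p e) fun j => by
      simp only [aS]
      rw [Int.mul_ediv_cancel' (by
        have h' := Int.dvd_add (hev j) (dvd_mul_right (2 : ℤ) (aSq p e j))
        convert h' using 1
        ring), one_mul]
    intro i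
    rw [← h i]
    simp only [symF]
    push_cast
    ring

/-- The values at a zero of `ζ` squaring into the centre. -/
theorem Local.sq_values {s : G} {z : V} (hz : s * s = z) (h0 : (ζ : G → ℂ) s = 0) :
    altF (ζ : G → ℂ) s = -8 * (b : V → ℂ) z ∧ symF (ζ : G → ℂ) s = 8 * (b : V → ℂ) z ∧
      prdF (ζ : G → ℂ) (ζ' : G → ℂ) s = 0 := by
  refine ⟨?_, ?_, ?_⟩ <;> simp only [altF, symF, prdF, h0, hz, L.cen.apply z, L.deg] <;> ring

/-- The product agrees with the square on the regular elements. -/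
theorem Local.prd_reg {g : G} (hg : ¬ p ∣ orderOf g) :
    prdF (ζ : G → ℂ) (ζ' : G → ℂ) g = altF (ζ : G → ℂ) g + symF (ζ : G → ℂ) g := by
  simp only [prdF, altF, symF, L.reg g hg]
  ring

/-- `ζ` is not real. -/
theorem Local.conj_ne : (ζ : G → ℂ) ≠ fun g => conj ((ζ : G → ℂ) g) := by
  intro h
  have hm : HasMult C (ζ : G → ℂ) fun j => aF p e (-j) := fun i => by
    have hi := L.mz i
    rw [congrFun h (C.el i : G), hi, map_sum, ← Equiv.sum_comp (Equiv.neg (ZMod p))]
    refine Finset.sum_congr rfl fun j _ => ?_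
    rw [Equiv.neg_apply, map_mul, map_intCast, ← AddChar.map_neg_eq_conj, mul_neg, neg_neg]
  have h1 := L.mz.co_eq K C L.lin L.hV L.cen 1
  rw [hm.co_eq K C L.lin L.hV L.cen 1] at h1
  have h2 : aF p e (-1) = aF p e 1 := by exact_mod_cast h1
  rcases L.pe with ⟨rfl, rfl⟩ | ⟨rfl, rfl⟩ <;> revert h2 <;> decide

/-- The square has no principal constituent. -/
theorem Local.mult_sq_principal : mult (altF (ζ : G → ℂ)) (principal G) = 0 ∧
    mult (symF (ζ : G → ℂ)) (principal G) = 0 := by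
  obtain ⟨ha, hs, -⟩ := L.isChar
  have h := mult_eq (IsCharacter.add ha hs) (principal G)
  have h0 : classInner (fun g => altF (ζ : G → ℂ) g + symF (ζ : G → ℂ) g) (principal G : G → ℂ) = 0 := by
    refine Eq.trans ?_ (classInner_irr_of_ne ζ.2 (IsIrrCharacter.conj ζ.2) L.conj_ne)
    simp only [classInner, principal_apply, map_one, mul_one, altF, symF, Complex.conj_conj]
    refine congrArg _ (Finset.sum_congr rfl fun g _ => ?_)
    ring
  have h1 : classInner (fun g => altF (ζ : G → ℂ) g + symF (ζ : G → ℂ) g) (principal G : G → ℂ) =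
      (mult (fun g => altF (ζ : G → ℂ) g + symF (ζ : G → ℂ) g) (principal G) : ℂ) :=
    mult_eq (IsCharacter.add ha hs) (principal G)
  rw [h0, mult_add ha hs] at h1
  have h2 : 0 = mult (altF (ζ : G → ℂ)) (principal G) + mult (symF (ζ : G → ℂ)) (principal G) := by
    exact_mod_cast h1
  omega

/-- An odd degree forces the trivial central character. -/
theorem Local.trivial_of_odd (hcore : Core p G) {μ : IrrCharacter V}
    (hμ1 : (μ : V → ℂ) 1 = 1) (hμ : ∀ v : V, (μ : V → ℂ) v = (b : V → ℂ) v * (b : V → ℂ) v)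
    {χ : IrrCharacter G} (hc : Cen V (χ : G → ℂ) μ) (hodd : Odd (charDegree (χ : G → ℂ))) (v : V) :
    (μ : V → ℂ) v = 1 := by
  have h16 := cen_pow_degree hcore.perf L.lin L.cen v
  rw [L.charDegree_eq] at h16
  have h8 : (μ : V → ℂ) v ^ 8 = 1 := by rw [hμ, ← h16]; ring
  have hf := cen_pow_degree hcore.perf hμ1 hc v
  have hg : Nat.gcd (charDegree (χ : G → ℂ)) 8 = 1 :=
    Nat.Coprime.pow_right 3 (Nat.coprime_two_right.2 hodd)
  rw [← pow_one ((μ : V → ℂ) v), ← hg]
  exact pow_gcd_eq_one.2 ⟨hf, h8⟩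

end LocalFacts

end Cfsg.Agent.SmallDeg16
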