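import Cfsg.Agent.Lib.SmallDeg16.Kill19
import Cfsg.Agent.Lib.SmallDeg16.Reduce

/-!
The large primes of a core with a character of degree sixteen.
-/

set_option autoImplicit false
set_option linter.unusedSectionVars false
set_option linter.style.haveILetI false

namespace Cfsg.Agent.SmallDeg16

open Cfsg Cfsg.Agent.Char

universe u

variable {G : Type u} [Group G] [Fintype G] {p : ℕ}

/-- The prime of a core with a character of degree sixteen. -/
theorem core_prime_cases (hcore : Core p G) (ρ : Representation ℂ G (Fin 16 → ℂ)) [ρ.IsIrreducible]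
    (hρ : Function.Injective ρ) : p = 19 ∨ p = 31 := by
  haveI : NeZero p := ⟨hcore.prime.ne_zero⟩
  refine with_setup hcore ρ hρ ?_
  intro P V N e K _ _ _ _ M _ ζ ζ' b C L μ X Y δ sg F hμ θ hθ
  exact L.pe.imp And.left And.left

/-- The primes of at least nineteen dividing the order. -/
theorem prime_dvd_cases (hcore : Core p G) (ρ : Representation ℂ G (Fin 16 → ℂ)) [ρ.IsIrreducible]
    (hρ : Function.Injective ρ) (q : ℕ) (hq : q.Prime) (hq19 : 19 ≤ q) (hdvd : q ∣ Nat.card G) :
    q = 19 ∨ q = 31 := by
  haveI := Fact.mk hq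
  obtain ⟨Q⟩ : Nonempty (Sylow q G) := inferInstance
  by_cases hQ : (Q : Subgroup G).Normal
  · by_cases htop : (Q : Subgroup G) = ⊤
    · obtain ⟨k, hk⟩ := Q.isPGroup'.exists_card_eq
      have h := hcore.dvd
      rw [show Nat.card G = Nat.card (Q : Subgroup G) by rw [htop, Subgroup.card_top], hk] at h
      rw [← (Nat.prime_dvd_prime_iff_eq hcore.prime hq).1 (hcore.prime.dvd_of_dvd_pow h)]
      exact core_prime_cases hcore ρ hρ
    · exfalso
      have hdQ : q ∣ Nat.card (Q : Subgroup G) := by
        rw [Q.card_eq_multiplicity]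
        exact dvd_pow_self q ((Nat.Prime.dvd_iff_one_le_factorization hq Nat.card_pos.ne').1 hdvd |>
          fun h => by omega)
      obtain ⟨x, hx⟩ := exists_prime_orderOf_dvd_card' q hdQ
      exact not_mem_center_of_derived (p := q) ρ hρ (by omega) (x := (x : G))
        (by rw [Subgroup.orderOf_coe, hx]) (hcore.perf ▸ Subgroup.mem_top _)
        (hcore.norm _ hQ htop x.2)
  · obtain ⟨L, hLn, hL, hLirr⟩ := exists_core_of_rep ρ hρ hq19 le_rfl Q hQ
    haveI : Fintype L := Fintype.ofFinite L
    haveI := hLirr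
    exact core_prime_cases hL (MonoidHom.comp ρ L.subtype : Representation ℂ L (Fin 16 → ℂ))
      (hρ.comp L.subtype_injective)

end Cfsg.Agent.SmallDeg16
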