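import Cfsg.Agent.Lib.SmallDeg16.PNormal

/-!
Minimal invariant subspaces of a complex representation and the action on them.
-/

set_option autoImplicit false
set_option linter.unusedSectionVars false
set_option linter.style.haveILetI false

namespace Cfsg.Agent.SmallDeg16

open Module
open scoped Classical

universe u

variable {G : Type u} [Group G] [Finite G] {V : Type*} [AddCommGroup V] [Module ℂ V]
  [FiniteDimensional ℂ V] {p : ℕ} [hpF : Fact p.Prime]

/-- A subspace invariant under every element. -/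
def Inv (ρ : Representation ℂ G V) (W : Submodule ℂ V) : Prop := ∀ g, ∀ w ∈ W, ρ g w ∈ W

/-- A minimal invariant subspace. -/
structure MinInv (ρ : Representation ℂ G V) (U : Submodule ℂ V) : Prop where
  inv : Inv ρ U
  ne_bot : U ≠ ⊥
  min : ∀ W ≤ U, Inv ρ W → W = ⊥ ∨ W = U

/-- The action on an invariant subspace. -/
def invRep (ρ : Representation ℂ G V) {W : Submodule ℂ V} (hW : Inv ρ W) :
    Representation ℂ G W where
  toFun g := (ρ g).restrict (hW g)
  map_one' := LinearMap.ext fun w => Subtype.ext (by simp)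
  map_mul' a b := LinearMap.ext fun w => Subtype.ext (by simp [map_mul])

theorem invRep_apply (ρ : Representation ℂ G V) {W : Submodule ℂ V} (hW : Inv ρ W) (g : G) (w : W) :
    ((invRep ρ hW g) w : V) = ρ g w := rfl

theorem MinInv.isIrreducible {ρ : Representation ℂ G V} {U : Submodule ℂ V} (hU : MinInv ρ U) :
    (invRep ρ hU.inv).IsIrreducible := by
  haveI : Nontrivial U := (Submodule.nontrivial_iff_ne_bot).2 hU.ne_bot
  haveI : Nontrivial (Subrepresentation (invRep ρ hU.inv)) := ⟨⟨⊥, ⊤, fun e =>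
    bot_ne_top (congrArg Subrepresentation.toSubmodule e)⟩⟩
  refine ⟨fun b => ?_⟩
  rcases hU.min (b.toSubmodule.map U.subtype) (Submodule.map_subtype_le _ _) (by
    rintro g _ ⟨w, hw, rfl⟩
    exact ⟨_, b.apply_mem_toSubmodule g hw, rfl⟩) with h | h
  · exact Or.inl (Subrepresentation.toSubmodule_injective
      (Submodule.map_injective_of_injective U.injective_subtype (by rw [h]; exact Submodule.map_bot _ |>.symm)))
  · exact Or.inr (Subrepresentation.toSubmodule_injective
      (Submodule.map_injective_of_injective U.injective_subtype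
        (by rw [h]; exact (Submodule.map_subtype_top U).symm)))

theorem exists_minInv {ρ : Representation ℂ G V} {W : Submodule ℂ V} (hW : Inv ρ W) (h0 : W ≠ ⊥) :
    ∃ U ≤ W, MinInv ρ U := by
  have hex : ∃ n, ∃ U ≤ W, Inv ρ U ∧ U ≠ ⊥ ∧ finrank ℂ U = n := ⟨_, W, le_rfl, hW, h0, rfl⟩
  obtain ⟨U, hUW, hU, hU0, hn⟩ := Nat.find_spec hex
  refine ⟨U, hUW, hU, hU0, fun X hX hXi => or_iff_not_imp_left.2 fun hX0 => ?_⟩
  exact Submodule.eq_of_le_of_finrank_le hX
    (hn ▸ Nat.find_min' hex ⟨X, hX.trans hUW, hXi, hX0, rfl⟩)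

/-- The minimal invariant subspaces span. -/
theorem iSup_minInv (ρ : Representation ℂ G V) :
    ⨆ U : {U : Submodule ℂ V // MinInv ρ U}, U.1 = ⊤ := by
  set T : Submodule ℂ V := ⨆ U : {U : Submodule ℂ V // MinInv ρ U}, U.1 with hT
  have hTi : Inv ρ T := by
    intro g
    have hle : T ≤ T.comap (ρ g) := iSup_le fun U w hw =>
      Submodule.mem_iSup_of_mem U (U.2.inv g w hw)
    exact hle
  haveI : NeZero (Nat.card G : ℂ) := ⟨Nat.cast_ne_zero.mpr Nat.card_pos.ne'⟩
  haveI : Fintype G := Fintype.ofFinite G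
  let a : Subrepresentation ρ := ⟨T, fun g _ h => hTi g _ h⟩
  obtain ⟨b, hb⟩ := exists_isCompl a
  have hc := Char.isCompl_toSubmodule hb
  by_contra hne
  have hb0 : b.toSubmodule ≠ ⊥ := fun h => hne (by
    have := hc.codisjoint
    rw [h] at this
    simpa using this)
  obtain ⟨U, hUb, hU⟩ := exists_minInv (ρ := ρ) (fun g w hw => b.apply_mem_toSubmodule g hw) hb0
  refine hU.ne_bot (le_bot_iff.1 ?_)
  rw [← disjoint_iff.1 hc.disjoint]
  exact le_inf (le_iSup (fun U : {U : Submodule ℂ V // MinInv ρ U} => U.1) ⟨U, hU⟩) hUb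

theorem MinInv.inf_eq_bot {ρ : Representation ℂ G V} {U W : Submodule ℂ V} (hU : MinInv ρ U)
    (hW : MinInv ρ W) (h : U ≠ W) : U ⊓ W = ⊥ := by
  have hi : Inv ρ (U ⊓ W) := fun g w hw => ⟨hU.inv g w hw.1, hW.inv g w hw.2⟩
  rcases hU.min _ inf_le_left hi with e | e
  · exact e
  · rcases hW.min _ inf_le_right hi with e' | e'
    · exact e'
    · exact absurd (e.symm.trans e') h

/-- An element centralising the group is a scalar on a minimal invariant subspace. -/
theorem MinInv.scalar {ρ : Representation ℂ G V} {U : Submodule ℂ V} (hU : MinInv ρ U)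
    (T : Module.End ℂ V) (hT : ∀ g, Commute T (ρ g)) (hTU : ∀ u ∈ U, T u ∈ U) :
    ∃ c : ℂ, ∀ u ∈ U, T u = c • u := by
  haveI := hU.isIrreducible
  obtain ⟨c, hc⟩ := Char.schur_scalar (invRep ρ hU.inv) (T.restrict hTU) fun g u =>
    Subtype.ext (LinearMap.congr_fun (hT g).eq (u : V))
  exact ⟨c, fun u hu => congrArg Subtype.val (LinearMap.congr_fun hc ⟨u, hu⟩)⟩

variable {d : ℕ}

/-- The kernel of the action on an invariant subspace. -/
def invKer (ρ : Representation ℂ G (Fin d → ℂ)) {W : Submodule ℂ (Fin d → ℂ)} (hW : Inv ρ W) :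
    Subgroup G :=
  MonoidHom.ker (invRep ρ hW)

instance invKer_normal (ρ : Representation ℂ G (Fin d → ℂ)) {W : Submodule ℂ (Fin d → ℂ)}
    (hW : Inv ρ W) : (invKer ρ hW).Normal := MonoidHom.normal_ker (invRep ρ hW)

theorem mem_invKer {ρ : Representation ℂ G (Fin d → ℂ)} {W : Submodule ℂ (Fin d → ℂ)}
    {hW : Inv ρ W} {g : G} : g ∈ invKer ρ hW ↔ ∀ w ∈ W, ρ g w = w := by
  rw [invKer, MonoidHom.mem_ker]
  constructor
  · intro h w hw
    exact congrArg Subtype.val (LinearMap.congr_fun h ⟨w, hw⟩)
  · exact fun h => LinearMap.ext fun w => Subtype.ext (h w w.2)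

/-- The faithful coordinate action of the quotient on an invariant subspace. -/
theorem exists_quot_rep (ρ : Representation ℂ G (Fin d → ℂ)) {W : Submodule ℂ (Fin d → ℂ)}
    (hW : Inv ρ W) :
    ∃ σ : Representation ℂ (G ⧸ invKer ρ hW) (Fin (finrank ℂ W) → ℂ),
      Function.Injective σ ∧
      (MinInv ρ W → σ.IsIrreducible) ∧
      (∀ (g : G) (μ : ℂ), finrank ℂ (Module.End.eigenspace (σ g) μ) =
        finrank ℂ (W ⊓ Module.End.eigenspace (ρ g) μ : Submodule ℂ (Fin d → ℂ))) := by
  let τ₀ : Representation ℂ (G ⧸ invKer ρ hW) W := QuotientGroup.lift _ (invRep ρ hW) le_rfl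
  have hτ₀ : ∀ g : G, τ₀ g = invRep ρ hW g := fun g => rfl
  let e := (Module.finBasis ℂ W).equivFun
  refine ⟨Char.coordRep τ₀, ?_, fun hm => ?_, fun g μ => ?_⟩
  · have h1 : Function.Injective τ₀ := fun a b h => by
      induction a using QuotientGroup.induction_on with
      | _ a =>
      induction b using QuotientGroup.induction_on with
      | _ b =>
      rw [hτ₀, hτ₀] at h
      rw [QuotientGroup.eq, invKer, MonoidHom.mem_ker, map_mul, ← h, ← map_mul, inv_mul_cancel, map_one]
    intro a b h
    refine h1 (LinearMap.ext fun w => e.injective ?_)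
    have := LinearMap.congr_fun h (e w)
    simpa [Char.coordRep, Char.transport, e] using this
  · haveI := hm.isIrreducible
    have hirr : τ₀.IsIrreducible := by
      haveI : Nontrivial W := Submodule.nontrivial_iff_ne_bot.2 hm.ne_bot
      haveI : Nontrivial (Subrepresentation τ₀) := ⟨⟨⊥, ⊤, fun e =>
        bot_ne_top (congrArg Subrepresentation.toSubmodule e)⟩⟩
      refine ⟨fun b => ?_⟩
      let b' : Subrepresentation (invRep ρ hW) := ⟨b.toSubmodule, fun g x hx =>
        b.apply_mem_toSubmodule (g : G ⧸ invKer ρ hW) hx⟩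
      rcases IsSimpleOrder.eq_bot_or_eq_top b' with h | h
      · have h' : b'.toSubmodule = (⊥ : Submodule ℂ W) := by rw [h]; rfl
        exact Or.inl (Subrepresentation.toSubmodule_injective h')
      · have h' : b'.toSubmodule = (⊤ : Submodule ℂ W) := by rw [h]; rfl
        exact Or.inr (Subrepresentation.toSubmodule_injective h')
    exact Char.isIrreducible_of_equiv (Char.transportEquiv _ _)
  · have hmap : Module.End.eigenspace (Char.coordRep τ₀ g) μ =
        (((W ⊓ Module.End.eigenspace (ρ g) μ).comap W.subtype).map (e : W →ₗ[ℂ] _)) := by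
      ext x
      rw [Submodule.mem_map_equiv, Submodule.mem_comap, Submodule.mem_inf, Module.End.mem_eigenspace_iff,
        Module.End.mem_eigenspace_iff]
      have key : Char.coordRep τ₀ g x = e (invRep ρ hW g (e.symm x)) := by
        simp [Char.coordRep, Char.transport, e, hτ₀]
      rw [key]
      constructor
      · intro h
        refine ⟨(e.symm x).2, ?_⟩
        have h' := congrArg e.symm h
        rw [LinearEquiv.symm_apply_apply, map_smul] at h'
        exact congrArg Subtype.val h'
      · rintro ⟨-, h⟩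
        apply e.symm.injective
        rw [LinearEquiv.symm_apply_apply, map_smul]
        exact Subtype.ext h
    rw [hmap, LinearEquiv.finrank_map_eq,
      (Submodule.comapSubtypeEquivOfLe (inf_le_left : W ⊓ _ ≤ W)).finrank_eq]

/-- Invariant spanning subspaces of dimension at most eight give normal Sylow subgroups. -/
theorem pnormal_of_spanning (ρ : Representation ℂ G (Fin d → ℂ)) (hρ : Function.Injective ρ)
    (hp19 : 19 ≤ p) {ι : Type*} (W : ι → Submodule ℂ (Fin d → ℂ)) (hW : ∀ i, Inv ρ (W i))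
    (htop : ⨆ i, W i = ⊤) (h8 : ∀ i, finrank ℂ (W i) ≤ 8) : PNormal p G := by
  refine pnormal_of_sep (fun i => invKer ρ (hW i)) (fun x hx => hρ ?_) fun i => ?_
  · have hle : ⨆ i, W i ≤ LinearMap.ker (ρ x - 1) := iSup_le fun i w hw => by
      rw [LinearMap.mem_ker, LinearMap.sub_apply, Module.End.one_apply,
        mem_invKer.1 (hx i) w hw, sub_self]
    rw [htop, top_le_iff, LinearMap.ker_eq_top, sub_eq_zero] at hle
    rw [hle, map_one]
  · obtain ⟨σ, hσ, -, -⟩ := exists_quot_rep ρ (hW i)
    exact pnormal_of_deg_le_eight σ hσ (h8 i) hp19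

end Cfsg.Agent.SmallDeg16
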