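import Cfsg.Agent.Lib.DefOne.General
import Cfsg.Agent.Lib.Char.DegreeCenter
import Cfsg.Agent.Lib.DegreePTwo.Square
import Cfsg.Agent.Lib.M12Uniq.SymSquare
import Mathlib.Analysis.SpecialFunctions.Complex.CircleAddChar
import Mathlib.NumberTheory.LegendreSymbol.AddCharacter

/-!
Characters with a central character on `V`, their multiplicities on irreducible characters, and their
restriction to the subgroup of order `p`, written as functions on `ZMod p`.
-/

set_option autoImplicit false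
set_option linter.unusedSectionVars false
set_option linter.style.haveILetI false

namespace Cfsg.Agent.SmallDeg16

open Cfsg Cfsg.Agent.Char Cfsg.Agent.Blocks Cfsg.Agent.CCSylow Cfsg.Agent.DefOne
open scoped ComplexConjugate

universe u

variable {G : Type u} [Group G] [Fintype G]

/-- The multiplicity of an irreducible character in a character. -/
noncomputable def mult (f : G → ℂ) (χ : IrrCharacter G) : ℕ :=
  ⌊(classInner f (χ : G → ℂ)).re⌋₊

theorem mult_eq {f : G → ℂ} (hf : IsCharacter G f) (χ : IrrCharacter G) :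
    classInner f (χ : G → ℂ) = (mult f χ : ℂ) := by
  obtain ⟨n, hn⟩ := IsCharacter.exists_classInner_nat hf (IsIrrCharacter.isCharacter χ.2)
  rw [mult, hn, Complex.natCast_re, Nat.floor_natCast]

theorem eq_sum_mult {f : G → ℂ} (hf : IsCharacter G f) :
    f = ∑ χ : IrrCharacter G, (mult f χ : ℂ) • (χ : G → ℂ) := by
  conv_lhs => rw [IsCharacter.eq_sum hf]
  exact Finset.sum_congr rfl fun χ _ => by rw [mult_eq hf]

theorem apply_eq_sum_mult {f : G → ℂ} (hf : IsCharacter G f) (g : G) :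
    f g = ∑ χ : IrrCharacter G, (mult f χ : ℂ) * (χ : G → ℂ) g := by
  have h := congrFun (eq_sum_mult hf) g
  simpa only [Finset.sum_apply, Pi.smul_apply, smul_eq_mul] using h

theorem degree_eq_sum_mult {f : G → ℂ} (hf : IsCharacter G f) {d : ℕ} (hd : f 1 = d) :
    ∑ χ : IrrCharacter G, mult f χ * charDegree (χ : G → ℂ) = d := by
  have h := apply_eq_sum_mult hf 1
  simp only [hd, irr_one_eq_charDegree] at h
  exact_mod_cast h.symm

variable {V : Subgroup G}

/-- The subgroup `V` acts on `f` through `μ`. -/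
def Cen (V : Subgroup G) (f : G → ℂ) (μ : IrrCharacter V) : Prop :=
  ∀ (v : V) (g : G), f ((v : G) * g) = (μ : V → ℂ) v * f g

theorem Cen.apply {f : G → ℂ} {μ : IrrCharacter V} (h : Cen V f μ) (v : V) :
    f v = (μ : V → ℂ) v * f 1 := by
  simpa using h v 1

theorem lin_hom {μ : IrrCharacter V} [Fintype V] (hμ : (μ : V → ℂ) 1 = 1) :
    ∃ g : V →* ℂˣ, ∀ v : V, (μ : V → ℂ) v = (g v : ℂ) := by
  obtain ⟨g, hg⟩ := exists_hom_of_degree_one (IsIrrCharacter.isCharacter μ.2) hμ
  exact ⟨g, fun v => by rw [hg]⟩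

theorem lin_ne_zero [Fintype V] {μ : IrrCharacter V} (hμ : (μ : V → ℂ) 1 = 1) (v : V) :
    (μ : V → ℂ) v ≠ 0 := by
  obtain ⟨g, hg⟩ := lin_hom hμ
  rw [hg]
  exact Units.ne_zero _

theorem lin_norm [Fintype V] {μ : IrrCharacter V} (hμ : (μ : V → ℂ) 1 = 1) (v : V) :
    (μ : V → ℂ) v * conj ((μ : V → ℂ) v) = 1 := by
  obtain ⟨g, hg⟩ := lin_hom hμ
  rw [hg, Complex.mul_conj, Complex.normSq_eq_norm_sq,
    norm_eq_one_of_pow (m := Nat.card V) Nat.card_pos.ne' ?_]
  · simp
  · rw [← Units.val_pow_eq_pow_val, ← map_pow, pow_card_eq_one', map_one, Units.val_one]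

theorem lin_mul [Fintype V] {μ : IrrCharacter V} (hμ : (μ : V → ℂ) 1 = 1) (v w : V) :
    (μ : V → ℂ) (v * w) = (μ : V → ℂ) v * (μ : V → ℂ) w := by
  obtain ⟨g, hg⟩ := lin_hom hμ
  rw [hg, hg, hg, map_mul, Units.val_mul]

theorem lin_pow [Fintype V] {μ : IrrCharacter V} (hμ : (μ : V → ℂ) 1 = 1) (v : V) (n : ℕ) :
    (μ : V → ℂ) (v ^ n) = (μ : V → ℂ) v ^ n := by
  obtain ⟨g, hg⟩ := lin_hom hμ
  rw [hg, hg, map_pow, Units.val_pow_eq_pow_val]

/-- Constituents have the same central character. -/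
theorem cen_of_mult [Fintype V] (hV : V ≤ Subgroup.center G) {f : G → ℂ} (hf : IsCharacter G f)
    {μ : IrrCharacter V} (hμ : (μ : V → ℂ) 1 = 1) (hc : Cen V f μ) {χ : IrrCharacter G}
    (hm : mult f χ ≠ 0) : Cen V (χ : G → ℂ) μ := by
  intro v g
  obtain ⟨c, -, hcs, -⟩ := IsIrrCharacter.exists_central_scalar χ.2 (hV v.2)
  have h : classInner f (χ : G → ℂ) = (μ : V → ℂ) v * conj c * classInner f (χ : G → ℂ) := by
    simp only [classInner]
    rw [← mul_assoc, mul_comm ((μ : V → ℂ) v * conj c), mul_assoc]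
    congr 1
    rw [Finset.mul_sum]
    conv_lhs => rw [← Equiv.sum_comp (Equiv.mulLeft (v : G))]
    refine Finset.sum_congr rfl fun x _ => ?_
    rw [Equiv.coe_mulLeft, hc, hcs, map_mul]
    ring
  rw [mult_eq hf] at h
  have h1 : (μ : V → ℂ) v * conj c = 1 :=
    (mul_eq_right₀ (Nat.cast_ne_zero.2 hm)).1 h.symm
  have h2 : conj c = conj ((μ : V → ℂ) v) :=
    mul_left_cancel₀ (lin_ne_zero hμ v) (h1.trans (lin_norm hμ v).symm)
  rw [hcs, (starRingEnd ℂ).injective h2]

variable {p : ℕ} {P N : Subgroup G} {e : ℕ}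

/-- A generator of `P` and a linear character taking the standard value on it. -/
structure Coord (p : ℕ) [NeZero p] (P : Subgroup G) where
  y : P
  l : P →* ℂˣ
  surj : ∀ z : P, ∃ i : ZMod p, y ^ i.val = z
  val : ((l y : ℂˣ) : ℂ) = ZMod.stdAddChar (1 : ZMod p)
  pow : y ^ p = 1

variable [NeZero p]

namespace Coord

variable (C : Coord p P)

/-- The linear character with index `j`. -/
def lam (j : ZMod p) : P →* ℂˣ := C.l ^ j.val

/-- The element with index `i`. -/
def el (i : ZMod p) : P := C.y ^ i.val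

theorem el_zero : C.el 0 = 1 := by rw [el, ZMod.val_zero, pow_zero]

theorem el_add (i j : ZMod p) : C.el (i + j) = C.el i * C.el j := by
  rw [el, el, el, ← pow_add, ZMod.val_add, ← pow_eq_pow_mod _ C.pow]

theorem lam_el (j i : ZMod p) : ((C.lam j (C.el i) : ℂˣ) : ℂ) = ZMod.stdAddChar (i * j) := by
  rw [lam, el, MonoidHom.pow_apply, map_pow, ← pow_mul, Units.val_pow_eq_pow_val, C.val,
    ← AddChar.map_nsmul_eq_pow, nsmul_eq_mul, mul_one, Nat.cast_mul, ZMod.natCast_zmod_val,
    ZMod.natCast_zmod_val]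

theorem lam_zero : C.lam 0 = 1 :=
  MonoidHom.ext fun y => by rw [lam, ZMod.val_zero, MonoidHom.pow_apply, pow_zero, MonoidHom.one_apply]

theorem el_surjective : Function.Surjective C.el := C.surj

theorem el_injective : Function.Injective C.el := fun i j h => by
  have h1 := C.lam_el 1 i
  rw [h, C.lam_el, mul_one, mul_one] at h1
  exact (ZMod.injective_stdAddChar h1).symm

theorem el_bijective : Function.Bijective C.el := ⟨C.el_injective, C.el_surjective⟩

theorem el_eq_one {i : ZMod p} : C.el i = 1 ↔ i = 0 :=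
  ⟨fun h => C.el_injective (h.trans C.el_zero.symm), fun h => h ▸ C.el_zero⟩

theorem lam_injective : Function.Injective C.lam := fun a b h => by
  have h1 := C.lam_el a 1
  rw [h, C.lam_el, one_mul, one_mul] at h1
  exact (ZMod.injective_stdAddChar h1).symm

theorem lam_eq_one {j : ZMod p} : C.lam j = 1 ↔ j = 0 :=
  ⟨fun h => C.lam_injective (h.trans C.lam_zero.symm), fun h => h ▸ C.lam_zero⟩

end Coord

variable (K : Conf p P V N e) [Fintype P] [Fintype V] [Fintype N] [Fintype (P →* ℂˣ)]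

include K

theorem lam_bijective (C : Coord p P) : Function.Bijective C.lam :=
  (Fintype.bijective_iff_injective_and_card _).2
    ⟨C.lam_injective, by rw [ZMod.card, card_dual K.D, K.hP]⟩

/-- Coordinates with a prescribed linear character. -/
theorem exists_coord {l : P →* ℂˣ} (hl : l ≠ 1) : ∃ C : Coord p P, C.l = l := by
  haveI := Fact.mk K.hp
  obtain ⟨z, hz⟩ := exists_ne_one_P K
  have hprim : IsPrimitiveRoot ((l z : ℂˣ) : ℂ) p := by
    rw [IsPrimitiveRoot.iff_orderOf]
    refine orderOf_eq_prime (linear_pow_p K l z) fun h => hz ((linear_eq_one_iff K hl z).1 ?_)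
    exact Units.ext (by simpa using h)
  have hpow : (ZMod.stdAddChar (1 : ZMod p)) ^ p = (1 : ℂ) := by
    rw [← AddChar.map_nsmul_eq_pow, nsmul_eq_mul, mul_one, ZMod.natCast_self,
      AddChar.map_zero_eq_one]
  obtain ⟨i, -, hi⟩ := hprim.eq_pow_of_pow_eq_one hpow
  have hy1 : z ^ i ≠ 1 := fun h => by
    rw [← Units.val_pow_eq_pow_val, ← map_pow, h, map_one, Units.val_one] at hi
    exact one_ne_zero (ZMod.injective_stdAddChar (hi.symm.trans
      (AddChar.map_zero_eq_one _).symm) : (1 : ZMod p) = 0)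
  have hp1 : (z ^ i) ^ p = 1 := by rw [← K.hP, pow_card_eq_one']
  refine ⟨⟨z ^ i, l, fun x => ?_, ?_, hp1⟩, rfl⟩
  · obtain ⟨k, hk⟩ := exists_pow_eq K hy1 x
    exact ⟨(k : ZMod p), by rw [ZMod.val_natCast, ← pow_eq_pow_mod _ hp1, hk]⟩
  · rw [map_pow, Units.val_pow_eq_pow_val, hi]

omit K in
/-- The eigenvalue multiplicities of `f` on `P`. -/
def HasMult (C : Coord p P) (f : G → ℂ) (a : ZMod p → ℤ) : Prop :=
  ∀ i : ZMod p, f (C.el i : G) = ∑ j : ZMod p, (a j : ℂ) * ZMod.stdAddChar (i * j)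

omit K in
theorem HasMult.congr {C : Coord p P} {f : G → ℂ} {a a' : ZMod p → ℤ} (h : HasMult C f a)
    (h' : ∀ j, a j = a' j) : HasMult C f a' := (funext h' : a = a') ▸ h

omit K in
theorem HasMult.degree {C : Coord p P} {f : G → ℂ} {a : ZMod p → ℤ} (h : HasMult C f a) :
    f 1 = ((∑ j, a j : ℤ) : ℂ) := by
  have h0 := h 0
  simpa [C.el_zero] using h0

omit K in
/-- The product. -/
theorem HasMult.mul {C : Coord p P} {f g : G → ℂ} {a b : ZMod p → ℤ} (hf : HasMult C f a)
    (hg : HasMult C g b) :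
    HasMult C (fun x => f x * g x) fun j => ∑ i, a i * b (j - i) := by
  intro i
  show f _ * g _ = _
  rw [hf i, hg i, Finset.sum_mul_sum]
  push_cast
  simp only [Finset.sum_mul]
  rw [eq_comm, Finset.sum_comm]
  refine Finset.sum_congr rfl fun j _ => ?_
  rw [← Equiv.sum_comp (Equiv.addLeft j)]
  refine Finset.sum_congr rfl fun k _ => ?_
  rw [Equiv.coe_addLeft, add_sub_cancel_left, mul_add, AddChar.map_add_eq_mul]
  ring

omit K in
/-- The value at squares. -/
theorem HasMult.sq {C : Coord p P} {f : G → ℂ} {a : ZMod p → ℤ} (hf : HasMult C f a) :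
    HasMult C (fun x => f (x * x)) fun j => ∑ k, if 2 * k = j then a k else 0 := by
  intro i
  show f _ = _
  rw [show ((C.el i : G) * C.el i) = (C.el (i + i) : G) by rw [C.el_add]; rfl, hf (i + i)]
  push_cast
  simp only [Finset.sum_mul, ite_mul, zero_mul]
  rw [Finset.sum_comm]
  refine Finset.sum_congr rfl fun k _ => ?_
  rw [Finset.sum_ite_eq Finset.univ (2 * k)
    (fun j => (a k : ℂ) * ZMod.stdAddChar (i * j)), if_pos (Finset.mem_univ _)]
  rw [show (i + i) * k = i * (2 * k) by ring]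

omit K in
/-- The half of a sum or difference. -/
theorem HasMult.half {C : Coord p P} {f g : G → ℂ} {a b c : ZMod p → ℤ} (hf : HasMult C f a)
    (hg : HasMult C g b) {s : ℤ} (hc : ∀ j, 2 * c j = a j + s * b j) :
    HasMult C (fun x => (f x + (s : ℂ) * g x) / 2) c := by
  intro i
  show (f _ + _ * g _) / 2 = _
  rw [hf i, hg i, div_eq_iff (two_ne_zero), Finset.mul_sum, ← Finset.sum_add_distrib, Finset.sum_mul]
  refine Finset.sum_congr rfl fun j _ => ?_
  have h : (2 : ℂ) * c j = a j + (s : ℂ) * b j := by exact_mod_cast hc j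
  linear_combination (-(ZMod.stdAddChar (i * j) : ℂ)) * h

/-- The component of a character with central character `μ`. -/
theorem phi_cen {f : G → ℂ} {μ : IrrCharacter V} (hμ : (μ : V → ℂ) 1 = 1) (hV : V ≤ Subgroup.center G)
    (hc : Cen V f μ) (y : P) : phi f μ y = f y := by
  rw [phi, Finset.sum_congr rfl (g := fun _ => f y) fun v _ => ?_, Finset.sum_const, Finset.card_univ,
    ← Nat.card_eq_fintype_card, nsmul_eq_mul, inv_mul_cancel_left₀ (Nat.cast_ne_zero.2 Nat.card_pos.ne')]
  rw [← (Subgroup.mem_center_iff.1 (hV v.2) (y : G)).symm, hc, mul_comm ((μ : V → ℂ) v), mul_assoc,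
    lin_norm hμ, mul_one]

/-- The multiplicities are the coefficients of the expansion on `P × V`. -/
theorem HasMult.co_eq (C : Coord p P) {f : G → ℂ} {a : ZMod p → ℤ} (hf : HasMult C f a)
    {μ : IrrCharacter V} (hμ : (μ : V → ℂ) 1 = 1) (hV : V ≤ Subgroup.center G) (hc : Cen V f μ)
    (j : ZMod p) : co K.D f (C.lam j) μ = (a j : ℂ) := by
  classical
  rw [co_eq_phi K, ← C.el_bijective.sum_comp (fun y : P => phi f μ y * conj ((C.lam j y : ℂˣ) : ℂ))]
  have hsum : ∀ i : ZMod p, phi f μ (C.el i) * conj ((C.lam j (C.el i) : ℂˣ) : ℂ) =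
      ∑ k : ZMod p, (a k : ℂ) * ZMod.stdAddChar (i * (k - j)) := by
    intro i
    rw [phi_cen K hμ hV hc, hf i, C.lam_el, Finset.sum_mul]
    refine Finset.sum_congr rfl fun k _ => ?_
    rw [← AddChar.map_neg_eq_conj, mul_assoc, ← AddChar.map_add_eq_mul]
    congr 2
    ring
  simp only [hsum]
  rw [Finset.sum_comm]
  simp only [← Finset.mul_sum, AddChar.sum_mulShift _ (ZMod.isPrimitive_stdAddChar p)]
  rw [Finset.sum_eq_single j (fun k _ hk => by rw [if_neg (sub_ne_zero.2 hk), Nat.cast_zero, mul_zero])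
    (fun h => absurd (Finset.mem_univ _) h), if_pos (sub_self j), ZMod.card]
  field_simp [show (p : ℂ) ≠ 0 from Nat.cast_ne_zero.2 K.hp.ne_zero]

/-- Every irreducible character with central character `μ` has multiplicities. -/
theorem hasMult_irr (C : Coord p P) (χ : IrrCharacter G) {μ : IrrCharacter V} (hμ : (μ : V → ℂ) 1 = 1)
    (hV : V ≤ Subgroup.center G) (hc : Cen V (χ : G → ℂ) μ) :
    HasMult C (χ : G → ℂ) fun j => (nco K.D (IsIrrCharacter.isCharacter χ.2) (C.lam j) μ : ℤ) := by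
  intro i
  rw [← phi_cen K hμ hV hc (C.el i), phi_eq_sum K]
  rw [← (lam_bijective K C).sum_comp]
  refine Finset.sum_congr rfl fun j _ => ?_
  rw [C.lam_el, CCSylow.co_eq K.D (IsIrrCharacter.isCharacter χ.2)]
  norm_cast

end Cfsg.Agent.SmallDeg16
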