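import Cfsg.Agent.Lib.SmallDeg16.Coord
import Cfsg.Agent.Lib.DegreePTwo.FaithfulCount

/-!
The family of a central character: multiplicity equations for a character with that central
character, degrees, expansions on the regular elements and agreement of two such characters.
-/

set_option autoImplicit false
set_option linter.unusedSectionVars false
set_option linter.style.haveILetI false

namespace Cfsg.Agent.SmallDeg16

open Cfsg Cfsg.Agent.Char Cfsg.Agent.Blocks Cfsg.Agent.CCSylow Cfsg.Agent.DefOne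
open Cfsg.Agent.DegreePTwo
open scoped ComplexConjugate

universe u

variable {G : Type u} [Group G] [Fintype G] {p : ℕ} {P V N : Subgroup G} {e : ℕ}
  (K : Conf p P V N e) [Fintype P] [Fintype V] [Fintype N] [Fintype (P →* ℂˣ)]

/-- The family of the central character `μ`. -/
structure Fam {M : Ideal AlgInt} [M.IsPrime] (μ : IrrCharacter V) (X Y : Finset (IrrCharacter G))
    (δ : ℤ) (sg : IrrCharacter G → ℤ) : Prop where
  hM : IsPModular p M
  hV : V ≤ Subgroup.center G
  lin : (μ : V → ℂ) 1 = 1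
  fam : Families K μ e X Y δ sg

variable {M : Ideal AlgInt} [M.IsPrime]

include K

theorem exists_fam (hM : IsPModular p M) (hV : V ≤ Subgroup.center G) (μ : IrrCharacter V)
    (hμ : (μ : V → ℂ) 1 = 1) :
    ∃ (X Y : Finset (IrrCharacter G)) (δ : ℤ) (sg : IrrCharacter G → ℤ),
      Fam K (M := M) μ X Y δ sg := by
  obtain ⟨eb, X, Y, δ, sg, F⟩ := exists_families K hM μ
  obtain rfl := Faithful.eb_eq K hV F
  exact ⟨X, Y, δ, sg, hM, hV, hμ, F⟩

/-- A singular element is conjugate to an element of a section. -/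
theorem exists_conj_section {g : G} (hg : p ∣ orderOf g) :
    ∃ (x : G) (y : P) (v : V), y ≠ 1 ∧ x * g * x⁻¹ = (y : G) * v := by
  haveI := Fact.mk K.hp
  set a : G := g ^ (orderOf g / p) with ha
  have hao : orderOf a = p := orderOf_pow_orderOf_div (orderOf_pos g).ne' hg
  obtain ⟨x, hx⟩ := Faithful.exists_conj_mem K hao
  have hne : x * a * x⁻¹ ≠ 1 := fun h => by
    rw [conj_eq_one_iff] at h
    rw [h, orderOf_one] at hao
    exact K.hp.ne_one hao.symm
  have hmem : x * g * x⁻¹ ∈ Subgroup.centralizer (P : Set G) := by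
    rw [← centralizer_singleton_eq K.hp K.hP hx hne, Subgroup.mem_centralizer_singleton_iff, ha]
    rw [show x * g * x⁻¹ * (x * g ^ (orderOf g / p) * x⁻¹) = x * (g * g ^ (orderOf g / p)) * x⁻¹ by
      group, show x * g ^ (orderOf g / p) * x⁻¹ * (x * g * x⁻¹) =
      x * (g ^ (orderOf g / p) * g) * x⁻¹ by group, ← pow_succ, ← pow_succ']
  obtain ⟨y, hy, v, hv, hyv⟩ := (K.hC _).1 hmem
  refine ⟨x, ⟨y, hy⟩, ⟨v, hv⟩, fun h => ?_, hyv.symm⟩
  have hy1 : y = 1 := congrArg Subtype.val h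
  rw [hy1, one_mul] at hyv
  refine K.hV (hg.trans ?_)
  rw [show orderOf g = orderOf v by rw [hyv, ← MulAut.conj_apply, MulEquiv.orderOf_eq]]
  exact Subgroup.orderOf_dvd_natCard V hv

namespace Fam

variable {K} {μ : IrrCharacter V} {X Y : Finset (IrrCharacter G)} {δ : ℤ} {sg : IrrCharacter G → ℤ}
  (F : Fam K (M := M) μ X Y δ sg)

include F

theorem cen_of_inR {χ : IrrCharacter G} (h : InR K χ μ) : Cen V (χ : G → ℂ) μ :=
  Faithful.scalar K F.hV F.hM F.lin h

theorem inR_X {χ : IrrCharacter G} (h : χ ∈ X) : InR K χ μ :=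
  (mem_iff_inR K F.fam χ).1 (Or.inl h)

theorem inR_Y {χ : IrrCharacter G} (h : χ ∈ Y) : InR K χ μ :=
  (mem_iff_inR K F.fam χ).1 (Or.inr h)

theorem delta_sq : δ * δ = 1 := by
  rcases F.fam.sign with h | h <;> rw [h] <;> norm_num

theorem sg_sq {χ : IrrCharacter G} (h : χ ∈ X) : sg χ * sg χ = 1 := by
  rcases F.fam.signX χ h with h' | h' <;> rw [h'] <;> norm_num

theorem sum_Y_acoef {l : P →* ℂˣ} (hl : l ≠ 1) : ∑ θ ∈ Y, acoef K θ μ l = δ := by
  classical
  have h : ((∑ θ ∈ Y, acoef K θ μ l : ℤ) : ℂ) = (δ : ℂ) := by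
    push_cast
    simp only [acoef_eq_phi K, Finset.mul_sum]
    rw [Finset.sum_comm]
    simp only [← Finset.mul_sum, ← Finset.sum_mul]
    rw [← Finset.add_sum_erase _ _ (Finset.mem_univ (1 : P)), map_one, Units.val_one, map_one,
      sub_self, mul_zero, zero_add,
      Finset.sum_congr rfl fun y hy => by rw [Faithful.sum_Y_phi K F.fam (Finset.ne_of_mem_erase hy)],
      ← Finset.mul_sum]
    have h1 : ∑ y ∈ Finset.univ.erase (1 : P), (1 - conj ((l y : ℂˣ) : ℂ)) = (p : ℂ) := by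
      have h0 := orth K.D 1 l
      rw [if_neg (Ne.symm hl)] at h0
      simp only [MonoidHom.one_apply, Units.val_one, one_mul] at h0
      rw [← Finset.add_sum_erase _ _ (Finset.mem_univ (1 : P)), map_one, Units.val_one, map_one] at h0
      rw [Finset.sum_sub_distrib, Finset.sum_const, Finset.card_erase_of_mem (Finset.mem_univ _),
        Finset.card_univ, ← Nat.card_eq_fintype_card, K.hP, nsmul_eq_mul, mul_one,
        Nat.cast_sub K.hp.one_le, Nat.cast_one]
      linear_combination -h0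
    rw [h1]
    field_simp [show (p : ℂ) ≠ 0 from Nat.cast_ne_zero.2 K.hp.ne_zero]
  exact_mod_cast h

/-- Each nontrivial linear character of `P` belongs to exactly one exceptional character. -/
theorem exists_th [DecidableEq (IrrCharacter G)] {l : P →* ℂˣ} (hl : l ≠ 1) :
    ∃ θ ∈ Y, ∀ θ' ∈ Y, acoef K θ' μ l = if θ' = θ then δ else 0 := by
  classical
  set S := Y.filter fun θ => acoef K θ μ l = δ with hS
  have h0 : ∀ θ ∈ Y, acoef K θ μ l = if θ ∈ S then δ else 0 := by
    intro θ hθ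
    by_cases h : θ ∈ S
    · rw [if_pos h]; exact (Finset.mem_filter.1 h).2
    · rw [if_neg h]
      exact (F.fam.valY θ hθ l).resolve_right fun h' => h (Finset.mem_filter.2 ⟨hθ, h'⟩)
  have hc : S.card = 1 := by
    have h := F.sum_Y_acoef hl
    rw [Finset.sum_congr rfl h0, Finset.sum_ite_mem, Finset.inter_eq_right.2 (Finset.filter_subset _ _),
      Finset.sum_const, nsmul_eq_mul] at h
    have : (S.card : ℤ) = 1 := by
      rcases F.fam.sign with hd | hd <;> simpa [hS, hd] using h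
    exact_mod_cast this
  obtain ⟨θ, hθ⟩ := Finset.card_eq_one.1 hc
  refine ⟨θ, (Finset.mem_filter.1 (hθ ▸ Finset.mem_singleton_self θ : θ ∈ S)).1, fun θ' hθ' => ?_⟩
  rw [h0 θ' hθ', hθ]
  simp

/-- The number of linear characters of an exceptional character. -/
theorem card_fibre {θ : IrrCharacter G} (hθ : θ ∈ Y) [DecidableEq (P →* ℂˣ)] :
    (Finset.univ.filter fun l : P →* ℂˣ => acoef K θ μ l ≠ 0).card = e := by
  have h := F.fam.sumY θ hθ
  rw [← Finset.sum_filter_ne_zero (f := fun l => acoef K θ μ l),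
    Finset.sum_congr rfl (g := fun _ => δ) fun l hl =>
      (F.fam.valY θ hθ l).resolve_left (Finset.mem_filter.1 hl).2,
    Finset.sum_const, nsmul_eq_mul] at h
  rcases F.fam.sign with hd | hd <;> rw [hd] at h <;>
    (have := congrArg Int.natAbs h; simpa using this)

variable [NeZero p] (C : Coord p P)

/-- The weight of the exceptional characters at `j`. -/
noncomputable def wY (_F : Fam K (M := M) μ X Y δ sg) (C : Coord p P) (f : G → ℂ) (j : ZMod p) : ℕ :=
  open Classical in ∑ θ ∈ Y, if acoef K θ μ (C.lam j) ≠ 0 then mult f θ else 0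

variable {f : G → ℂ} (hf : IsCharacter G f) (hc : Cen V f μ) {a : ZMod p → ℤ}
  (ha : HasMult C f a)

include hf hc ha

/-- The multiplicity equation. -/
theorem mult_eqn {j : ZMod p} (hj : j ≠ 0) :
    a 0 - a j = ∑ χ ∈ X, (mult f χ : ℤ) * sg χ + δ * (F.wY C f j : ℤ) := by
  classical
  have hco : ∀ i : ZMod p, (a i : ℂ) = ((∑ η : IrrCharacter G,
      (mult f η : ℤ) * (nco K.D (IsIrrCharacter.isCharacter η.2) (C.lam i) μ : ℤ) : ℤ) : ℂ) := by
    intro i
    rw [← ha.co_eq K C F.lin F.hV hc i]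
    conv_lhs => rw [eq_sum_mult hf]
    rw [co_combination K (mult f) (C.lam i) μ]
    push_cast
    rfl
  have h : ((a 0 - a j : ℤ) : ℂ) =
      ((∑ η : IrrCharacter G, (mult f η : ℤ) * acoef K η μ (C.lam j) : ℤ) : ℂ) := by
    rw [Int.cast_sub, hco 0, hco j, ← Int.cast_sub, ← Finset.sum_sub_distrib, C.lam_zero]
    exact congrArg _ (Finset.sum_congr rfl fun η _ => by rw [acoef, mul_sub])
  rw [Int.cast_inj] at h
  rw [h, ← Finset.sum_subset (Finset.subset_univ (X ∪ Y)) (fun η _ hη => by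
      rw [Finset.mem_union, not_or] at hη
      rw [F.fam.zero η hη.1 hη.2, mul_zero]), Finset.sum_union F.fam.disj]
  congr 1
  · exact Finset.sum_congr rfl fun χ hχ => by
      rw [F.fam.rowX χ hχ _ (fun h => hj (C.lam_eq_one.1 h))]
  · rw [wY, Nat.cast_sum, Finset.mul_sum]
    refine Finset.sum_congr rfl fun θ hθ => ?_
    rcases F.fam.valY θ hθ (C.lam j) with h' | h'
    · simp [h']
    · have : δ ≠ 0 := by rcases F.fam.sign with hd | hd <;> rw [hd] <;> norm_num
      rw [if_pos (h'.trans_ne this), h', mul_comm]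

/-- The multiplicity equation, summed. -/
theorem mult_total {d : ℕ} (hd : f 1 = d) :
    (p : ℤ) * a 0 - d =
      ((p : ℤ) - 1) * (∑ χ ∈ X, (mult f χ : ℤ) * sg χ) +
        δ * e * (∑ θ ∈ Y, (mult f θ : ℤ)) := by
  classical
  have hdeg : (d : ℤ) = ∑ j, a j := by
    have h := ha.degree
    rw [hd] at h
    exact_mod_cast h
  have h1 : ∑ j ∈ Finset.univ.erase (0 : ZMod p), (a 0 - a j) = (p : ℤ) * a 0 - d := by
    have e1 : ∑ j : ZMod p, (a 0 - a j) = (p : ℤ) * a 0 - d := by
      rw [Finset.sum_sub_distrib, Finset.sum_const, Finset.card_univ, ZMod.card, nsmul_eq_mul, hdeg]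
    rw [← e1, ← Finset.add_sum_erase _ _ (Finset.mem_univ (0 : ZMod p)), sub_self, zero_add]
  rw [← h1, Finset.sum_congr rfl fun j hj => F.mult_eqn C hf hc ha (Finset.ne_of_mem_erase hj),
    Finset.sum_add_distrib, Finset.sum_const, Finset.card_erase_of_mem (Finset.mem_univ _),
    Finset.card_univ, ZMod.card, nsmul_eq_mul, Nat.cast_sub K.hp.one_le, Nat.cast_one, mul_assoc δ,
    ← Finset.mul_sum]
  congr 2
  simp only [wY, Nat.cast_sum]
  rw [Finset.sum_comm, Finset.mul_sum]
  refine Finset.sum_congr rfl fun θ hθ => ?_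
  simp only [Nat.cast_ite, Nat.cast_zero]
  rw [← Finset.sum_filter, Finset.sum_const, nsmul_eq_mul]
  congr 2
  refine Eq.trans ?_ (F.card_fibre hθ)
  refine Finset.card_bij (fun j _ => C.lam j) (fun j hj => ?_) (fun i _ j _ h => C.lam_injective h)
    fun l hl => ?_
  · simp only [Finset.mem_filter] at hj ⊢
    exact ⟨Finset.mem_univ _, hj.2⟩
  · obtain ⟨j, rfl⟩ := (lam_bijective K C).2 l
    refine ⟨j, Finset.mem_filter.2 ⟨Finset.mem_erase.2 ⟨fun h0 => (Finset.mem_filter.1 hl).2 ?_,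
      Finset.mem_univ _⟩, (Finset.mem_filter.1 hl).2⟩, rfl⟩
    rw [h0, C.lam_zero, acoef_one]

omit ha

/-- The degrees: the characters outside the family have degree divisible by `p`. -/
theorem dvd_of_outside {η : IrrCharacter G} (hX : η ∉ X) (hY : η ∉ Y) (hm : mult f η ≠ 0) :
    p ∣ charDegree (η : G → ℂ) := by
  by_contra hd
  obtain ⟨b, hb⟩ := exists_inR K F.hM hd
  have hη := cen_of_mult F.hV hf F.lin hc hm
  obtain ⟨y, hy⟩ := exists_ne_one_P K
  refine not_inR_of_phi_eq_zero K (fun y hy => ?_) hb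
  have h0 : phi (η : G → ℂ) μ y = 0 :=
    Faithful.phi_eq_zero_outside K F.fam hX hY hy
  rw [phi_cen K F.lin F.hV hη] at h0
  rw [phi, Finset.sum_eq_zero, mul_zero]
  intro v _
  rw [← (Subgroup.mem_center_iff.1 (F.hV v.2) (y : G)).symm, hη, h0, mul_zero, zero_mul]

theorem degree_eqn {d : ℕ} (hd : f 1 = d) {θ : IrrCharacter G} (hθ : θ ∈ Y) :
    ∃ R : ℕ, (d : ℤ) = ∑ χ ∈ X, (mult f χ : ℤ) * (charDegree (χ : G → ℂ) : ℤ) +
        (charDegree (θ : G → ℂ) : ℤ) * (∑ η ∈ Y, (mult f η : ℤ)) + p * R ∧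
      (R = 0 → ∀ η, η ∉ X → η ∉ Y → mult f η = 0) := by
  classical
  have hsum := degree_eq_sum_mult hf hd
  have hout : p ∣ ∑ η ∈ Finset.univ \ (X ∪ Y), mult f η * charDegree (η : G → ℂ) :=
    Finset.dvd_sum fun η hη => by
      rw [Finset.mem_sdiff, Finset.mem_union, not_or] at hη
      by_cases hm : mult f η = 0
      · simp [hm]
      · exact (F.dvd_of_outside hf hc hη.2.1 hη.2.2 hm).mul_left _
  obtain ⟨R, hR⟩ := hout
  rw [← Finset.sum_sdiff (Finset.subset_univ (X ∪ Y)), hR, Finset.sum_union F.fam.disj] at hsum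
  refine ⟨R, ?_, fun h0 η hX hY => ?_⟩
  · rw [← hsum]
    push_cast
    rw [Finset.mul_sum]
    have hY' : ∀ η ∈ Y, (charDegree (η : G → ℂ) : ℤ) = charDegree (θ : G → ℂ) := fun η hη => by
      have h := Families.agree K F.fam hη hθ (g := 1) (by simpa using K.hp.ne_one)
      rw [irr_one_eq_charDegree, irr_one_eq_charDegree] at h
      exact_mod_cast h
    rw [Finset.sum_congr (s₁ := Y) rfl fun η hη => show (mult f η : ℤ) * (charDegree (η : G → ℂ) : ℤ) =
      (charDegree (θ : G → ℂ) : ℤ) * mult f η by rw [hY' η hη, mul_comm]]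
    ring
  · rw [h0, mul_zero, Finset.sum_eq_zero_iff] at hR
    exact (Nat.mul_eq_zero.1 (hR η (by simp [hX, hY]))).resolve_right (charDegree_pos η).ne'

/-- The expansion on regular elements when the family takes up the whole degree. -/
theorem expand {d : ℕ} (hd : f 1 = d) {θ : IrrCharacter G} (hθ : θ ∈ Y)
    (hfull : (d : ℤ) ≤ ∑ χ ∈ X, (mult f χ : ℤ) * (charDegree (χ : G → ℂ) : ℤ) +
      (charDegree (θ : G → ℂ) : ℤ) * (∑ η ∈ Y, (mult f η : ℤ)))
    {g : G} (hg : ¬ p ∣ orderOf g) :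
    f g = ∑ χ ∈ X, (mult f χ : ℂ) * (χ : G → ℂ) g +
      ((∑ η ∈ Y, (mult f η : ℤ) : ℤ) : ℂ) * (θ : G → ℂ) g := by
  classical
  obtain ⟨R, hR, hzero⟩ := F.degree_eqn hf hc hd hθ
  have hR0 : R = 0 := by
    by_contra hne
    have : (p : ℤ) * 1 ≤ (p : ℤ) * R := mul_le_mul_of_nonneg_left (by omega) (by omega)
    have := K.hp.two_le
    omega
  rw [apply_eq_sum_mult hf g, ← Finset.sum_subset (Finset.subset_univ (X ∪ Y)) (fun η _ hη => by
      rw [Finset.mem_union, not_or] at hη
      rw [hzero hR0 η hη.1 hη.2, Nat.cast_zero, zero_mul]), Finset.sum_union F.fam.disj,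
    Int.cast_sum, Finset.sum_mul]
  congr 1
  refine Finset.sum_congr rfl fun η hη => ?_
  rw [Families.agree K F.fam hη hθ hg, Int.cast_natCast]

/-- Two characters agreeing on the regular elements differ on `X` by a multiple of the signs. -/
theorem agree_X {f' : G → ℂ} (hf' : IsCharacter G f')
    (hreg : ∀ g : G, ¬ p ∣ orderOf g → f' g = f g) :
    ∃ c : ℤ, ∀ χ ∈ X, (mult f' χ : ℤ) = mult f χ + c * sg χ := by
  classical
  obtain ⟨χ₀, h₀⟩ : X.Nonempty :=
    Finset.card_pos.1 (F.fam.cardX ▸ Families.eb_pos K F.fam)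
  refine ⟨sg χ₀ * ((mult f' χ₀ : ℤ) - mult f χ₀), fun χ hχ => ?_⟩
  have hz : ∀ g : G, (f' g - f g) * conj ((sg χ₀ : ℂ) * (χ₀ : G → ℂ) g - (sg χ : ℂ) * (χ : G → ℂ) g) = 0 := by
    intro g
    by_cases hg : p ∣ orderOf g
    · obtain ⟨x, y, v, hy, hxy⟩ := exists_conj_section K hg
      have hval : ∀ η ∈ X, (η : G → ℂ) g = (sg η : ℂ) * (μ : V → ℂ) v := fun η hη => by
        rw [← IsCharacter.isClassFunction (IsIrrCharacter.isCharacter η.2) g x, hxy,
          Faithful.value K F.hV F.hM (F.inR_X hη) hy v, Families.phi_X K F.fam hη hy]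
      rw [hval χ₀ h₀, hval χ hχ, ← mul_assoc, ← mul_assoc, ← Int.cast_mul, ← Int.cast_mul,
        F.sg_sq h₀, F.sg_sq hχ, sub_self, map_zero, mul_zero]
    · rw [hreg g hg, sub_self, zero_mul]
  have h : classInner (f' - f) ((sg χ₀ : ℂ) • (χ₀ : G → ℂ) - (sg χ : ℂ) • (χ : G → ℂ)) = 0 := by
    rw [classInner, Finset.sum_eq_zero (fun g _ => ?_), mul_zero]
    simpa using hz g
  rw [classInner_sub_left, classInner_sub_right, classInner_sub_right, classInner_smul_right,
    classInner_smul_right, classInner_smul_right, classInner_smul_right, mult_eq hf', mult_eq hf',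
    mult_eq hf, mult_eq hf, map_intCast, map_intCast] at h
  have h' : sg χ₀ * (mult f' χ₀ : ℤ) - sg χ * mult f' χ - (sg χ₀ * mult f χ₀ - sg χ * mult f χ) = 0 := by
    exact_mod_cast h
  linear_combination (-sg χ) * h' + ((mult f χ : ℤ) - mult f' χ) * F.sg_sq hχ

end Fam

end Cfsg.Agent.SmallDeg16
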