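import Cfsg.Agent.Lib.SmallDeg16.Local
import Cfsg.Agent.Lib.M12Uniq.Tools
import Cfsg.Agent.Lib.FGStruct.AbelianCyclic
import Cfsg.Agent.Lib.BGroup.Cyclic

/-!
Elements squaring into the centre: values, determinants, the class equation, and the existence of one
at which the character of degree sixteen vanishes.
-/

set_option autoImplicit false
set_option linter.unusedSectionVars false
set_option linter.style.haveILetI false

namespace Cfsg.Agent.SmallDeg16

open Cfsg Cfsg.Agent.Char Cfsg.Agent.Blocks Cfsg.Agent.CCSylow Cfsg.Agent.DefOne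
open Cfsg.Agent.DegreePTwo Cfsg.Agent.CharExtend
open scoped ComplexConjugate

universe u

variable {G : Type u} [Group G] [Fintype G] {p : ℕ}

theorem hom_eq_one (hperf : commutator G = ⊤) {A : Type} [CommGroup A] (f : G →* A) : f = 1 :=
  MonoidHom.ext fun g => MonoidHom.mem_ker.1
    (Abelianization.commutator_subset_ker f (hperf ▸ Subgroup.mem_top g))

/-- An element which is central modulo the centre is central. -/
theorem mem_center_of_comm (hcore : Core p G) {s : G}
    (h : ∀ g : G, g * s * g⁻¹ * s⁻¹ ∈ Subgroup.center G) : s ∈ Subgroup.center G := by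
  set H := Subgroup.center G ⊔ Subgroup.zpowers s with hH
  have hn : H.Normal := ⟨fun x hx g => by
    obtain ⟨z, hz, w, hw, rfl⟩ := Subgroup.mem_sup_of_normal_left.1 hx
    obtain ⟨i, rfl⟩ := Subgroup.mem_zpowers_iff.1 hw
    have e : g * (z * s ^ i) * g⁻¹ = z * (g * s * g⁻¹ * s⁻¹ * s) ^ i := by
      rw [show g * (z * s ^ i) * g⁻¹ = g * z * g⁻¹ * (g * s ^ i * g⁻¹) by group,
        Subgroup.mem_center_iff.1 hz g, mul_inv_cancel_right, inv_mul_cancel_right, conj_zpow]
    rw [e]
    exact H.mul_mem (Subgroup.mem_sup_left hz) (H.zpow_mem (mul_mem (Subgroup.mem_sup_left (h g))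
      (Subgroup.mem_sup_right (Subgroup.mem_zpowers s))) i)⟩
  by_cases htop : H = ⊤
  · exfalso
    have hab : ∀ a b : G, a * b = b * a := by
      intro a b
      have ha : a ∈ H := htop ▸ Subgroup.mem_top a
      have hb : b ∈ H := htop ▸ Subgroup.mem_top b
      obtain ⟨z, hz, w, hw, rfl⟩ := Subgroup.mem_sup_of_normal_left.1 ha
      obtain ⟨z', hz', w', hw', rfl⟩ := Subgroup.mem_sup_of_normal_left.1 hb
      obtain ⟨i, rfl⟩ := Subgroup.mem_zpowers_iff.1 hw
      obtain ⟨j, rfl⟩ := Subgroup.mem_zpowers_iff.1 hw'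
      have h1 : Commute z (z' * s ^ j) := ((Subgroup.mem_center_iff.1 hz _)).symm
      have h2 : Commute (s ^ i) z' := Subgroup.mem_center_iff.1 hz' _
      exact (h1.mul_left (h2.mul_right ((Commute.refl s).zpow_zpow i j))).eq
    have hb : commutator G = ⊥ := by
      rw [commutator_def, eq_bot_iff, Subgroup.commutator_le]
      intro a _ b _
      rw [Subgroup.mem_bot, commutatorElement_eq_one_iff_mul_comm]
      exact hab a b
    have hp1 := hcore.dvd
    rw [← Subgroup.card_top (G := G), ← hcore.perf, hb, Subgroup.card_bot] at hp1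
    exact hcore.prime.one_lt.not_ge (Nat.le_of_dvd one_pos hp1)
  · exact hcore.norm H hn htop (Subgroup.mem_sup_right (Subgroup.mem_zpowers s))

/-- An involution of full trace is the identity. -/
theorem eq_one_of_trace {m : ℕ} (f : Module.End ℂ (Fin m → ℂ)) (hff : f * f = 1)
    (htr : LinearMap.trace ℂ _ f = (m : ℂ)) : f = 1 := by
  set F : Module.End ℂ (Fin m → ℂ) := (2 : ℂ)⁻¹ • (1 - f) with hF
  have hidem : IsIdempotentElem F := by
    rw [IsIdempotentElem, hF, smul_mul_smul_comm,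
      show (1 - f) * (1 - f) = (2 : ℂ) • (1 - f) by
        rw [sub_mul, one_mul, mul_sub, mul_one, hff, two_smul]; abel,
      smul_smul, mul_assoc, inv_mul_cancel₀ two_ne_zero, mul_one]
  have h0 : Module.finrank ℂ (LinearMap.range F) = 0 := by
    have h := (LinearMap.IsIdempotentElem.isProj_range F hidem).trace
    rw [hF, map_smul, map_sub, htr, Module.End.one_eq_id, LinearMap.trace_id, Module.finrank_fin_fun,
      sub_self, smul_zero] at h
    exact_mod_cast h.symm
  rw [Submodule.finrank_eq_zero, LinearMap.range_eq_bot, hF, smul_eq_zero, sub_eq_zero] at h0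
  exact (h0.resolve_left (by norm_num)).symm

/-- Values and determinants at an element squaring into the centre. -/
theorem inv_value (hcore : Core p G) {V : Subgroup G} [Fintype V] {μ : IrrCharacter V}
    (hμ : (μ : V → ℂ) 1 = 1) (χ : IrrCharacter G) (hc : Cen V (χ : G → ℂ) μ) {d : ℕ} (hd : charDegree (χ : G → ℂ) = d)
    {s : G} (hs : s ∉ Subgroup.center G) {z : V} (hz : s * s = z) {ω : ℂ}
    (hω : ω ^ 2 = (μ : V → ℂ) z) (hω0 : ω ≠ 0) :
    ∃ n : ℕ, n ≤ d ∧ (χ : G → ℂ) s = ω * ((d : ℂ) - 2 * n) ∧ ω ^ d * (-1) ^ n = 1 ∧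
      (2 ≤ d → n ≠ 0 ∧ n ≠ d) := by
  obtain ⟨m, ρ, hρ, hχ⟩ := id χ.2
  have h1 := irr_one_eq_charDegree χ
  rw [hd] at h1
  have hm : m = d := by
    rw [← hχ, Representation.char_one, Module.finrank_fin_fun] at h1
    exact_mod_cast h1
  subst hm
  have hc' : ∀ g, ρ.character ((z : G) * g) = (μ : V → ℂ) z * ρ.character g := fun g => by
    rw [hχ]; exact hc z g
  set f : Module.End ℂ (Fin m → ℂ) := ω⁻¹ • ρ s with hf
  have hsc : ρ (z : G) = (μ : V → ℂ) z • LinearMap.id := by
    have hzc : ‖ρ.character (z : G)‖ = (Module.finrank ℂ (Fin m → ℂ) : ℝ) := by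
      have hμn : ‖(μ : V → ℂ) z‖ = 1 := by
        obtain ⟨g, hg⟩ := lin_hom hμ
        rw [hg]
        refine norm_eq_one_of_pow (m := Nat.card V) Nat.card_pos.ne' ?_
        rw [← Units.val_pow_eq_pow_val, ← map_pow, pow_card_eq_one', map_one, Units.val_one]
      rw [← mul_one (z : G), hc', Representation.char_one, norm_mul, hμn, one_mul, Complex.norm_natCast]
    obtain ⟨c, hcs⟩ := (norm_char_eq_iff ρ (z : G)).1 hzc
    rw [hcs]
    congr 1
    have h := hc' 1
    rw [mul_one, Representation.character, hcs, map_smul, LinearMap.trace_id, smul_eq_mul,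
      Representation.char_one] at h
    have : Nontrivial (Fin m → ℂ) := nontrivial_of_irreducible ρ
    exact mul_right_cancel₀ (Nat.cast_ne_zero.2 Module.finrank_pos.ne') h
  have hff : f * f = 1 := by
    rw [hf, smul_mul_smul_comm, ← map_mul, hz, hsc, smul_smul, ← mul_inv, ← pow_two, hω,
      inv_mul_cancel₀ (hω ▸ pow_ne_zero 2 hω0), one_smul]
    rfl
  obtain ⟨n, hn, htr, hdet⟩ := M12Uniq.trace_det_involution f hff
  rw [Module.finrank_fin_fun] at hn htr
  refine ⟨n, hn, ?_, ?_, fun h2 => ?_⟩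
  · rw [hf, map_smul, smul_eq_mul, inv_mul_eq_iff_eq_mul₀ hω0] at htr
    rw [← hχ]
    exact htr
  · rw [hf, LinearMap.det_smul, Module.finrank_fin_fun] at hdet
    have hdet1 : LinearMap.det (ρ s) = 1 := by
      have h2 := DFunLike.congr_fun (hom_eq_one hcore.perf (detHom ρ)) s
      rw [← detHom_apply, h2, MonoidHom.one_apply, Units.val_one]
    rw [hdet1, mul_one] at hdet
    rw [← hdet, inv_pow, mul_inv_cancel₀ (pow_ne_zero _ hω0)]
  have hfs : ρ s = ω • f := by rw [hf, smul_smul, mul_inv_cancel₀ hω0, one_smul]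
  have hsc' : ∀ c : ℂ, ρ s = c • 1 → False := by
    intro c hcs
    set H := (MonoidHom.ker (ρ : G →* Module.End ℂ (Fin m → ℂ))) with hH
    have htop : H ≠ ⊤ := by
      intro htop
      have h := classInner_self_irr χ.2
      have hconst : ∀ g, (χ : G → ℂ) g = (m : ℂ) := fun g => by
        have hg : g ∈ H := htop ▸ Subgroup.mem_top g
        rw [← hχ, Representation.character, MonoidHom.mem_ker.1 hg, LinearMap.trace_one,
          Module.finrank_fin_fun]
      rw [classInner, Finset.sum_congr rfl (g := fun _ => ((m : ℂ)) * m) (fun g _ => by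
        rw [hconst, map_natCast]), Finset.sum_const, Finset.card_univ, nsmul_eq_mul,
        ← Nat.card_eq_fintype_card, inv_mul_cancel_left₀ (Nat.cast_ne_zero.2 Nat.card_pos.ne')] at h
      have h' : m * m = 1 := by exact_mod_cast h
      have := Nat.mul_le_mul h2 h2
      omega
    have hle := hcore.norm H inferInstance htop
    refine hs (mem_center_of_comm hcore fun g => hle ?_)
    rw [hH, MonoidHom.mem_ker]
    show ρ (g * s * g⁻¹ * s⁻¹) = 1
    rw [map_mul, map_mul, map_mul, hcs, mul_smul_comm, mul_one, smul_mul_assoc, ← map_mul,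
      mul_inv_cancel, map_one, ← hcs, ← map_mul, mul_inv_cancel, map_one]
  constructor
  · intro hn0
    refine hsc' ω ?_
    rw [hn0] at htr hdet
    rw [hfs, eq_one_of_trace f hff (by simpa using htr)]
  · intro hnm
    refine hsc' (-ω) ?_
    have hneg : -f = 1 := eq_one_of_trace (-f) ((neg_mul_neg f f).trans hff) (by
      rw [map_neg, htr, hnm]; ring)
    rw [hfs, ← hneg, smul_neg, neg_smul, neg_neg]

variable {P V N : Subgroup G} {e : ℕ} {K : Conf p P V N e}
  [Fintype P] [Fintype V] [Fintype N] [Fintype (P →* ℂˣ)] [NeZero p]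
  {ζ ζ' : IrrCharacter G} {b : IrrCharacter V} {C : Coord p P} (L : Local K ζ ζ' b C)

include L

theorem Local.hV : V ≤ Subgroup.center G := L.center.le

theorem Local.center_inj {v : V} (h : (b : V → ℂ) v = 1) : v = 1 := by
  refine Subtype.ext (L.faith _ ?_)
  rw [L.cen.apply v, h, one_mul]

theorem not_dvd_orderOf_sq {s : G} {z : V} (hz : s * s = z) : ¬ p ∣ orderOf s := by
  intro h
  have hp := K.hp
  have h5 : p ≠ 2 := by rcases L.pe with ⟨h, -⟩ | ⟨h, -⟩ <;> omega
  have hc : Nat.Coprime p 2 := (Nat.coprime_primes hp Nat.prime_two).2 h5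
  have h1 : orderOf s ∣ 2 * Nat.card V := by
    refine orderOf_dvd_of_pow_eq_one ?_
    rw [pow_mul, pow_two, hz, ← SubmonoidClass.coe_pow, pow_card_eq_one', OneMemClass.coe_one]
  exact K.hV (hc.dvd_of_dvd_mul_left (h.trans h1))

/-- No two conjugates of such an element multiply into a section. -/
theorem no_pairs {s : G} {z : V} (hz : s * s = z) {y : P} (hy : y ≠ 1) (a : G) (v : V)
    (h1 : IsConj s a) (h2 : IsConj s (a⁻¹ * ((y : G) * v))) : False := by
  have hV := L.hV
  have hcen : ∀ w : G, IsConj s w → w * w = (z : G) := by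
    intro w hw
    obtain ⟨g, rfl⟩ := isConj_iff.1 hw
    rw [show g * s * g⁻¹ * (g * s * g⁻¹) = g * (s * s) * g⁻¹ by group, hz,
      Subgroup.mem_center_iff.1 (hV z.2) g, mul_inv_cancel_right]
  have ha := hcen a h1
  have hb := hcen _ h2
  have hcy : ∀ x : G, Commute (v : G) x := fun x => (Subgroup.mem_center_iff.1 (hV v.2) x).symm
  set c : V := z * z * v⁻¹ * v⁻¹ with hc
  have hrel : a⁻¹ * (y : G) * a * y = (c : G) := by
    have e1 : a⁻¹ * (y : G) * a⁻¹ * y = (z : G) * ((v : G)⁻¹ * (v : G)⁻¹) := by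
      rw [show (z : G) = a⁻¹ * ((y : G) * v) * (a⁻¹ * ((y : G) * v)) from hb.symm]
      have hva := (hcy a⁻¹).eq
      have hvy := (hcy (y : G)).eq
      calc a⁻¹ * (y : G) * a⁻¹ * y
          = a⁻¹ * (y : G) * (v : G) * (v : G)⁻¹ * a⁻¹ * y := by group
        _ = a⁻¹ * ((y : G) * v) * (a⁻¹ * ((v : G)⁻¹ * y)) := by
            rw [mul_assoc _ (v : G)⁻¹ a⁻¹, ((hcy a⁻¹).inv_left).eq]; group
        _ = a⁻¹ * ((y : G) * v) * (a⁻¹ * ((y : G) * (v : G)⁻¹)) := by rw [((hcy (y : G)).inv_left).eq]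
        _ = _ := by group
    have e2 : a = (z : G) * a⁻¹ := by rw [← ha, mul_inv_cancel_right]
    calc a⁻¹ * (y : G) * a * y = a⁻¹ * (y : G) * ((z : G) * a⁻¹) * y := by rw [← e2]
      _ = (z : G) * (a⁻¹ * (y : G) * a⁻¹ * y) := by
          rw [← mul_assoc (a⁻¹ * (y : G)), Subgroup.mem_center_iff.1 (hV z.2) (a⁻¹ * (y : G))]; group
      _ = (c : G) := by rw [e1, hc]; push_cast; group
  have hconj : a⁻¹ * (y : G) * a⁻¹⁻¹ = (c : G) * (y : G)⁻¹ := by
    rw [inv_inv, ← hrel, mul_inv_cancel_right]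
  have hyp : (y : G) ^ p = 1 := pow_eq_one_of_card K.hP y.2
  have hcp : (c : G) ^ p = 1 := by
    have h3 : ((c : G) * (y : G)⁻¹) ^ p = 1 := by
      rw [← hconj, conj_pow, hyp, mul_one, mul_inv_cancel]
    rwa [(show Commute (c : G) (y : G)⁻¹ from (Subgroup.mem_center_iff.1 (hV c.2) _).symm).mul_pow,
      inv_pow, hyp, inv_one, mul_one] at h3
  have hc1 : (c : G) = 1 := by
    rcases (Nat.dvd_prime K.hp).1 (orderOf_dvd_of_pow_eq_one hcp) with ho | ho
    · exact orderOf_eq_one_iff.1 ho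
    · exact absurd (ho ▸ Subgroup.orderOf_dvd_natCard V c.2) K.hV
  rw [hc1, one_mul] at hconj
  exact L.noinv _ y hy hconj

/-- The class equation in a family. -/
theorem class_eqn {M : Ideal AlgInt} [M.IsPrime] {μ : IrrCharacter V} {X Y : Finset (IrrCharacter G)}
    {δ : ℤ} {sg : IrrCharacter G → ℤ} (F : Fam K (M := M) μ X Y δ sg) {s : G} {z : V} (hz : s * s = z)
    {θ : IrrCharacter G} (hθ : θ ∈ Y) :
    ∑ χ ∈ X, (sg χ : ℂ) * ((χ : G → ℂ) s ^ 2 / (χ : G → ℂ) 1) +
      (δ : ℂ) * ((θ : G → ℂ) s ^ 2 / (θ : G → ℂ) 1) = 0 := by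
  obtain ⟨y, hy⟩ := exists_ne_one_P K
  have h := Faithful.weighted K (t := s) (y := y) μ 1
    fun a v h1 h2 => (no_pairs L hz hy a v h1 h2).elim
  haveI : IsEmpty {a : G // IsConj s a ∧ IsConj s (a⁻¹ * ((y : G) * ((1 : V) : G)))} :=
    ⟨fun ⟨a, h1, h2⟩ => no_pairs L hz hy a 1 h1 h2⟩
  rw [Nat.card_of_isEmpty, Nat.cast_zero, zero_mul, zero_mul,
    Faithful.class_sum K F.fam (not_dvd_orderOf_sq L hz) hy hθ, zero_eq_mul] at h
  refine h.resolve_left (mul_ne_zero ?_ ?_) <;> exact Nat.cast_ne_zero.2 Nat.card_pos.ne'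

/-- An element of order two modulo the centre at which `ζ` vanishes. -/
theorem exists_inv_zero (hcore : Core p G) :
    ∃ (s : G) (z : V), s ∉ Subgroup.center G ∧ s * s = z ∧ (ζ : G → ℂ) s = 0 := by
  haveI := Fact.mk Nat.prime_two
  set Q := G ⧸ Subgroup.center G
  have hdvd : 2 ∣ Nat.card Q := by
    have h := degree_mul_dvd_of_faithful_central ζ.2 (Subgroup.center G) le_rfl
      (fun g _ h => L.faith g h) (d := 16) (by rw [L.deg]; norm_num)
    rw [Subgroup.card_eq_card_quotient_mul_card_subgroup (Subgroup.center G)] at h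
    exact (show 2 ∣ 16 by norm_num).trans ((Nat.mul_dvd_mul_iff_right Nat.card_pos).1 h)
  obtain ⟨S⟩ : Nonempty (Sylow 2 Q) := inferInstance
  have hS : 2 ∣ Nat.card (S : Subgroup Q) := by
    rw [S.card_eq_multiplicity]
    exact dvd_pow_self 2 ((Nat.Prime.dvd_iff_one_le_factorization Nat.prime_two Nat.card_pos.ne').1 hdvd |>
      fun h => by omega)
  haveI : Nontrivial (S : Subgroup Q) := Finite.one_lt_card_iff_nontrivial.1
    (lt_of_lt_of_le one_lt_two (Nat.le_of_dvd Nat.card_pos hS))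
  haveI : Nontrivial (Subgroup.center (S : Subgroup Q)) := S.2.center_nontrivial
  have hS2 : 2 ∣ Nat.card (Subgroup.center (S : Subgroup Q)) := by
    obtain ⟨k, hk⟩ := (S.2.to_subgroup (Subgroup.center (S : Subgroup Q))).exists_card_eq
    rw [hk]
    refine dvd_pow_self 2 fun h0 => ?_
    rw [h0, pow_zero] at hk
    exact absurd hk Finite.one_lt_card.ne'
  obtain ⟨t, ht⟩ := exists_prime_orderOf_dvd_card' 2 hS2
  obtain ⟨s, hs⟩ := QuotientGroup.mk_surjective ((t : (S : Subgroup Q)) : Q)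
  have hto : orderOf ((t : (S : Subgroup Q)) : Q) = 2 := by
    rw [Subgroup.orderOf_coe, Subgroup.orderOf_coe, ht]
  have hsn : s ∉ Subgroup.center G := fun h => by
    rw [(QuotientGroup.eq_one_iff s).2 h] at hs
    rw [← hs, orderOf_one] at hto
    omega
  have hz : s * s ∈ V := by
    rw [L.center, ← QuotientGroup.eq_one_iff, QuotientGroup.mk_mul]
    have h2 := pow_orderOf_eq_one ((t : (S : Subgroup Q)) : Q)
    rw [hto, ← hs, pow_two] at h2
    exact h2
  refine ⟨s, ⟨s * s, hz⟩, hsn, rfl, ?_⟩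
  set H := (S : Subgroup Q).comap (QuotientGroup.mk' (Subgroup.center G)) with hH
  have hHidx : ¬ 2 ∣ H.index := by
    rw [hH, Subgroup.index_comap_of_surjective _ (QuotientGroup.mk'_surjective _)]
    exact S.not_dvd_index
  by_contra hne
  have hHC : H ≤ Subgroup.centralizer ({s} : Set G) := by
    intro g hg
    rw [Subgroup.mem_centralizer_singleton_iff]
    have hcomm : ((g : Q)) * (s : Q) = (s : Q) * (g : Q) := by
      rw [hs]
      exact congrArg Subtype.val ((Subgroup.mem_center_iff.1 t.2) ⟨(g : Q), hg⟩)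
    have hc : g * s * g⁻¹ * s⁻¹ ∈ V := by
      rw [L.center, ← QuotientGroup.eq_one_iff]
      simp only [QuotientGroup.mk_mul, QuotientGroup.mk_inv]
      rw [hcomm]; group
    have hv : (b : V → ℂ) ⟨_, hc⟩ = 1 := by
      have h := L.cen ⟨_, hc⟩ s
      rw [show g * s * g⁻¹ * s⁻¹ * s = g * s * g⁻¹ by group,
        IsCharacter.isClassFunction (IsIrrCharacter.isCharacter ζ.2) s g] at h
      exact (mul_eq_right₀ hne).1 h.symm
    have h1 : g * s * g⁻¹ * s⁻¹ = 1 := congrArg Subtype.val (L.center_inj hv)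
    rw [mul_inv_eq_one, mul_inv_eq_iff_eq_mul] at h1
    exact h1
  set h := (Subgroup.centralizer ({s} : Set G)).index with hh
  have hodd : ¬ 2 ∣ h := fun h' => hHidx (h'.trans (Subgroup.index_dvd_of_le hHC))
  obtain ⟨ω, hω⟩ := IsAlgClosed.exists_pow_nat_eq ((b : V → ℂ) ⟨s * s, hz⟩) (n := 2) (by norm_num)
  have hω0 : ω ≠ 0 := fun h0 => lin_ne_zero L.lin ⟨s * s, hz⟩ (by rw [← hω, h0, zero_pow (by norm_num)])
  have hd : charDegree (ζ : G → ℂ) = 16 := by
    have h1 := irr_one_eq_charDegree ζ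
    rw [L.deg] at h1
    exact_mod_cast h1.symm
  obtain ⟨n, hn, hval, -, hne'⟩ := inv_value hcore L.lin ζ L.cen hd hsn (z := ⟨s * s, hz⟩) rfl hω hω0
  obtain ⟨hn0, hn16⟩ := hne' (by norm_num)
  have hωint : IsIntegral ℤ ω⁻¹ := by
    refine IsIntegral.of_pow (n := 2 * Nat.card V) (Nat.mul_pos two_pos Nat.card_pos) ?_
    rw [inv_pow, pow_mul, hω, ← lin_pow L.lin, pow_card_eq_one']
    rw [L.lin, inv_one]
    exact isIntegral_one
  obtain ⟨m, ρ, hρ, hχ⟩ := id ζ.2
  have hint := (isIntegral_centralChar ρ s).mul hωint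
  have hm : (Module.finrank ℂ (Fin m → ℂ) : ℂ) = (16 : ℕ) := by
    rw [← Representation.char_one ρ, hχ, L.deg]; norm_num
  rw [hχ, hval, hm] at hint
  have hint' : IsIntegral ℤ ((h : ℂ) * ((16 : ℂ) - 2 * n) / 16) := by
    have he : (h : ℂ) * (ω * (((16 : ℕ) : ℂ) - 2 * n)) / ((16 : ℕ) : ℂ) * ω⁻¹ =
        (h : ℂ) * ((16 : ℂ) - 2 * n) / 16 := by
      push_cast
      field_simp
    rwa [he] at hint
  obtain ⟨q, -, hq⟩ := M11Local.int_of_eq hint' (k := 16) (by norm_num)
    (a := (h : ℤ) * (16 - 2 * (n : ℤ))) (by push_cast; ring)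
  have h16 : (16 : ℤ) ∣ 16 - 2 * (n : ℤ) := by
    refine Int.dvd_of_dvd_mul_right_of_gcd_one (⟨q, hq.symm⟩ : (16 : ℤ) ∣ (h : ℤ) * _) ?_
    show Nat.gcd 16 h = 1
    exact Nat.Coprime.pow_left 4 (Nat.prime_two.coprime_iff_not_dvd.2 hodd)
  have hn8 : n = 8 := by omega
  rw [hn8] at hval
  apply hne
  rw [hval]
  norm_num

/-- Not every element squaring into the centre can square to an element of order four. -/
theorem absurd_of_inv_order_four (hcore : Core p G)
    (h4 : ∀ (s : G) (z : V), s ∉ Subgroup.center G → s * s = z → z * z ≠ 1) : False := by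
  haveI := Fact.mk Nat.prime_two
  obtain ⟨T⟩ : Nonempty (Sylow 2 G) := inferInstance
  have hcen : ∀ x : G, x ^ 4 = 1 → x ∈ Subgroup.center G := by
    have h2 : ∀ x : G, x ^ 2 = 1 → x ∈ Subgroup.center G := fun x hx => by
      by_contra hxc
      exact h4 x 1 hxc (by rw [← pow_two, hx]; rfl) (one_mul 1)
    intro x hx
    by_contra hxc
    have hx2 : x * x ∈ V := by
      rw [L.center]
      refine h2 _ ?_
      rw [← pow_two, ← pow_mul, hx]
    refine h4 x ⟨x * x, hx2⟩ hxc rfl (Subtype.ext ?_)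
    show x * x * (x * x) = 1
    rw [← hx, pow_succ, pow_succ, pow_two]; simp only [mul_assoc]
  have hab : AbCyc.AbCyclic (T : Subgroup G) := by
    intro A hA
    letI : CommGroup A := { (inferInstance : Group A) with mul_comm := mul_comm' }
    refine BGroup.isCyclic_of_unique_prime fun r hr x y hx hy => ?_
    have hr2 : r = 2 := by
      obtain ⟨k, hk⟩ := (T.2.to_subgroup A) x
      have h := orderOf_dvd_of_pow_eq_one hk
      rw [hx] at h
      exact (Nat.prime_dvd_prime_iff_eq hr Nat.prime_two).1 (hr.dvd_of_dvd_pow h)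
    subst hr2
    have key : ∀ w : A, orderOf w = 2 → ∃ v : V, (v : G) = ((w : (T : Subgroup G)) : G) ∧
        (b : V → ℂ) v = -1 := by
      intro w hw
      have hwG : orderOf ((w : (T : Subgroup G)) : G) = 2 := by
        rw [Subgroup.orderOf_coe, Subgroup.orderOf_coe, hw]
      have hwc : ((w : (T : Subgroup G)) : G) ∈ V := by
        rw [L.center]
        refine hcen _ ?_
        rw [show 4 = 2 * 2 by norm_num, pow_mul, orderOf_dvd_iff_pow_eq_one.1 hwG.dvd, one_pow]
      refine ⟨⟨_, hwc⟩, rfl, ?_⟩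
      have hsq : ((b : V → ℂ) ⟨_, hwc⟩) ^ 2 = 1 := by
        rw [← lin_pow L.lin]
        convert L.lin
        refine Subtype.ext ?_
        show ((w : (T : Subgroup G)) : G) ^ 2 = 1
        exact orderOf_dvd_iff_pow_eq_one.1 hwG.dvd
      rcases sq_eq_one_iff.1 hsq with h | h
      · exfalso
        have h1 := congrArg Subtype.val (L.center_inj h)
        rw [show ((w : (T : Subgroup G)) : G) = 1 from h1, orderOf_one] at hwG
        omega
      · exact h
    obtain ⟨v, hv, hbv⟩ := key x hx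
    obtain ⟨v', hv', hbv'⟩ := key y hy
    have hvv : v * v' = 1 := L.center_inj (by rw [lin_mul L.lin, hbv, hbv']; norm_num)
    have hxy : x * y = 1 := by
      refine Subtype.ext (Subtype.ext ?_)
      show ((x : (T : Subgroup G)) : G) * ((y : (T : Subgroup G)) : G) = 1
      rw [← hv, ← hv', ← Subgroup.coe_mul, hvv]
      rfl
    rw [eq_inv_of_mul_eq_one_right hxy]
    exact inv_mem (Subgroup.mem_zpowers x)
  have hcomm : ∀ a c : (T : Subgroup G), a * c = c * a := by
    rcases AbCyc.structure_of_pGroup hab T.2 with hc | ⟨-, A, -, hA, hidx, -, hout, -⟩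
    · exact fun a c => IsMulCommutative.is_comm.comm a c
    · obtain ⟨g, hg⟩ : ∃ g, g ∉ A := by
        by_contra h
        push Not at h
        rw [(Subgroup.eq_top_iff' A).2 h, Subgroup.index_top] at hidx
        omega
      have hgc : ∀ x : (T : Subgroup G), g * x = x * g := fun x => Subtype.ext
        (Subgroup.mem_center_iff.1 (hcen (g : G) (by
          rw [← SubmonoidClass.coe_pow, ← hout g hg, pow_orderOf_eq_one]; rfl)) (x : G)).symm
      have hAc : ∀ a ∈ A, ∀ c ∈ A, a * c = c * a := fun a ha c hc =>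
        congrArg Subtype.val (IsMulCommutative.is_comm.comm (⟨a, ha⟩ : A) ⟨c, hc⟩)
      have hdec : ∀ x : (T : Subgroup G), x ∈ A ∨ g⁻¹ * x ∈ A := fun x => by
        by_cases hx : x ∈ A
        · exact Or.inl hx
        · exact Or.inr ((Subgroup.mul_mem_iff_of_index_two hidx).2 ⟨fun h => absurd (inv_mem_iff.1 h) hg,
            fun h => absurd h hx⟩)
      have hga : ∀ x : (T : Subgroup G), Commute g x := hgc
      have hAall : ∀ a ∈ A, ∀ x : (T : Subgroup G), Commute a x := fun a ha x => by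
        rcases hdec x with hx | hx
        · exact hAc a ha x hx
        · have h' : Commute a (g * (g⁻¹ * x)) := (hga a).symm.mul_right (hAc a ha _ hx)
          rwa [mul_inv_cancel_left] at h'
      intro a c
      rcases hdec a with ha | ha
      · exact hAall a ha c
      · have h' : Commute (g * (g⁻¹ * a)) c := (hga c).mul_left (hAall _ ha c)
        rw [mul_inv_cancel_left] at h'
        exact h'.eq
  -- the transfer
  letI : CommGroup (T : Subgroup G) := { (inferInstance : Group (T : Subgroup G)) with mul_comm := hcomm }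
  have hdvd : 2 ∣ Nat.card G := by
    have h := degree_mul_dvd_of_faithful_central ζ.2 (Subgroup.center G) le_rfl
      (fun g _ h => L.faith g h) (d := 16) (by rw [L.deg]; norm_num)
    exact ((show 2 ∣ 16 by norm_num).mul_right _).trans h
  have hT : 2 ∣ Nat.card (T : Subgroup G) := by
    rw [T.card_eq_multiplicity]
    exact dvd_pow_self 2 ((Nat.Prime.dvd_iff_one_le_factorization Nat.prime_two Nat.card_pos.ne').1 hdvd |>
      fun h => by omega)
  obtain ⟨x, hx⟩ := exists_prime_orderOf_dvd_card' 2 hT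
  have hxG : orderOf (x : G) = 2 := by rw [Subgroup.orderOf_coe, hx]
  have hxc := hcen (x : G) (by rw [show 4 = 2 * 2 by norm_num, pow_mul, orderOf_dvd_iff_pow_eq_one.1 hxG.dvd, one_pow])
  have key : ∀ (k : ℕ) (g : G), g⁻¹ * (x : G) ^ k * g ∈ (T : Subgroup G) →
      g⁻¹ * (x : G) ^ k * g = (x : G) ^ k := fun k g _ => by
    have hcm : Commute g (x : G) := Subgroup.mem_center_iff.1 hxc g
    rw [mul_assoc, ← (hcm.pow_right k).eq, inv_mul_cancel_left]
  have ht := MonoidHom.transfer_eq_pow (MonoidHom.id (T : Subgroup G)) (x : G) key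
  have h0 : (MonoidHom.id (T : Subgroup G)).transfer (x : G) = 1 :=
    Abelianization.commutator_subset_ker _ (by rw [hcore.perf]; exact Subgroup.mem_top _)
  rw [h0] at ht
  have h1 : (x : G) ^ (T : Subgroup G).index = 1 := (congrArg Subtype.val ht).symm
  exact T.not_dvd_index (hxG.symm.dvd.trans (orderOf_dvd_of_pow_eq_one h1))

end Cfsg.Agent.SmallDeg16
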