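import Cfsg.Agent.Lib.SmallDeg16.P19

/-!
The prime nineteen: none of the families of degrees is possible.
-/

set_option autoImplicit false
set_option linter.unusedSectionVars false
set_option linter.style.haveILetI false

namespace Cfsg.Agent.SmallDeg16

open Cfsg Cfsg.Agent.Char Cfsg.Agent.Blocks Cfsg.Agent.CCSylow Cfsg.Agent.DefOne
open Cfsg.Agent.DegreePTwo Cfsg.Agent.CharExtend
open scoped ComplexConjugate

universe u

set_option synthInstance.maxSize 4000 in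
set_option synthInstance.maxHeartbeats 200000 in
set_option maxRecDepth 10000 in
theorem no_one_eighteen_thirtynine : ∀ i < 9, ∀ j < 20, ∀ k < 11, 1 ≤ i → 1 ≤ j → 1 ≤ k →
    (1 : ℤ) + (39 - 4 * (j : ℕ)) - (18 - 4 * (i : ℕ)) - (22 - 4 * (k : ℕ)) = 0 →
    (2574 : ℤ) + 66 * (39 - 4 * (j : ℕ)) ^ 2 - 143 * (18 - 4 * (i : ℕ)) ^ 2 -
      117 * (22 - 4 * (k : ℕ)) ^ 2 ≠ 0 := by
  decide +kernel

set_option synthInstance.maxSize 4000 in
set_option synthInstance.maxHeartbeats 200000 in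
set_option maxRecDepth 10000 in
theorem no_eighteen_twenty_twenty : ∀ i < 9, ∀ j < 10, ∀ k < 10, ∀ l < 11, 1 ≤ i → 1 ≤ j → 1 ≤ k → 1 ≤ l →
    -(18 - 4 * ((i : ℕ) : ℤ)) + (20 - 4 * (j : ℕ)) + (20 - 4 * (k : ℕ)) - (22 - 4 * (l : ℕ)) = 0 →
    (198 : ℤ) * ((20 - 4 * (j : ℕ)) ^ 2 + (20 - 4 * (k : ℕ)) ^ 2) - 220 * (18 - 4 * (i : ℕ)) ^ 2 -
      180 * (22 - 4 * (l : ℕ)) ^ 2 ≠ 0 := by
  decide +kernel

set_option synthInstance.maxSize 4000 in
set_option synthInstance.maxHeartbeats 200000 in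
set_option maxRecDepth 10000 in
theorem no_eighteen_eighteen_twenty : ∀ i < 9, ∀ j < 9, ∀ k < 10, ∀ l < 8, 1 ≤ i → 1 ≤ j → 1 ≤ k → 1 ≤ l →
    -(18 - 4 * ((i : ℕ) : ℤ)) - (18 - 4 * (j : ℕ)) + (20 - 4 * (k : ℕ)) + (16 - 4 * (l : ℕ)) = 0 →
    (36 : ℤ) * (20 - 4 * (k : ℕ)) ^ 2 - 40 * ((18 - 4 * (i : ℕ)) ^ 2 + (18 - 4 * (j : ℕ)) ^ 2) +
      45 * (16 - 4 * (l : ℕ)) ^ 2 ≠ 0 := by
  decide +kernel

set_option synthInstance.maxSize 4000 in
set_option synthInstance.maxHeartbeats 200000 in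
set_option maxRecDepth 10000 in
theorem no_twenty_fiftysix : ∀ j < 57, (31 : ℤ) * (56 - 2 * (j : ℕ)) ^ 2 - 784 * (56 - 2 * (j : ℕ)) + 4032 ≠ 0 := by
  decide +kernel

set_option synthInstance.maxSize 4000 in
set_option synthInstance.maxHeartbeats 200000 in
set_option maxRecDepth 10000 in
theorem no_ninetysix : ∀ n < 17, (250 : ℤ) * (16 - 2 * (n : ℕ)) ^ 2 + 192 * (16 - 2 * (n : ℕ)) - 1536 ≠ 0 := by
  decide +kernel

variable {G : Type u} [Group G] [Fintype G]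
  {P V N : Subgroup G} {K : Conf 19 P V N 3} [Fintype P] [Fintype V] [Fintype N]
  [Fintype (P →* ℂˣ)] {ζ ζ' : IrrCharacter G} {b : IrrCharacter V} {C : Coord 19 P}
  (L : Local K ζ ζ' b C) {M : Ideal AlgInt} [M.IsPrime] {μ : IrrCharacter V}
  {X Y : Finset (IrrCharacter G)} {δ : ℤ} {sg : IrrCharacter G → ℤ}
  (F : Fam K (M := M) μ X Y δ sg)
  (hμ : ∀ v : V, (μ : V → ℂ) v = (b : V → ℂ) v * (b : V → ℂ) v)

include F

theorem value_at {χ : IrrCharacter G} (hχ : χ ∈ X ∨ χ ∈ Y) (hcore : Core 19 G) {d : ℕ}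
    (hd : charDegree (χ : G → ℂ) = d) {s : G} (hs : s ∉ Subgroup.center G) {z : V} (hz : s * s = z)
    {ω : ℂ} (hω : ω ^ 2 = (μ : V → ℂ) z) (hω0 : ω ≠ 0) :
    ∃ n : ℕ, n ≤ d ∧ (χ : G → ℂ) s = ω * (((d : ℤ) - 2 * n : ℤ) : ℂ) ∧
      ω ^ d * (-1) ^ n = 1 ∧ (2 ≤ d → n ≠ 0 ∧ n ≠ d) := by
  have hc : Cen V (χ : G → ℂ) μ := F.cen_of_inR (hχ.elim F.inR_X F.inR_Y)
  obtain ⟨n, h1, h2, h3, h4⟩ := inv_value hcore F.lin χ hc hd hs hz hω hω0
  exact ⟨n, h1, by rw [h2]; push_cast; ring, h3, h4⟩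

/-- The values at an element whose square is central of order at most two. -/
theorem value_even {χ : IrrCharacter G} (hχ : χ ∈ X ∨ χ ∈ Y) (hcore : Core 19 G) {d : ℕ}
    (hd : charDegree (χ : G → ℂ) = d) (hd2 : 2 ≤ d) {s : G} (hs : s ∉ Subgroup.center G) {z : V}
    (hz : s * s = z) (hz1 : (μ : V → ℂ) z = 1) :
    ∃ k : ℕ, 1 ≤ k ∧ 2 * k < d ∧ (χ : G → ℂ) s = (((d : ℤ) - 4 * k : ℤ) : ℂ) := by
  obtain ⟨n, h1, h2, h3, h4⟩ := value_at F hχ hcore hd hs hz (ω := 1) (by rw [one_pow, hz1]) one_ne_zero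
  obtain ⟨h5, h6⟩ := h4 hd2
  rw [one_pow, one_mul] at h3
  obtain ⟨k, hk⟩ : Even n := by
    by_contra h
    rw [(Nat.not_even_iff_odd.1 h).neg_one_pow] at h3
    norm_num at h3
  refine ⟨k, by omega, by omega, ?_⟩
  rw [h2, one_mul, hk]
  push_cast
  ring

theorem relation_three {θ : IrrCharacter G} (hθ : θ ∈ Y) {x y t : IrrCharacter G} (hxy : x ≠ y)
    (hxt : x ≠ t) (hyt : y ≠ t) (hmem : ∀ χ, χ ∈ X ↔ χ = x ∨ χ = y ∨ χ = t) {s : G}
    (hs : ¬ 19 ∣ orderOf s) :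
    (sgd (charDegree (x : G → ℂ)) : ℂ) * (x : G → ℂ) s + (sgd (charDegree (y : G → ℂ)) : ℂ) * (y : G → ℂ) s +
      (sgd (charDegree (t : G → ℂ)) : ℂ) * (t : G → ℂ) s + (δ : ℂ) * (θ : G → ℂ) s = 0 := by
  have h := Families.relation K F.fam hθ hs
  rw [sum_of_mem_iff hxy hxt hyt hmem, F.sg_eq ((hmem x).2 (Or.inl rfl)),
    F.sg_eq ((hmem y).2 (Or.inr (Or.inl rfl))), F.sg_eq ((hmem t).2 (Or.inr (Or.inr rfl)))] at h
  linear_combination h

theorem expand_three {f : G → ℂ} (hf : IsCharacter G f) (hc : Cen V f μ) {d : ℕ} (hd : f 1 = d)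
    {θ : IrrCharacter G} (hθ : θ ∈ Y) {x y t : IrrCharacter G} (hxy : x ≠ y) (hxt : x ≠ t) (hyt : y ≠ t)
    (hmem : ∀ χ, χ ∈ X ↔ χ = x ∨ χ = y ∨ χ = t) {i j k : ℕ} (hi : mult f x = i) (hj : mult f y = j)
    (hk : mult f t = k) {U : ℤ} (hU : ∑ η ∈ Y, (mult f η : ℤ) = U)
    (hfull : (d : ℤ) = i * (charDegree (x : G → ℂ) : ℤ) + j * (charDegree (y : G → ℂ) : ℤ) +
      k * (charDegree (t : G → ℂ) : ℤ) + (charDegree (θ : G → ℂ) : ℤ) * U)
    {s : G} (hs : ¬ 19 ∣ orderOf s) :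
    f s = i * (x : G → ℂ) s + j * (y : G → ℂ) s + k * (t : G → ℂ) s + (U : ℂ) * (θ : G → ℂ) s := by
  rw [F.expand hf hc hd hθ (by
    rw [sum_of_mem_iff hxy hxt hyt hmem, hi, hj, hk, hU, hfull]
    exact le_of_eq (by ring)) hs, sum_of_mem_iff hxy hxt hyt hmem, hi, hj, hk, hU]
  ring

omit F
include L F

theorem class_three {θ : IrrCharacter G} (hθ : θ ∈ Y) {x y t : IrrCharacter G} (hxy : x ≠ y)
    (hxt : x ≠ t) (hyt : y ≠ t) (hmem : ∀ χ, χ ∈ X ↔ χ = x ∨ χ = y ∨ χ = t) {s : G} {z : V}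
    (hz : s * s = z) :
    (sgd (charDegree (x : G → ℂ)) : ℂ) * ((x : G → ℂ) s ^ 2 / (charDegree (x : G → ℂ) : ℂ)) +
      (sgd (charDegree (y : G → ℂ)) : ℂ) * ((y : G → ℂ) s ^ 2 / (charDegree (y : G → ℂ) : ℂ)) +
      (sgd (charDegree (t : G → ℂ)) : ℂ) * ((t : G → ℂ) s ^ 2 / (charDegree (t : G → ℂ) : ℂ)) +
      (δ : ℂ) * ((θ : G → ℂ) s ^ 2 / (charDegree (θ : G → ℂ) : ℂ)) = 0 := by
  have h := class_eqn L F hz hθ
  rw [sum_of_mem_iff hxy hxt hyt hmem, F.sg_eq ((hmem x).2 (Or.inl rfl)),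
    F.sg_eq ((hmem y).2 (Or.inr (Or.inl rfl))), F.sg_eq ((hmem t).2 (Or.inr (Or.inr rfl))),
    irr_one_eq_charDegree, irr_one_eq_charDegree, irr_one_eq_charDegree, irr_one_eq_charDegree] at h
  linear_combination h

include hμ

/-- An element of order two modulo a central subgroup on which the squares are trivial. -/
theorem exists_small_square (hcore : Core 19 G) :
    ∃ (s : G) (z : V), s ∉ Subgroup.center G ∧ s * s = z ∧ (μ : V → ℂ) z = 1 := by
  by_contra h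
  push Not at h
  refine absurd_of_inv_order_four L hcore fun s z hs hz hzz => h s z hs hz ?_
  rw [hμ, ← lin_mul L.lin, hzz, L.lin]

/-- The degrees `1, 18, 39`. -/
theorem kill_one_eighteen_thirtynine (hcore : Core 19 G) {θ : IrrCharacter G} (hθ : θ ∈ Y)
    (hδ : δ = -1) (hD : charDegree (θ : G → ℂ) = 22) (hX : Arr X 1 18 39) : False := by
  obtain ⟨x, y, t, hxy, hxt, hyt, hmem, dx, dy, dt⟩ := hX
  obtain ⟨s, z, hs, hz, hz1⟩ := exists_small_square L F hμ hcore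
  have hr := not_dvd_orderOf_sq L hz
  obtain ⟨i, i1, i2, hi⟩ := value_even F (Or.inl ((hmem y).2 (Or.inr (Or.inl rfl)))) hcore dy (by norm_num) hs hz hz1
  obtain ⟨j, j1, j2, hj⟩ := value_even F (Or.inl ((hmem t).2 (Or.inr (Or.inr rfl)))) hcore dt (by norm_num) hs hz hz1
  obtain ⟨k, k1, k2, hk⟩ := value_even F (Or.inr hθ) hcore hD (by norm_num) hs hz hz1
  have hx : (x : G → ℂ) s = 1 := by rw [eq_principal_of_one hcore.perf dx, principal_apply]
  have e1 := relation_three F hθ hxy hxt hyt hmem hr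
  have e2 := class_three L F hθ hxy hxt hyt hmem hz
  rw [hx, hi, hj, hk, dx, dy, dt, hδ] at e1
  rw [hx, hi, hj, hk, dx, dy, dt, hD, hδ] at e2
  simp only [sgd] at e1 e2
  norm_num at e1 e2
  refine no_one_eighteen_thirtynine i (by omega) j (by omega) k (by omega) i1 j1 k1
    (Int.cast_injective (α := ℂ) (by push_cast; linear_combination e1))
    (Int.cast_injective (α := ℂ) (by push_cast; linear_combination 2574 * e2))

/-- The degrees `18, 20, 20`. -/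
theorem kill_eighteen_twenty_twenty (hcore : Core 19 G) {θ : IrrCharacter G} (hθ : θ ∈ Y)
    (hδ : δ = -1) (hD : charDegree (θ : G → ℂ) = 22) (hX : Arr X 18 20 20) : False := by
  obtain ⟨x, y, t, hxy, hxt, hyt, hmem, dx, dy, dt⟩ := hX
  obtain ⟨s, z, hs, hz, hz1⟩ := exists_small_square L F hμ hcore
  have hr := not_dvd_orderOf_sq L hz
  obtain ⟨i, i1, i2, hi⟩ := value_even F (Or.inl ((hmem x).2 (Or.inl rfl))) hcore dx (by norm_num) hs hz hz1
  obtain ⟨j, j1, j2, hj⟩ := value_even F (Or.inl ((hmem y).2 (Or.inr (Or.inl rfl)))) hcore dy (by norm_num) hs hz hz1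
  obtain ⟨k, k1, k2, hk⟩ := value_even F (Or.inl ((hmem t).2 (Or.inr (Or.inr rfl)))) hcore dt (by norm_num) hs hz hz1
  obtain ⟨l, l1, l2, hl⟩ := value_even F (Or.inr hθ) hcore hD (by norm_num) hs hz hz1
  have e1 := relation_three F hθ hxy hxt hyt hmem hr
  have e2 := class_three L F hθ hxy hxt hyt hmem hz
  rw [hi, hj, hk, hl, dx, dy, dt, hδ] at e1
  rw [hi, hj, hk, hl, dx, dy, dt, hD, hδ] at e2
  simp only [sgd] at e1 e2
  norm_num at e1 e2
  exact no_eighteen_twenty_twenty i (by omega) j (by omega) k (by omega) l (by omega) i1 j1 k1 l1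
    (Int.cast_injective (α := ℂ) (by push_cast; linear_combination e1))
    (Int.cast_injective (α := ℂ) (by push_cast; linear_combination 3960 * e2))

/-- The degrees `18, 18, 20`. -/
theorem kill_eighteen_eighteen_twenty (hcore : Core 19 G) {θ : IrrCharacter G} (hθ : θ ∈ Y)
    (hδ : δ = 1) (hD : charDegree (θ : G → ℂ) = 16) (hX : Arr X 18 18 20) : False := by
  obtain ⟨x, y, t, hxy, hxt, hyt, hmem, dx, dy, dt⟩ := hX
  obtain ⟨s, z, hs, hz, hz1⟩ := exists_small_square L F hμ hcore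
  have hr := not_dvd_orderOf_sq L hz
  obtain ⟨i, i1, i2, hi⟩ := value_even F (Or.inl ((hmem x).2 (Or.inl rfl))) hcore dx (by norm_num) hs hz hz1
  obtain ⟨j, j1, j2, hj⟩ := value_even F (Or.inl ((hmem y).2 (Or.inr (Or.inl rfl)))) hcore dy (by norm_num) hs hz hz1
  obtain ⟨k, k1, k2, hk⟩ := value_even F (Or.inl ((hmem t).2 (Or.inr (Or.inr rfl)))) hcore dt (by norm_num) hs hz hz1
  obtain ⟨l, l1, l2, hl⟩ := value_even F (Or.inr hθ) hcore hD (by norm_num) hs hz hz1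
  have e1 := relation_three F hθ hxy hxt hyt hmem hr
  have e2 := class_three L F hθ hxy hxt hyt hmem hz
  rw [hi, hj, hk, hl, dx, dy, dt, hδ] at e1
  rw [hi, hj, hk, hl, dx, dy, dt, hD, hδ] at e2
  simp only [sgd] at e1 e2
  norm_num at e1 e2
  exact no_eighteen_eighteen_twenty i (by omega) j (by omega) k (by omega) l (by omega) i1 j1 k1 l1
    (Int.cast_injective (α := ℂ) (by push_cast; linear_combination e1))
    (Int.cast_injective (α := ℂ) (by push_cast; linear_combination 720 * e2))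

/-- The values of the squares at a zero of `ζ`, in terms of a root of the central value. -/
theorem exists_zero_data (hcore : Core 19 G) :
    ∃ (s : G) (z : V), s ∉ Subgroup.center G ∧ s * s = z ∧ ¬ 19 ∣ orderOf s ∧
      (b : V → ℂ) z ≠ 0 ∧ (b : V → ℂ) z ^ 2 = (μ : V → ℂ) z ∧
      altF (ζ : G → ℂ) s = -8 * (b : V → ℂ) z ∧ symF (ζ : G → ℂ) s = 8 * (b : V → ℂ) z := by
  obtain ⟨s, z, hs, hz, h0⟩ := exists_inv_zero L hcore
  obtain ⟨h1, h2, -⟩ := L.sq_values hz h0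
  exact ⟨s, z, hs, hz, not_dvd_orderOf_sq L hz, lin_ne_zero L.lin z, by rw [pow_two, hμ], h1, h2⟩

/-- The degree sixty. -/
theorem kill_sixty (hcore : Core 19 G) {θ : IrrCharacter G} (hθ : θ ∈ Y) (hδ : δ = -1)
    (hD : charDegree (θ : G → ℂ) = 60) (S : Sq19 ζ X Y sg 0 2 0 76)
    (hX : Arr X 1 20 39 ∨ Arr X 20 20 20 ∨ Arr X 20 56 96) : False := by
  obtain ⟨s, z, hs, hz, hr, hω0, hω, hals, hsys⟩ := exists_zero_data L F hμ hcore
  obtain ⟨hia, his, -⟩ := L.isChar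
  obtain ⟨hca, hcs, -⟩ := L.cen_sq hμ
  obtain ⟨hda, hds, -⟩ := L.degrees
  set ω := (b : V → ℂ) z with hωdef
  obtain ⟨A, B, C₀, hX'⟩ : ∃ A B C₀, Arr X A B C₀ := by
    rcases hX with h | h | h <;> exact ⟨_, _, _, h⟩
  obtain ⟨x, y, t, hxy, hxt, hyt, hmem, rfl, rfl, rfl⟩ := hX'
  obtain ⟨Ra, hRa⟩ := S.wa
  rw [sum_of_mem_iff hxy hxt hyt hmem] at hRa
  have px : 0 < (charDegree (x : G → ℂ) : ℤ) := by exact_mod_cast charDegree_pos x
  have py : 0 < (charDegree (y : G → ℂ) : ℤ) := by exact_mod_cast charDegree_pos y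
  have pt : 0 < (charDegree (t : G → ℂ) : ℤ) := by exact_mod_cast charDegree_pos t
  have q1 := mul_nonneg (Int.natCast_nonneg (mult (altF (ζ : G → ℂ)) x)) px.le
  have q2 := mul_nonneg (Int.natCast_nonneg (mult (altF (ζ : G → ℂ)) y)) py.le
  have q3 := mul_nonneg (Int.natCast_nonneg (mult (altF (ζ : G → ℂ)) t)) pt.le
  have hma : mult (altF (ζ : G → ℂ)) x = 0 ∧ mult (altF (ζ : G → ℂ)) y = 0 ∧ mult (altF (ζ : G → ℂ)) t = 0 := by
    refine ⟨?_, ?_, ?_⟩
    · exact_mod_cast (mul_eq_zero.1 (show (mult (altF (ζ : G → ℂ)) x : ℤ) * _ = 0 by omega)).resolve_right px.ne'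
    · exact_mod_cast (mul_eq_zero.1 (show (mult (altF (ζ : G → ℂ)) y : ℤ) * _ = 0 by omega)).resolve_right py.ne'
    · exact_mod_cast (mul_eq_zero.1 (show (mult (altF (ζ : G → ℂ)) t : ℤ) * _ = 0 by omega)).resolve_right pt.ne'
  obtain ⟨nw, hnw, hw, -, -⟩ := value_at F (Or.inr hθ) hcore hD hs hz hω hω0
  have ea := expand_three F hia hca hda hθ hxy hxt hyt hmem hma.1 hma.2.1 hma.2.2 S.ua
    (by rw [hD]; norm_num) hr
  rw [hals, hw] at ea
  have hw4 : (60 : ℤ) - 2 * nw = -4 := by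
    refine Int.cast_injective (α := ℂ) (mul_left_cancel₀ hω0 ?_)
    push_cast at ea ⊢
    linear_combination (-1 / 2 : ℂ) * ea
  rw [show ((60 : ℕ) : ℤ) = 60 from rfl, hw4] at hw
  rcases hX with hX | hX | hX <;> obtain ⟨a, c, d, hac, had, hcd, hm', da, dc, dd⟩ := hX <;>
    obtain ⟨i, -, hi, -, hi'⟩ := value_at F (Or.inl ((hm' a).2 (Or.inl rfl))) hcore da hs hz hω hω0 <;>
    obtain ⟨j, hjle, hj, -, hj'⟩ := value_at F (Or.inl ((hm' c).2 (Or.inr (Or.inl rfl)))) hcore dc hs hz hω hω0 <;>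
    obtain ⟨k, -, hk, -, hk'⟩ := value_at F (Or.inl ((hm' d).2 (Or.inr (Or.inr rfl)))) hcore dd hs hz hω hω0 <;>
    have e2 := class_three L F hθ hac had hcd hm' hz <;>
    rw [hi, hj, hk, hw, da, dc, dd, hD, hδ] at e2 <;> simp only [sgd] at e2 <;> norm_num at e2
  · have h : (780 : ℤ) * (1 - 2 * (i : ℤ)) ^ 2 + 39 * (20 - 2 * (j : ℤ)) ^ 2 +
        20 * (39 - 2 * (k : ℤ)) ^ 2 - 208 = 0 := by
      refine Int.cast_injective (α := ℂ) (mul_left_cancel₀ (pow_ne_zero 2 hω0) ?_)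
      push_cast
      linear_combination (780 : ℂ) * e2
    have h1 : (1 : ℤ) ≤ (1 - 2 * (i : ℤ)) ^ 2 := by
      rcases Nat.eq_zero_or_pos i with h0 | h0
      · subst h0; norm_num
      · nlinarith [show (1 : ℤ) ≤ (i : ℤ) by exact_mod_cast h0]
    nlinarith [sq_nonneg (20 - 2 * (j : ℤ)), sq_nonneg (39 - 2 * (k : ℤ))]
  · have h : (3 : ℤ) * ((20 - 2 * (i : ℤ)) ^ 2 + (20 - 2 * (j : ℤ)) ^ 2 + (20 - 2 * (k : ℤ)) ^ 2) = 16 := by
      refine Int.cast_injective (α := ℂ) (mul_left_cancel₀ (pow_ne_zero 2 hω0) ?_)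
      push_cast
      linear_combination (60 : ℂ) * e2
    omega
  · have hrel := relation_three F hθ hac had hcd hm' hr
    rw [hi, hj, hk, hw, da, dc, dd, hδ] at hrel
    simp only [sgd] at hrel
    norm_num at hrel
    obtain ⟨Rs, hRs⟩ := S.ws
    have hcs0 := S.cs
    rw [sum_of_mem_iff hac had hcd hm', da, dc, dd] at hRs
    rw [sum_of_mem_iff hac had hcd hm', F.sg_eq ((hm' a).2 (Or.inl rfl)),
      F.sg_eq ((hm' c).2 (Or.inr (Or.inl rfl))), F.sg_eq ((hm' d).2 (Or.inr (Or.inr rfl))), da, dc, dd] at hcs0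
    simp only [sgd] at hcs0
    norm_num at hcs0
    have hc56 : mult (symF (ζ : G → ℂ)) c ≠ 0 := by
      refine (S.neg c ((hm' c).2 (Or.inr (Or.inl rfl))) ?_).resolve_left fun h => h ?_
      · rw [F.sg_eq ((hm' c).2 (Or.inr (Or.inl rfl))), dc]; rfl
      · rcases (hmem c).1 ((hm' c).2 (Or.inr (Or.inl rfl))) with e | e | e <;> rw [e]
        exacts [hma.1, hma.2.1, hma.2.2]
    have es := expand_three F his hcs hds hθ hac had hcd hm' (i := 1) (j := 1) (k := 0) (by omega)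
      (by omega) (by omega) S.us (by rw [da, dc, dd, hD]; norm_num) hr
    rw [hsys, hi, hj, hw] at es
    refine no_twenty_fiftysix j (by omega) (Int.cast_injective (α := ℂ) (mul_left_cancel₀ (pow_ne_zero 2 hω0) ?_))
    have ha : ω * ((20 : ℂ) - 2 * i) = ω * (12 - (56 - 2 * (j : ℂ))) := by
      push_cast at es
      linear_combination (-1 : ℂ) * es
    have hd : ω * ((96 : ℂ) - 2 * k) = ω * (2 * (56 - 2 * (j : ℂ)) - 16) := by
      linear_combination hrel - ha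
    push_cast
    linear_combination (420 : ℂ) * e2
      - 21 * (ω * ((20 : ℂ) - 2 * i) + ω * (12 - (56 - 2 * (j : ℂ)))) * ha
      - (35 / 8 : ℂ) * (ω * ((96 : ℂ) - 2 * k) + ω * (2 * (56 - 2 * (j : ℂ)) - 16)) * hd

/-- The degree sixteen. -/
theorem kill_sixteen (hcore : Core 19 G) {θ : IrrCharacter G} (hθ : θ ∈ Y) (hδ : δ = 1)
    (hD : charDegree (θ : G → ℂ) = 16) (S : Sq19 ζ X Y sg (-1) 4 56 56)
    (hX : Arr X 1 39 56 ∨ Arr X 20 20 56 ∨ Arr X 56 56 96) : False := by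
  obtain ⟨s, z, hs, hz, hr, hω0, hω, hals, hsys⟩ := exists_zero_data L F hμ hcore
  obtain ⟨hia, his, -⟩ := L.isChar
  obtain ⟨hca, hcs, -⟩ := L.cen_sq hμ
  obtain ⟨hda, hds, -⟩ := L.degrees
  set ω := (b : V → ℂ) z with hωdef
  obtain ⟨Ra, hRa⟩ := S.wa
  obtain ⟨Rs, hRs⟩ := S.ws
  have hca1 := S.ca
  have hcs1 := S.cs
  obtain ⟨nw, hnwle, hw, -, hnw⟩ := value_at F (Or.inr hθ) hcore hD hs hz hω hω0
  obtain ⟨hnw0, hnw16⟩ := hnw (by norm_num)
  rcases hX with hX | hX | hX <;> obtain ⟨x, y, t, hxy, hxt, hyt, hmem, dx, dy, dt⟩ := hX <;>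
    rw [sum_of_mem_iff hxy hxt hyt hmem, dx, dy, dt] at hRa hRs <;>
    rw [sum_of_mem_iff hxy hxt hyt hmem, F.sg_eq ((hmem x).2 (Or.inl rfl)),
      F.sg_eq ((hmem y).2 (Or.inr (Or.inl rfl))), F.sg_eq ((hmem t).2 (Or.inr (Or.inr rfl))), dx, dy, dt]
      at hca1 hcs1 <;>
    simp only [sgd] at hca1 hcs1 <;> norm_num at hca1 hcs1
  rotate_left 2
  · obtain ⟨i, -, hi, -, -⟩ := value_at F (Or.inl ((hmem x).2 (Or.inl rfl))) hcore dx hs hz hω hω0
    obtain ⟨j, -, hj, -, -⟩ := value_at F (Or.inl ((hmem y).2 (Or.inr (Or.inl rfl)))) hcore dy hs hz hω hω0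
    obtain ⟨k, -, hk, -, -⟩ := value_at F (Or.inl ((hmem t).2 (Or.inr (Or.inr rfl)))) hcore dt hs hz hω hω0
    have e2 := class_three L F hθ hxy hxt hyt hmem hz
    have e1 := relation_three F hθ hxy hxt hyt hmem hr
    rw [hi, hj, hk, hw, dx, dy, dt, hδ] at e1
    rw [hi, hj, hk, hw, dx, dy, dt, hD, hδ] at e2
    simp only [sgd] at e1 e2
    norm_num at e1 e2
    have nx := S.neg x ((hmem x).2 (Or.inl rfl)) (by rw [F.sg_eq ((hmem x).2 (Or.inl rfl)), dx]; rfl)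
    have ny := S.neg y ((hmem y).2 (Or.inr (Or.inl rfl)))
      (by rw [F.sg_eq ((hmem y).2 (Or.inr (Or.inl rfl))), dy]; rfl)
    have fin : ∀ u v : ℂ, u ^ 2 + v ^ 2 = (ω * ((56 : ℂ) - 2 * i)) ^ 2 + (ω * ((56 : ℂ) - 2 * j)) ^ 2 →
        u + v = ω * ((56 : ℂ) - 2 * i) + ω * ((56 : ℂ) - 2 * j) →
        u = ω * (-8 - 4 * ((16 : ℂ) - 2 * nw)) → v = ω * (8 - 5 * ((16 : ℂ) - 2 * nw)) → False := by
      intro u v h1 h2 hu hv
      refine no_ninetysix nw (by omega) (Int.cast_injective (α := ℂ) (mul_left_cancel₀ (pow_ne_zero 2 hω0) ?_))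
      rw [hu, hv] at h1 h2
      have hd : ω * ((96 : ℂ) - 2 * k) = -10 * (ω * ((16 : ℂ) - 2 * nw)) := by
        linear_combination e1 - h2
      push_cast
      linear_combination (672 : ℂ) * e2 - 12 * h1
        - 7 * (ω * ((96 : ℂ) - 2 * k) + -10 * (ω * ((16 : ℂ) - 2 * nw))) * hd
    by_cases hxa : mult (altF (ζ : G → ℂ)) x ≠ 0
    · have ea := expand_three F hia hca hda hθ hxy hxt hyt hmem (i := 1) (j := 0) (k := 0) (by omega)
        (by omega) (by omega) S.ua (by rw [dx, dy, dt, hD]; norm_num) hr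
      have es := expand_three F his hcs hds hθ hxy hxt hyt hmem (i := 0) (j := 1) (k := 0) (by omega)
        (by omega) (by omega) S.us (by rw [dx, dy, dt, hD]; norm_num) hr
      rw [hals, hi, hw] at ea
      rw [hsys, hj, hw] at es
      push_cast at ea es
      exact fin _ _ rfl rfl (by linear_combination -ea) (by linear_combination -es)
    · have ea := expand_three F hia hca hda hθ hxy hxt hyt hmem (i := 0) (j := 1) (k := 0) (by omega)
        (by omega) (by omega) S.ua (by rw [dx, dy, dt, hD]; norm_num) hr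
      have es := expand_three F his hcs hds hθ hxy hxt hyt hmem (i := 1) (j := 0) (k := 0) (by omega)
        (by omega) (by omega) S.us (by rw [dx, dy, dt, hD]; norm_num) hr
      rw [hals, hj, hw] at ea
      rw [hsys, hi, hw] at es
      push_cast at ea es
      exact fin _ _ (add_comm _ _) (add_comm _ _) (by linear_combination -ea) (by linear_combination -es)
  all_goals
    obtain ⟨k, -, hk, -, -⟩ := value_at F (Or.inl ((hmem t).2 (Or.inr (Or.inr rfl)))) hcore dt hs hz hω hω0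
    have ea := expand_three F hia hca hda hθ hxy hxt hyt hmem (i := 0) (j := 0) (k := 1) (by omega)
      (by omega) (by omega) S.ua (by rw [dx, dy, dt, hD]; norm_num) hr
    have es := expand_three F his hcs hds hθ hxy hxt hyt hmem (i := 0) (j := 0) (k := 1) (by omega)
      (by omega) (by omega) S.us (by rw [dx, dy, dt, hD]; norm_num) hr
    rw [hals, hk, hw] at ea
    rw [hsys, hk, hw] at es
    have h : (16 : ℤ) - 2 * nw = 16 := by
      refine Int.cast_injective (α := ℂ) (mul_left_cancel₀ hω0 ?_)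
      push_cast at ea es ⊢
      linear_combination ea - es
    omega

/-- The prime nineteen does not occur. -/
theorem absurd_nineteen_local (hcore : Core 19 G)
    (hpr : ∀ q, q.Prime → 19 ≤ q → q ∣ Nat.card G → q = 19 ∨ q = 31) {θ : IrrCharacter G} (hθ : θ ∈ Y) :
    False := by
  rcases degrees_nineteen L F hμ hcore hpr hθ with ⟨hδ, hD, S, h⟩ | ⟨hδ, hD, h⟩ | ⟨hδ, hD, S, h⟩
  · rcases h with h | h | h | h
    · exact kill_sixteen L F hμ hcore hθ hδ hD S (Or.inl h)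
    · exact kill_eighteen_eighteen_twenty L F hμ hcore hθ hδ hD h
    · exact kill_sixteen L F hμ hcore hθ hδ hD S (Or.inr (Or.inl h))
    · exact kill_sixteen L F hμ hcore hθ hδ hD S (Or.inr (Or.inr h))
  · rcases h with h | h
    · exact kill_one_eighteen_thirtynine L F hμ hcore hθ hδ hD h
    · exact kill_eighteen_twenty_twenty L F hμ hcore hθ hδ hD h
  · exact kill_sixty L F hμ hcore hθ hδ hD S h

omit L F hμ in
/-- The prime nineteen does not occur. -/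
theorem absurd_nineteen {G : Type u} [Group G] [Fintype G] (hcore : Core 19 G)
    (hpr : ∀ q, q.Prime → 19 ≤ q → q ∣ Nat.card G → q = 19 ∨ q = 31)
    (ρ : Representation ℂ G (Fin 16 → ℂ)) [ρ.IsIrreducible] (hρ : Function.Injective ρ) : False := by
  refine with_setup hcore ρ hρ ?_
  intro P V N e K _ _ _ _ M _ ζ ζ' b C L μ X Y δ sg F hμ θ hθ
  have he : e = 3 := by rcases L.pe with ⟨-, h⟩ | ⟨h, -⟩ <;> omega
  subst he
  exact absurd_nineteen_local L F hμ hcore hpr hθ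

end Cfsg.Agent.SmallDeg16
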