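import Cfsg.Agent.Lib.SmallDim.HalfDegree
import Mathlib.LinearAlgebra.Eigenspace.Minpoly
import Mathlib.LinearAlgebra.FiniteDimensional.Lemmas

/-!
Multiplicities of eigenvalues in a representation.
-/

set_option autoImplicit false
set_option linter.unusedSectionVars false

namespace Cfsg.Agent.SmallDeg16

open Module
open scoped Classical Polynomial

universe u

variable {V : Type*} [AddCommGroup V] [Module ℂ V] [FiniteDimensional ℂ V]

/-- The eigenspaces have total dimension at most the dimension of the space. -/
theorem sum_finrank_eigenspace_le (f : Module.End ℂ V) (S : Finset ℂ) :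
    ∑ μ ∈ S, finrank ℂ (f.eigenspace μ) ≤ finrank ℂ V := by
  suffices h : ∑ μ ∈ S, finrank ℂ (f.eigenspace μ) = finrank ℂ (S.sup f.eigenspace : Submodule ℂ V) by
    rw [h]; exact Submodule.finrank_le _
  induction S using Finset.induction_on with
  | empty =>
    rw [Finset.sum_empty, Finset.sup_empty, finrank_bot]
  | @insert a T ha ih =>
    have hdis : Disjoint (f.eigenspace a) (T.sup f.eigenspace) := by
      refine ((Module.End.eigenspaces_iSupIndep f) a).mono_right (Finset.sup_le fun μ hμ => ?_)
      have hne : μ ≠ a := fun h => ha (h ▸ hμ)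
      exact le_iSup₂ (f := fun j (_ : j ≠ a) => f.eigenspace j) μ hne
    rw [Finset.sum_insert ha, Finset.sup_insert, ih]
    have h := Submodule.finrank_sup_add_finrank_inf_eq (f.eigenspace a) (T.sup f.eigenspace)
    rw [disjoint_iff.1 hdis, finrank_bot, add_zero] at h
    exact h.symm

/-- The eigenvalues of an endomorphism. -/
noncomputable def eigenset (f : Module.End ℂ V) : Finset ℂ :=
  (Module.End.finite_hasEigenvalue f).toFinset

theorem mem_eigenset {f : Module.End ℂ V} {μ : ℂ} :
    μ ∈ eigenset f ↔ 0 < finrank ℂ (f.eigenspace μ) := by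
  rw [eigenset, Set.Finite.mem_toFinset, Set.mem_setOf_eq, Module.End.hasEigenvalue_iff,
    Nat.pos_iff_ne_zero, not_iff_not, Submodule.finrank_eq_zero]

/-- A multiplicity together with the number of the other eigenvalues is at most the dimension. -/
theorem mult_add_card_erase_le (f : Module.End ℂ V) (μ : ℂ) :
    finrank ℂ (f.eigenspace μ) + ((eigenset f).erase μ).card ≤ finrank ℂ V := by
  refine le_trans ?_ (sum_finrank_eigenspace_le f (insert μ ((eigenset f).erase μ)))
  rw [Finset.sum_insert (Finset.notMem_erase _ _), Finset.card_eq_sum_ones]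
  exact Nat.add_le_add_left
    (Finset.sum_le_sum fun ν hν => mem_eigenset.1 (Finset.mem_of_mem_erase hν)) _

/-- The product over the eigenvalues annihilates a map spanned by eigenvectors. -/
theorem aeval_prod_eigenset {f : Module.End ℂ V} (h : ⨆ μ : ℂ, f.eigenspace μ = ⊤) :
    Polynomial.aeval f (∏ μ ∈ eigenset f, (Polynomial.X - Polynomial.C μ)) = 0 := by
  set q : ℂ[X] := ∏ μ ∈ eigenset f, (Polynomial.X - Polynomial.C μ) with hq
  have hle : ⨆ μ : ℂ, f.eigenspace μ ≤ LinearMap.ker (Polynomial.aeval f q) := by
    refine iSup_le fun μ v hv => ?_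
    rw [LinearMap.mem_ker]
    rcases eq_or_ne v 0 with rfl | hv0
    · rw [map_zero]
    have hvec : f.HasEigenvector μ v := Module.End.hasEigenvector_iff.2 ⟨hv, hv0⟩
    rw [Module.End.aeval_apply_of_hasEigenvector hvec, hq, Polynomial.eval_prod,
      Finset.prod_eq_zero (i := μ) ?_ (by simp), zero_smul]
    rw [eigenset, Set.Finite.mem_toFinset]
    exact Module.End.hasEigenvalue_of_hasEigenvector hvec
  rw [h, top_le_iff, LinearMap.ker_eq_top] at hle
  exact hle

theorem finrank_eigenspace_smul {c : ℂ} (hc : c ≠ 0) (f : Module.End ℂ V) (μ : ℂ) :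
    finrank ℂ (Module.End.eigenspace (c • f) (c * μ)) = finrank ℂ (f.eigenspace μ) := by
  suffices h : Module.End.eigenspace (c • f) (c * μ) = f.eigenspace μ by rw [h]
  ext v
  rw [Module.End.mem_eigenspace_iff, Module.End.mem_eigenspace_iff, LinearMap.smul_apply, mul_smul]
  exact (smul_right_injective V hc).eq_iff

variable {G : Type u} [Group G]

/-- Conjugate elements have the same multiplicities. -/
theorem finrank_eigenspace_conj (ρ : Representation ℂ G V) (g y : G) (μ : ℂ) :
    finrank ℂ (Module.End.eigenspace (ρ (g * y * g⁻¹)) μ) =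
      finrank ℂ (Module.End.eigenspace (ρ y) μ) := by
  have key : ∀ g y : G, finrank ℂ (Module.End.eigenspace (ρ y) μ) ≤
      finrank ℂ (Module.End.eigenspace (ρ (g * y * g⁻¹)) μ) := by
    intro g y
    have hinj : Function.Injective (ρ g) := fun a b h => by
      have := congrArg (ρ g⁻¹) h
      rwa [← Module.End.mul_apply, ← Module.End.mul_apply, ← map_mul, inv_mul_cancel, map_one,
        Module.End.one_apply, Module.End.one_apply] at this
    refine (Submodule.equivMapOfInjective (ρ g) hinj _).finrank_eq.trans_le ?_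
    refine Submodule.finrank_mono (Submodule.map_le_iff_le_comap.2 fun v hv => ?_)
    rw [Submodule.mem_comap, Module.End.mem_eigenspace_iff] at *
    rw [← Module.End.mul_apply, ← map_mul, inv_mul_cancel_right, map_mul, Module.End.mul_apply, hv,
      map_smul]
  refine le_antisymm ?_ (key g y)
  have := key g⁻¹ (g * y * g⁻¹)
  rwa [show g⁻¹ * (g * y * g⁻¹) * g⁻¹⁻¹ = y by group] at this

/-- An eigenvector of `y` is one of each power. -/
theorem eigenspace_le_pow (f : Module.End ℂ V) (μ : ℂ) (n : ℕ) :
    f.eigenspace μ ≤ (f ^ n).eigenspace (μ ^ n) := by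
  intro v hv
  rw [Module.End.mem_eigenspace_iff] at *
  induction n with
  | zero => simp
  | succ n ih =>
    rw [pow_succ, Module.End.mul_apply, hv, map_smul, ih, smul_smul, pow_succ']

end Cfsg.Agent.SmallDeg16
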