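import Cfsg.Agent.Lib.SmallDeg16.P31

/-!
The prime nineteen: the possible degrees in the family of the squares.
-/

set_option autoImplicit false
set_option linter.unusedSectionVars false
set_option linter.style.haveILetI false

namespace Cfsg.Agent.SmallDeg16

open Cfsg Cfsg.Agent.Char Cfsg.Agent.Blocks Cfsg.Agent.CCSylow Cfsg.Agent.DefOne
open Cfsg.Agent.DegreePTwo Cfsg.Agent.CharExtend
open scoped ComplexConjugate

universe u

/-- The degrees congruent to plus or minus one with only small prime factors. -/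
def degList : List ℕ :=
  [1, 18, 20, 39, 56, 75, 77, 96, 132, 153, 170, 189, 208, 210, 248, 286, 324, 341, 343, 360, 400]

/-- The primes which cannot occur. -/
def badList : List ℕ :=
  [23, 29, 37, 41, 43, 47, 53, 61, 67, 71, 89, 101, 113, 127, 139, 151, 181, 191, 199, 227, 229, 379, 419]

theorem badList_spec : ∀ q ∈ badList, q.Prime ∧ 19 ≤ q ∧ q ≠ 19 ∧ q ≠ 31 := by
  simp only [badList, List.forall_mem_cons, List.not_mem_nil, IsEmpty.forall_iff, implies_true, and_true]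
  norm_num

set_option maxRecDepth 10000 in
theorem degList_spec : ∀ f < 421, f % 19 = 1 ∨ f % 19 = 18 →
    f ∈ degList ∨ ∃ q ∈ badList, f % q = 0 := by
  decide +kernel

/-- The sign of a degree. -/
def sgd (f : ℕ) : ℤ := if f % 19 = 1 then 1 else -1

/-- A negative degree `g` has a partner among `a b c` within the bound `B`. -/
def partner (B g : ℕ) (a b c : ℕ) : Prop :=
  g % 19 = 1 ∨ (a % 19 = 1 ∧ a ≠ 1 ∧ g + a ≤ B) ∨ (b % 19 = 1 ∧ b ≠ 1 ∧ g + b ≤ B) ∨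
    (c % 19 = 1 ∧ c ≠ 1 ∧ g + c ≤ B)

instance (B g a b c : ℕ) : Decidable (partner B g a b c) := by unfold partner; infer_instance

set_option synthInstance.maxSize 4000 in
set_option synthInstance.maxHeartbeats 200000 in
set_option maxRecDepth 10000 in
theorem triples_plus : ∀ a ∈ degList, ∀ b ∈ degList, a ≤ b → ∀ c ∈ degList, b ≤ c →
    sgd a * a + sgd b * b + sgd c * c + 16 = 0 → (b ≠ 1) → (a % 2 = 1 ∨ b % 2 = 1 ∨ c % 2 = 1 → a = 1) →
    (a % 19 = 1 ∨ a ≤ 56) → (b % 19 = 1 ∨ b ≤ 56) → (c % 19 = 1 ∨ c ≤ 56) →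
    (a, b, c) ∈ [(1, 39, 56), (18, 18, 20), (20, 20, 56), (56, 56, 96)] := by
  decide +kernel

set_option synthInstance.maxSize 4000 in
set_option synthInstance.maxHeartbeats 200000 in
set_option maxRecDepth 10000 in
theorem triples_minus : ∀ p ∈ [(22, 114), (60, 76)], ∀ a ∈ degList, ∀ b ∈ degList, a ≤ b →
    ∀ c ∈ degList, b ≤ c → sgd a * a + sgd b * b + sgd c * c - (p.1 : ℕ) = 0 → (b ≠ 1) →
    (a % 2 = 1 ∨ b % 2 = 1 ∨ c % 2 = 1 → a = 1) →
    partner p.2 a a b c → partner p.2 b a b c → partner p.2 c a b c →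
    (p.1, a, b, c) ∈ [(22, 1, 18, 39), (22, 18, 20, 20), (60, 1, 20, 39), (60, 20, 20, 20), (60, 20, 56, 96)] := by
  decide +kernel

variable {G : Type u} [Group G] [Fintype G]

/-- Three named characters with the given degrees. -/
def Arr (X : Finset (IrrCharacter G)) (A B C : ℕ) : Prop :=
  ∃ a b c : IrrCharacter G, a ≠ b ∧ a ≠ c ∧ b ≠ c ∧ (∀ χ, χ ∈ X ↔ χ = a ∨ χ = b ∨ χ = c) ∧
    charDegree (a : G → ℂ) = A ∧ charDegree (b : G → ℂ) = B ∧ charDegree (c : G → ℂ) = C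

theorem Arr.swap_left {X : Finset (IrrCharacter G)} {A B C : ℕ} (h : Arr X A B C) : Arr X B A C := by
  obtain ⟨a, b, c, h1, h2, h3, h4, h5, h6, h7⟩ := h
  exact ⟨b, a, c, h1.symm, h3, h2, fun χ => (h4 χ).trans (or_left_comm), h6, h5, h7⟩

theorem Arr.swap_right {X : Finset (IrrCharacter G)} {A B C : ℕ} (h : Arr X A B C) : Arr X A C B := by
  obtain ⟨a, b, c, h1, h2, h3, h4, h5, h6, h7⟩ := h
  exact ⟨a, c, b, h2, h1, h3.symm, fun χ => (h4 χ).trans (or_congr_right or_comm), h5, h7, h6⟩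

/-- A three-element set in increasing order of degrees. -/
theorem exists_arr {X : Finset (IrrCharacter G)} (h : X.card = 3) :
    ∃ A B C, A ≤ B ∧ B ≤ C ∧ Arr X A B C := by
  classical
  obtain ⟨a, b, c, h1, h2, h3, rfl⟩ := Finset.card_eq_three.1 h
  have h0 : Arr ({a, b, c} : Finset (IrrCharacter G)) (charDegree (a : G → ℂ)) (charDegree (b : G → ℂ))
      (charDegree (c : G → ℂ)) := ⟨a, b, c, h1, h2, h3, fun χ => by simp, rfl, rfl, rfl⟩
  rcases le_total (charDegree (a : G → ℂ)) (charDegree (b : G → ℂ)) with hab | hab <;>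
    rcases le_total (charDegree (b : G → ℂ)) (charDegree (c : G → ℂ)) with hbc | hbc <;>
    rcases le_total (charDegree (a : G → ℂ)) (charDegree (c : G → ℂ)) with hac | hac
  · exact ⟨_, _, _, hab, hbc, h0⟩
  · exact ⟨_, _, _, hab, hbc, h0⟩
  · exact ⟨_, _, _, hac, hbc, h0.swap_right⟩
  · exact ⟨_, _, _, hac, hab, h0.swap_right.swap_left⟩
  · exact ⟨_, _, _, hab, hac, h0.swap_left⟩
  · exact ⟨_, _, _, hbc, hac, h0.swap_left.swap_right⟩
  · exact ⟨_, _, _, hbc, hab, h0.swap_left.swap_right.swap_left⟩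
  · exact ⟨_, _, _, hbc, hab, h0.swap_left.swap_right.swap_left⟩

theorem sum_of_mem_iff {X : Finset (IrrCharacter G)} {a b c : IrrCharacter G} (h1 : a ≠ b) (h2 : a ≠ c)
    (h3 : b ≠ c) (h : ∀ χ, χ ∈ X ↔ χ = a ∨ χ = b ∨ χ = c) {R : Type*} [AddCommMonoid R]
    (f : IrrCharacter G → R) : ∑ χ ∈ X, f χ = f a + (f b + f c) := by
  classical
  rw [show X = {a, b, c} from Finset.ext fun χ => by rw [h χ]; simp,
    Finset.sum_insert (by simp [h1, h2]), Finset.sum_pair h3]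

variable {P V N : Subgroup G} {K : Conf 19 P V N 3} [Fintype P] [Fintype V] [Fintype N]
  [Fintype (P →* ℂˣ)] {ζ ζ' : IrrCharacter G} {b : IrrCharacter V} {C : Coord 19 P}
  {M : Ideal AlgInt} [M.IsPrime] {μ : IrrCharacter V}
  {X Y : Finset (IrrCharacter G)} {δ : ℤ} {sg : IrrCharacter G → ℤ}

theorem Fam.sg_eq (F : Fam K (M := M) μ X Y δ sg) {χ : IrrCharacter G} (hχ : χ ∈ X) :
    sg χ = sgd (charDegree (χ : G → ℂ)) := by
  have h := F.deg_X hχ
  rcases F.fam.signX χ hχ with h' | h' <;> rw [h'] at h <;> push_cast at h <;> simp only [sgd]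
  · rw [if_pos (by omega), h']
  · rw [if_neg (by omega), h']

/-- What is known about the squares at the prime nineteen. -/
structure Sq19 (ζ : IrrCharacter G) (X Y : Finset (IrrCharacter G)) (sg : IrrCharacter G → ℤ)
    (c U Wa Ws : ℤ) : Prop where
  ca : ∑ χ ∈ X, (mult (altF (ζ : G → ℂ)) χ : ℤ) * sg χ = c
  cs : ∑ χ ∈ X, (mult (symF (ζ : G → ℂ)) χ : ℤ) * sg χ = c
  ua : ∑ η ∈ Y, (mult (altF (ζ : G → ℂ)) η : ℤ) = U
  us : ∑ η ∈ Y, (mult (symF (ζ : G → ℂ)) η : ℤ) = U - c * 2 - 1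
  wa : ∃ R : ℕ, ∑ χ ∈ X, (mult (altF (ζ : G → ℂ)) χ : ℤ) * (charDegree (χ : G → ℂ) : ℤ) + 19 * R = Wa
  ws : ∃ R : ℕ, ∑ χ ∈ X, (mult (symF (ζ : G → ℂ)) χ : ℤ) * (charDegree (χ : G → ℂ) : ℤ) + 19 * R = Ws
  neg : ∀ χ ∈ X, sg χ = -1 → mult (altF (ζ : G → ℂ)) χ ≠ 0 ∨ mult (symF (ζ : G → ℂ)) χ ≠ 0

section Numbers

variable (L : Local K ζ ζ' b C) (F : Fam K (M := M) μ X Y δ sg)
  (hμ : ∀ v : V, (μ : V → ℂ) v = (b : V → ℂ) v * (b : V → ℂ) v)

include L F hμ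

theorem squares_nineteen (hcore : Core 19 G) (h41 : ¬ 41 ∣ Nat.card G) {θ : IrrCharacter G}
    (hθ : θ ∈ Y) :
    (δ = 1 ∧ charDegree (θ : G → ℂ) = 16 ∧ Sq19 ζ X Y sg (-1) 4 56 56) ∨
    (δ = -1 ∧ charDegree (θ : G → ℂ) = 22 ∧ Sq19 ζ X Y sg 0 2 76 114) ∨
    (δ = -1 ∧ charDegree (θ : G → ℂ) = 60 ∧ Sq19 ζ X Y sg 0 2 0 76) := by
  obtain ⟨hev, hA0, hS0, hP0⟩ := table_nineteen
  obtain ⟨hma, hms, hmp⟩ := L.mult_sq hev
  obtain ⟨hca, hcs, hcp⟩ := L.cen_sq hμ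
  obtain ⟨hia, his, hip⟩ := L.isChar
  obtain ⟨hda, hds, hdp⟩ := L.degrees
  have tA := F.mult_total C hia hca hma hda
  have tS := F.mult_total C his hcs hms hds
  have tP := F.mult_total C hip hcp hmp hdp
  obtain ⟨Ra, hRa, -⟩ := F.degree_eqn hia hca hda hθ
  obtain ⟨Rs, hRs, -⟩ := F.degree_eqn his hcs hds hθ
  obtain ⟨Rp, hRp, -⟩ := F.degree_eqn hip hcp hdp hθ
  obtain ⟨wa, -⟩ := F.weight (altF (ζ : G → ℂ))
  obtain ⟨ws, -⟩ := F.weight (symF (ζ : G → ℂ))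
  have hD := F.deg_Y hθ
  have hDpos := charDegree_pos θ
  have hsq : IsCharacter G fun g => altF (ζ : G → ℂ) g + symF (ζ : G → ℂ) g := IsCharacter.add hia his
  have hsqc : Cen V (fun g => altF (ζ : G → ℂ) g + symF (ζ : G → ℂ) g) μ := fun v g => by
    show altF (ζ : G → ℂ) ((v : G) * g) + symF (ζ : G → ℂ) ((v : G) * g) = _
    rw [hca, hcs]
    ring
  obtain ⟨c0, hc0⟩ := F.agree_X hsq hsqc hip fun g hg => L.prd_reg hg
  have hc0' : ∀ χ ∈ X, (mult (prdF (ζ : G → ℂ) (ζ' : G → ℂ)) χ : ℤ) =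
      (mult (altF (ζ : G → ℂ)) χ : ℤ) + (mult (symF (ζ : G → ℂ)) χ : ℤ) + c0 * sg χ := fun χ hχ => by
    rw [hc0 χ hχ, mult_add hia his]
    push_cast
    rfl
  have hD3 : charDegree (θ : G → ℂ) ≠ 3 := fun h =>
    not_small_degree hcore θ h (by norm_num) (by norm_num)
  have hD41 : charDegree (θ : G → ℂ) ≠ 41 := fun h => h41 (h ▸ charDegree_dvd_card θ)
  rw [hA0] at tA
  rw [hS0] at tS
  rw [hP0] at tP
  set D := charDegree (θ : G → ℂ) with hDdef
  set ca := ∑ χ ∈ X, (mult (altF (ζ : G → ℂ)) χ : ℤ) * sg χ with hca'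
  set cs := ∑ χ ∈ X, (mult (symF (ζ : G → ℂ)) χ : ℤ) * sg χ with hcs'
  set cp := ∑ χ ∈ X, (mult (prdF (ζ : G → ℂ) (ζ' : G → ℂ)) χ : ℤ) * sg χ with hcp'
  have hcsum : cp = ca + cs + 3 * c0 := by
    rw [hcp', hca', hcs', Finset.sum_congr rfl fun χ hχ => show
      (mult (prdF (ζ : G → ℂ) (ζ' : G → ℂ)) χ : ℤ) * sg χ =
        (mult (altF (ζ : G → ℂ)) χ : ℤ) * sg χ + (mult (symF (ζ : G → ℂ)) χ : ℤ) * sg χ + c0 by
          rw [hc0' χ hχ, add_mul, add_mul, mul_assoc c0, F.sg_sq hχ, mul_one],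
      Finset.sum_add_distrib, Finset.sum_add_distrib, Finset.sum_const, nsmul_eq_mul, F.fam.cardX]
    push_cast
    ring
  set Ua := ∑ η ∈ Y, (mult (altF (ζ : G → ℂ)) η : ℤ) with hUa
  set Us := ∑ η ∈ Y, (mult (symF (ζ : G → ℂ)) η : ℤ) with hUs
  set Up := ∑ η ∈ Y, (mult (prdF (ζ : G → ℂ) (ζ' : G → ℂ)) η : ℤ) with hUp
  set Wa := ∑ χ ∈ X, (mult (altF (ζ : G → ℂ)) χ : ℤ) * (charDegree (χ : G → ℂ) : ℤ) with hWa
  set Ws := ∑ χ ∈ X, (mult (symF (ζ : G → ℂ)) χ : ℤ) * (charDegree (χ : G → ℂ) : ℤ) with hWs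
  have hUa0 : 0 ≤ Ua := Finset.sum_nonneg fun _ _ => Int.natCast_nonneg _
  have hUs0 : 0 ≤ Us := Finset.sum_nonneg fun _ _ => Int.natCast_nonneg _
  have hUp0 : 0 ≤ Up := Finset.sum_nonneg fun _ _ => Int.natCast_nonneg _
  have hWa0 : 0 ≤ Wa := Finset.sum_nonneg fun _ _ => mul_nonneg (Int.natCast_nonneg _) (Int.natCast_nonneg _)
  have hWs0 : 0 ≤ Ws := Finset.sum_nonneg fun _ _ => mul_nonneg (Int.natCast_nonneg _) (Int.natCast_nonneg _)
  have hWp0 : 0 ≤ ∑ χ ∈ X, (mult (prdF (ζ : G → ℂ) (ζ' : G → ℂ)) χ : ℤ) * (charDegree (χ : G → ℂ) : ℤ) :=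
    Finset.sum_nonneg fun _ _ => mul_nonneg (Int.natCast_nonneg _) (Int.natCast_nonneg _)
  norm_num at tA tS tP wa ws hRa hRs hRp hD
  have hneg : 1 ≤ c0 → ∀ χ ∈ X, sg χ = -1 →
      mult (altF (ζ : G → ℂ)) χ ≠ 0 ∨ mult (symF (ζ : G → ℂ)) χ ≠ 0 := fun h1 χ hχ hs => by
    have h := hc0' χ hχ
    rw [hs] at h
    omega
  rcases F.fam.sign with hδ | hδ
  · left
    rw [hδ] at tA tS tP hD
    have hD16' : (16 : ℤ) ≤ D := by omega
    have ka : (16 : ℤ) * Ua ≤ (D : ℤ) * Ua := mul_le_mul_of_nonneg_right hD16' hUa0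
    have ks : (16 : ℤ) * Us ≤ (D : ℤ) * Us := mul_le_mul_of_nonneg_right hD16' hUs0
    have hcs1 : cs = -1 := by omega
    have hUs5 : Us = 5 := by omega
    rw [hUs5] at hRs
    have hD16 : D = 16 := by omega
    rw [hD16] at hRa hRs hRp
    have hca1 : ca = -1 := by omega
    have hc01 : 1 ≤ c0 := by omega
    exact ⟨hδ, hD16, hca1, hcs1, by omega, by omega, ⟨Ra, by omega⟩, ⟨Rs, by omega⟩, hneg hc01⟩
  · right
    rw [hδ] at tA tS tP hD
    have hUa2 : 2 ≤ Ua := by omega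
    have ka : (D : ℤ) * 2 ≤ (D : ℤ) * Ua := mul_le_mul_of_nonneg_left hUa2 (Int.natCast_nonneg _)
    have hDle : D = 22 ∨ D = 60 := by omega
    rcases hDle with hD' | hD' <;> rw [hD'] at hRa hRs hRp
    · left
      exact ⟨hδ, hD', by omega, by omega, by omega, by omega, ⟨Ra, by omega⟩, ⟨Rs, by omega⟩,
        hneg (by omega)⟩
    · right
      exact ⟨hδ, hD', by omega, by omega, by omega, by omega, ⟨Ra, by omega⟩, ⟨Rs, by omega⟩,
        hneg (by omega)⟩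

/-- The degrees in the family. -/
theorem degrees_nineteen (hcore : Core 19 G)
    (hpr : ∀ q, q.Prime → 19 ≤ q → q ∣ Nat.card G → q = 19 ∨ q = 31) {θ : IrrCharacter G} (hθ : θ ∈ Y) :
    (δ = 1 ∧ charDegree (θ : G → ℂ) = 16 ∧ Sq19 ζ X Y sg (-1) 4 56 56 ∧
      (Arr X 1 39 56 ∨ Arr X 18 18 20 ∨ Arr X 20 20 56 ∨ Arr X 56 56 96)) ∨
    (δ = -1 ∧ charDegree (θ : G → ℂ) = 22 ∧ (Arr X 1 18 39 ∨ Arr X 18 20 20)) ∨
    (δ = -1 ∧ charDegree (θ : G → ℂ) = 60 ∧ Sq19 ζ X Y sg 0 2 0 76 ∧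
      (Arr X 1 20 39 ∨ Arr X 20 20 20 ∨ Arr X 20 56 96)) := by
  have h41 : ¬ 41 ∣ Nat.card G := fun h => by
    rcases hpr 41 (by norm_num) (by norm_num) h with h' | h' <;> omega
  obtain ⟨A, B, C₀, hAB, hBC, hX⟩ := exists_arr (F.fam.cardX)
  obtain ⟨x, y, z, hxy, hxz, hyz, hmem, rfl, rfl, rfl⟩ := id hX
  have sumX := fun (f : IrrCharacter G → ℤ) => sum_of_mem_iff hxy hxz hyz hmem f
  have hxX := (hmem x).2 (Or.inl rfl)
  have hyX := (hmem y).2 (Or.inr (Or.inl rfl))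
  have hzX := (hmem z).2 (Or.inr (Or.inr rfl))
  have hrel := F.deg_rel hθ
  rw [sumX, F.sg_eq hxX, F.sg_eq hyX, F.sg_eq hzX] at hrel
  obtain ⟨hm1, hm2⟩ := L.mult_sq_principal
  have key := squares_nineteen L F hμ hcore h41 hθ
  -- weights of single characters
  have wle : ∀ (f : G → ℂ), ∀ χ ∈ X, mult f χ ≠ 0 → (charDegree (χ : G → ℂ) : ℤ) ≤
      (mult f χ : ℤ) * (charDegree (χ : G → ℂ) : ℤ) := fun f χ _ hm =>
    le_mul_of_one_le_left (Int.natCast_nonneg _) (by omega)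
  have wle2 : ∀ (f : G → ℂ) χ, χ ∈ X → ∀ χ', χ' ∈ X → χ ≠ χ' → mult f χ ≠ 0 → mult f χ' ≠ 0 →
      (charDegree (χ : G → ℂ) : ℤ) + (charDegree (χ' : G → ℂ) : ℤ) ≤
        ∑ η ∈ X, (mult f η : ℤ) * (charDegree (η : G → ℂ) : ℤ) := by
    intro f χ hχ χ' hχ' hne hm hm'
    classical
    have h := Finset.sum_le_sum_of_subset_of_nonneg
      (f := fun η => (mult f η : ℤ) * (charDegree (η : G → ℂ) : ℤ)) (s := {χ, χ'}) (t := X)
      (by intro η hη; simp only [Finset.mem_insert, Finset.mem_singleton] at hη; rcases hη with rfl | rfl <;> assumption)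
      (fun _ _ _ => mul_nonneg (Int.natCast_nonneg _) (Int.natCast_nonneg _))
    rw [Finset.sum_pair hne] at h
    have := wle f χ hχ hm
    have := wle f χ' hχ' hm'
    omega
  have hnegb : ∀ χ ∈ X, sgd (charDegree (χ : G → ℂ)) = -1 → (charDegree (χ : G → ℂ) : ℤ) ≤ 114 ∧
      (δ = 1 → (charDegree (χ : G → ℂ) : ℤ) ≤ 56) ∧
      (δ = -1 → ∀ B : ℕ, (charDegree (θ : G → ℂ) + B = 136) → ∃ q ∈ X, charDegree (q : G → ℂ) % 19 = 1 ∧
        charDegree (q : G → ℂ) ≠ 1 ∧ charDegree (χ : G → ℂ) + charDegree (q : G → ℂ) ≤ B) := by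
    intro χ hχ hs
    rw [← F.sg_eq hχ] at hs
    have one (f : G → ℂ) (hm : mult f χ ≠ 0) : (charDegree (χ : G → ℂ) : ℤ) ≤
        ∑ η ∈ X, (mult f η : ℤ) * (charDegree (η : G → ℂ) : ℤ) :=
      (wle f χ hχ hm).trans (Finset.single_le_sum
        (f := fun η => (mult f η : ℤ) * (charDegree (η : G → ℂ) : ℤ))
        (fun _ _ => mul_nonneg (Int.natCast_nonneg _) (Int.natCast_nonneg _)) hχ)
    have pair (f : G → ℂ) (hc : ∑ η ∈ X, (mult f η : ℤ) * sg η = 0) (hm : mult f χ ≠ 0)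
        (hp : mult f (principal G) = 0) : ∃ q ∈ X, charDegree (q : G → ℂ) % 19 = 1 ∧
          charDegree (q : G → ℂ) ≠ 1 ∧ (charDegree (χ : G → ℂ) : ℤ) + (charDegree (q : G → ℂ) : ℤ) ≤
            ∑ η ∈ X, (mult f η : ℤ) * (charDegree (η : G → ℂ) : ℤ) := by
      obtain ⟨q, hq, hqm⟩ : ∃ q ∈ X, 0 < (mult f q : ℤ) * sg q := by
        by_contra h
        push Not at h
        have h0 : ∀ η ∈ X, 0 ≤ -((mult f η : ℤ) * sg η) := fun η hη => neg_nonneg.2 (h η hη)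
        have h1 := (Finset.sum_eq_zero_iff_of_nonneg h0).1 (by rw [Finset.sum_neg_distrib, hc, neg_zero]) χ hχ
        rw [hs] at h1
        omega
      have hsq : sg q = 1 := (F.fam.signX q hq).resolve_right fun h => by rw [h] at hqm; omega
      rw [hsq] at hqm
      have hqm' : mult f q ≠ 0 := by omega
      have hd := F.deg_X hq
      rw [hsq] at hd
      push_cast at hd
      refine ⟨q, hq, by omega, fun h1 => hqm' ?_, wle2 f χ hχ q hq (fun h => by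
        rw [h, hsq] at hs; norm_num at hs) hm hqm'⟩
      rw [eq_principal_of_one hcore.perf h1, hp]
    obtain ⟨f, hf, hm, hW⟩ : ∃ f : G → ℂ, mult f (principal G) = 0 ∧ mult f χ ≠ 0 ∧
        (∑ η ∈ X, (mult f η : ℤ) * (charDegree (η : G → ℂ) : ℤ) ≤ 114 ∧
        (δ = 1 → ∑ η ∈ X, (mult f η : ℤ) * (charDegree (η : G → ℂ) : ℤ) ≤ 56) ∧
        (δ = -1 → ∑ η ∈ X, (mult f η : ℤ) * sg η = 0 ∧
          (charDegree (θ : G → ℂ) : ℤ) + ∑ η ∈ X, (mult f η : ℤ) * (charDegree (η : G → ℂ) : ℤ) ≤ 136)) := by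
      rcases key with ⟨hδ, hD, S⟩ | ⟨hδ, hD, S⟩ | ⟨hδ, hD, S⟩ <;> obtain ⟨Ra, hRa⟩ := S.wa <;>
        obtain ⟨Rs, hRs⟩ := S.ws <;> have hca := S.ca <;> have hcs := S.cs <;> rcases S.neg χ hχ hs with hm | hm
      all_goals first
        | exact ⟨altF (ζ : G → ℂ), hm1, hm, by omega, fun _ => by omega, fun _ => ⟨by omega, by omega⟩⟩
        | exact ⟨symF (ζ : G → ℂ), hm2, hm, by omega, fun _ => by omega, fun _ => ⟨by omega, by omega⟩⟩
    have h1 := one f hm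
    refine ⟨h1.trans hW.1, fun h => h1.trans (hW.2.1 h), fun h B hB => ?_⟩
    obtain ⟨hc0, hle⟩ := hW.2.2 h
    obtain ⟨q, q1, q2, q3, q4⟩ := pair f hc0 hm hf
    exact ⟨q, q1, q2, q3, by omega⟩
  have hsg3 : ∀ f : ℕ, sgd f = 1 ∨ sgd f = -1 := fun f => by
    simp only [sgd]; split_ifs <;> norm_num
  have hDle : (charDegree (θ : G → ℂ) : ℤ) ≤ 60 := by
    rcases key with ⟨-, hD, -⟩ | ⟨-, hD, -⟩ | ⟨-, hD, -⟩ <;> omega
  have hδ' := F.fam.sign
  have hbound : charDegree (x : G → ℂ) < 421 ∧ charDegree (y : G → ℂ) < 421 ∧ charDegree (z : G → ℂ) < 421 := by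
    have nx := hnegb x hxX
    have ny := hnegb y hyX
    have nz := hnegb z hzX
    rcases hsg3 (charDegree (x : G → ℂ)) with e1 | e1 <;> rcases hsg3 (charDegree (y : G → ℂ)) with e2 | e2 <;>
      rcases hsg3 (charDegree (z : G → ℂ)) with e3 | e3 <;> rw [e1, e2, e3] at hrel <;>
      rcases hδ' with hd | hd <;> rw [hd] at hrel <;>
      first
        | (have b1 := (nx e1).1; have b2 := (ny e2).1; have b3 := (nz e3).1; omega)
        | (have b1 := (nx e1).1; have b2 := (ny e2).1; omega)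
        | (have b1 := (nx e1).1; have b3 := (nz e3).1; omega)
        | (have b2 := (ny e2).1; have b3 := (nz e3).1; omega)
        | (have b1 := (nx e1).1; omega)
        | (have b2 := (ny e2).1; omega)
        | (have b3 := (nz e3).1; omega)
        | omega
  have hlist : ∀ χ ∈ X, charDegree (χ : G → ℂ) < 421 → charDegree (χ : G → ℂ) ∈ degList := by
    intro χ hχ hlt
    refine (degList_spec _ hlt ?_).resolve_right ?_
    · have h := F.deg_X hχ
      rcases F.fam.signX χ hχ with h' | h' <;> rw [h'] at h <;> push_cast at h <;> omega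
    · rintro ⟨q, hq, hq0⟩
      obtain ⟨h1, h2, h3, h4⟩ := badList_spec q hq
      rcases hpr q h1 h2 ((Nat.dvd_of_mod_eq_zero hq0).trans (charDegree_dvd_card χ)) with h | h <;>
        omega
  have hD1 : ∀ η ∈ Y, charDegree (η : G → ℂ) ≠ 1 := fun η hη h => by
    have := F.deg_Y hη
    rw [h] at this
    rcases hδ' with hd | hd <;> rw [hd] at this <;> norm_num at this
  have hodd : charDegree (x : G → ℂ) % 2 = 1 ∨ charDegree (y : G → ℂ) % 2 = 1 ∨
      charDegree (z : G → ℂ) % 2 = 1 → charDegree (x : G → ℂ) = 1 := by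
    intro h
    obtain ⟨η, hη, ho⟩ : ∃ η ∈ X, charDegree (η : G → ℂ) % 2 = 1 := by
      rcases h with h | h | h
      exacts [⟨x, hxX, h⟩, ⟨y, hyX, h⟩, ⟨z, hzX, h⟩]
    have htr := L.trivial_of_odd hcore F.lin hμ (F.cen_of_inR (F.inR_X hη)) (Nat.odd_iff.2 ho)
    obtain ⟨hp, -⟩ := F.principal_mem htr (by norm_num) hD1
    have hx0 := charDegree_pos x
    have hp1 := charDegree_principal (G := G)
    rcases (hmem _).1 hp with e | e | e <;> rw [e] at hp1 <;> omega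
  have hy1 : charDegree (y : G → ℂ) ≠ 1 := fun h => by
    have hx0 := charDegree_pos x
    exact hxy ((eq_principal_of_one hcore.perf (by omega)).trans (eq_principal_of_one hcore.perf h).symm)
  have hplus : ∀ χ ∈ X, δ = 1 → charDegree (χ : G → ℂ) % 19 = 1 ∨ charDegree (χ : G → ℂ) ≤ 56 := by
    intro χ hχ hd
    by_cases h : charDegree (χ : G → ℂ) % 19 = 1
    · exact Or.inl h
    · right
      have := (hnegb χ hχ (if_neg h)).2.1 hd
      omega
  have hminus : ∀ χ ∈ X, δ = -1 → ∀ B, charDegree (θ : G → ℂ) + B = 136 →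
      partner B (charDegree (χ : G → ℂ)) (charDegree (x : G → ℂ)) (charDegree (y : G → ℂ))
        (charDegree (z : G → ℂ)) := by
    intro χ hχ hd B hB
    by_cases h : charDegree (χ : G → ℂ) % 19 = 1
    · exact Or.inl h
    · obtain ⟨q, hq, h1, h2, h3⟩ := (hnegb χ hχ (if_neg h)).2.2 hd B hB
      rcases (hmem q).1 hq with rfl | rfl | rfl
      exacts [Or.inr (Or.inl ⟨h1, h2, h3⟩), Or.inr (Or.inr (Or.inl ⟨h1, h2, h3⟩)),
        Or.inr (Or.inr (Or.inr ⟨h1, h2, h3⟩))]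
  have lx := hlist x hxX hbound.1
  have ly := hlist y hyX hbound.2.1
  have lz := hlist z hzX hbound.2.2
  rcases key with ⟨hδ, hD, S⟩ | ⟨hδ, hD, S⟩ | ⟨hδ, hD, S⟩ <;> rw [hδ, hD] at hrel
  · have h := triples_plus _ lx _ ly hAB _ lz hBC (by omega) hy1 hodd (hplus x hxX hδ) (hplus y hyX hδ)
      (hplus z hzX hδ)
    simp only [List.mem_cons, List.not_mem_nil, or_false, Prod.mk.injEq] at h
    left
    refine ⟨hδ, hD, S, ?_⟩
    rcases h with ⟨e1, e2, e3⟩ | ⟨e1, e2, e3⟩ | ⟨e1, e2, e3⟩ | ⟨e1, e2, e3⟩ <;>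
      rw [e1, e2, e3] at hX <;> simp [hX]
  · have hB : charDegree (θ : G → ℂ) + 114 = 136 := by omega
    have h := triples_minus (22, 114) (by simp) _ lx _ ly hAB _ lz hBC (by omega) hy1 hodd
      (hminus x hxX hδ _ hB) (hminus y hyX hδ _ hB) (hminus z hzX hδ _ hB)
    simp only [List.mem_cons, List.not_mem_nil, or_false, Prod.mk.injEq] at h
    right; left
    refine ⟨hδ, hD, ?_⟩
    rcases h with ⟨-, e1, e2, e3⟩ | ⟨-, e1, e2, e3⟩ | ⟨e, -⟩ | ⟨e, -⟩ | ⟨e, -⟩ <;>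
      first | omega | (rw [e1, e2, e3] at hX; simp [hX])
  · have hB : charDegree (θ : G → ℂ) + 76 = 136 := by omega
    have h := triples_minus (60, 76) (by simp) _ lx _ ly hAB _ lz hBC (by omega) hy1 hodd
      (hminus x hxX hδ _ hB) (hminus y hyX hδ _ hB) (hminus z hzX hδ _ hB)
    simp only [List.mem_cons, List.not_mem_nil, or_false, Prod.mk.injEq] at h
    right; right
    refine ⟨hδ, hD, S, ?_⟩
    rcases h with ⟨e, -⟩ | ⟨e, -⟩ | ⟨-, e1, e2, e3⟩ | ⟨-, e1, e2, e3⟩ | ⟨-, e1, e2, e3⟩ <;>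
      first | omega | (rw [e1, e2, e3] at hX; simp [hX])

end Numbers

end Cfsg.Agent.SmallDeg16
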