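import Cfsg.Agent.Lib.SmallDeg16.Quot

/-!
The prime thirty-one: the central factor group is the projective special linear group.
-/

set_option autoImplicit false
set_option linter.unusedSectionVars false
set_option linter.style.haveILetI false

namespace Cfsg.Agent.SmallDeg16

open Cfsg Cfsg.Agent.Char Cfsg.Agent.Blocks Cfsg.Agent.CCSylow Cfsg.Agent.DefOne
open Cfsg.Agent.DegreePTwo Cfsg.Agent.CharExtend
open scoped ComplexConjugate

universe u

variable {G : Type u} [Group G] [Fintype G] {p : ℕ}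

theorem dvd_index_mul (χ : IrrCharacter G) {d : ℕ} (hd : charDegree (χ : G → ℂ) = d) (s : G) {a : ℤ}
    (ha : (χ : G → ℂ) s = (a : ℂ)) :
    (d : ℤ) ∣ ((Subgroup.centralizer ({s} : Set G)).index : ℤ) * a := by
  obtain ⟨m, ρ, hρ, hχ⟩ := id χ.2
  have hint := isIntegral_centralChar ρ s
  have hm : (Module.finrank ℂ (Fin m → ℂ) : ℂ) = (d : ℂ) := by
    rw [← Representation.char_one ρ, hχ, irr_one_eq_charDegree, hd]
  rw [hχ, ha, hm] at hint
  obtain ⟨q, -, hq⟩ := M11Local.int_of_eq hint (k := d)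
    (by have := charDegree_pos χ; omega)
    (a := ((Subgroup.centralizer ({s} : Set G)).index : ℤ) * a)
    (by
      push_cast
      rw [mul_comm, div_mul_cancel₀]
      exact Nat.cast_ne_zero.2 (hd ▸ (charDegree_pos χ).ne'))
  exact ⟨q, hq.symm⟩

/-- An involution of odd class size. -/
theorem exists_odd_class (h : 2 ∣ Nat.card G) :
    ∃ s : G, orderOf s = 2 ∧ Odd (Subgroup.centralizer ({s} : Set G)).index := by
  haveI := Fact.mk Nat.prime_two
  obtain ⟨S⟩ : Nonempty (Sylow 2 G) := inferInstance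
  have hS : 2 ∣ Nat.card (S : Subgroup G) := by
    rw [S.card_eq_multiplicity]
    exact dvd_pow_self 2 ((Nat.Prime.dvd_iff_one_le_factorization Nat.prime_two Nat.card_pos.ne').1 h |>
      fun h => by omega)
  haveI : Nontrivial (S : Subgroup G) := Finite.one_lt_card_iff_nontrivial.1
    (lt_of_lt_of_le one_lt_two (Nat.le_of_dvd Nat.card_pos hS))
  haveI : Nontrivial (Subgroup.center (S : Subgroup G)) := S.2.center_nontrivial
  have hS2 : 2 ∣ Nat.card (Subgroup.center (S : Subgroup G)) := by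
    obtain ⟨k, hk⟩ := (S.2.to_subgroup (Subgroup.center (S : Subgroup G))).exists_card_eq
    rw [hk]
    refine dvd_pow_self 2 fun h0 => ?_
    rw [h0, pow_zero] at hk
    exact absurd hk Finite.one_lt_card.ne'
  obtain ⟨t, ht⟩ := exists_prime_orderOf_dvd_card' 2 hS2
  refine ⟨((t : (S : Subgroup G)) : G), by rw [Subgroup.orderOf_coe, Subgroup.orderOf_coe, ht], ?_⟩
  rw [← Nat.not_even_iff_odd, even_iff_two_dvd]
  intro h2
  refine S.not_dvd_index (h2.trans (Subgroup.index_dvd_of_le fun g hg => ?_))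
  rw [Subgroup.mem_centralizer_singleton_iff]
  exact congrArg Subtype.val (Subgroup.mem_center_iff.1 t.2 ⟨g, hg⟩)

variable {P V N : Subgroup G} {e : ℕ} {K : Conf p P V N e}
  [Fintype P] [Fintype V] [Fintype N] [Fintype (P →* ℂˣ)]

section Bound

variable [NeZero p] {M : Ideal AlgInt} [M.IsPrime] {μ : IrrCharacter V} {X Y : Finset (IrrCharacter G)}
  {δ : ℤ} {sg : IrrCharacter G → ℤ}

theorem Fam.neg_deg (F : Fam K (M := M) μ X Y δ sg) {χ : IrrCharacter G} (hχ : χ ∈ X)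
    (h : sg χ = -1) : (p : ℤ) - 1 ≤ (charDegree (χ : G → ℂ) : ℤ) := by
  have h1 := F.deg_X hχ
  rw [h] at h1
  have h2 := charDegree_pos χ
  have := Int.le_of_dvd (by omega) h1
  omega

/-- The negative characters carry a negative weight. -/
theorem Fam.weight (F : Fam K (M := M) μ X Y δ sg) (f : G → ℂ) :
    0 ≤ ∑ χ ∈ X, (mult f χ : ℤ) * (charDegree (χ : G → ℂ) : ℤ) +
      ((p : ℤ) - 1) * ∑ χ ∈ X, (mult f χ : ℤ) * sg χ ∧
    (∑ χ ∈ X, (mult f χ : ℤ) * (charDegree (χ : G → ℂ) : ℤ) +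
      ((p : ℤ) - 1) * ∑ χ ∈ X, (mult f χ : ℤ) * sg χ = 0 →
      ∀ χ ∈ X, mult f χ ≠ 0 → sg χ = -1 ∧ (charDegree (χ : G → ℂ) : ℤ) = (p : ℤ) - 1) := by
  have hp1 : (2 : ℤ) ≤ p := by exact_mod_cast K.hp.two_le
  have hterm : ∀ χ ∈ X, 0 ≤ (charDegree (χ : G → ℂ) : ℤ) + ((p : ℤ) - 1) * sg χ := fun χ hχ => by
    rcases F.fam.signX χ hχ with h | h
    · rw [h]; omega
    · rw [h]; have := F.neg_deg hχ h; omega
  rw [Finset.mul_sum, ← Finset.sum_add_distrib]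
  have e1 : ∀ χ ∈ X, (mult f χ : ℤ) * (charDegree (χ : G → ℂ) : ℤ) +
      ((p : ℤ) - 1) * ((mult f χ : ℤ) * sg χ) =
      (mult f χ : ℤ) * ((charDegree (χ : G → ℂ) : ℤ) + ((p : ℤ) - 1) * sg χ) := fun χ _ => by ring
  rw [Finset.sum_congr rfl e1]
  refine ⟨Finset.sum_nonneg fun χ hχ => mul_nonneg (Int.natCast_nonneg _) (hterm χ hχ),
    fun h0 χ hχ hm => ?_⟩
  have := (mul_eq_zero.1 ((Finset.sum_eq_zero_iff_of_nonneg fun χ hχ =>
    mul_nonneg (Int.natCast_nonneg _) (hterm χ hχ)).1 h0 χ hχ)).resolve_left (by exact_mod_cast hm)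
  rcases F.fam.signX χ hχ with h | h <;> rw [h] at this
  · have := charDegree_pos χ; omega
  · exact ⟨h, by omega⟩

end Bound

section Thirtyone

variable {P V N : Subgroup G} {K : Conf 31 P V N 15} [Fintype P] [Fintype V] [Fintype N]
  [Fintype (P →* ℂˣ)] {ζ ζ' : IrrCharacter G} {b : IrrCharacter V} {C : Coord 31 P}
  (L : Local K ζ ζ' b C) {M : Ideal AlgInt} [M.IsPrime] {μ : IrrCharacter V}
  {X Y : Finset (IrrCharacter G)} {δ : ℤ} {sg : IrrCharacter G → ℤ}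
  (F : Fam K (M := M) μ X Y δ sg)
  (hμ : ∀ v : V, (μ : V → ℂ) v = (b : V → ℂ) v * (b : V → ℂ) v)

include L F hμ

/-- The exceptional degree of the squares. -/
theorem deg_thirtyone (h23 : ¬ 23 ∣ Nat.card G) {θ : IrrCharacter G} (hθ : θ ∈ Y) :
    charDegree (θ : G → ℂ) = 15 ∨ (charDegree (θ : G → ℂ) = 16 ∧ δ = 1 ∧
      ∑ χ ∈ X, (mult (altF (ζ : G → ℂ)) χ : ℤ) * sg χ = -4 ∧
      ∑ χ ∈ X, (mult (symF (ζ : G → ℂ)) χ : ℤ) * sg χ = -4 ∧
      ∀ χ ∈ X, mult (altF (ζ : G → ℂ)) χ ≠ 0 ∨ mult (symF (ζ : G → ℂ)) χ ≠ 0 →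
        sg χ = -1 ∧ charDegree (χ : G → ℂ) = 30) := by
  obtain ⟨hev, hA0, hS0, -⟩ := table_thirtyone
  obtain ⟨hma, hms, -⟩ := L.mult_sq hev
  obtain ⟨hca, hcs, -⟩ := L.cen_sq hμ
  obtain ⟨hia, his, -⟩ := L.isChar
  obtain ⟨hda, hds, -⟩ := L.degrees
  have tA := F.mult_total C hia hca hma hda
  have tS := F.mult_total C his hcs hms hds
  obtain ⟨Ra, hRa, -⟩ := F.degree_eqn hia hca hda hθ
  obtain ⟨Rs, hRs, -⟩ := F.degree_eqn his hcs hds hθ
  obtain ⟨wa, wa'⟩ := F.weight (altF (ζ : G → ℂ))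
  obtain ⟨ws, ws'⟩ := F.weight (symF (ζ : G → ℂ))
  have hD := F.deg_Y hθ
  have hDpos := charDegree_pos θ
  rw [hA0] at tA
  rw [hS0] at tS
  set D := charDegree (θ : G → ℂ) with hDdef
  set ca := ∑ χ ∈ X, (mult (altF (ζ : G → ℂ)) χ : ℤ) * sg χ with hca'
  set cs := ∑ χ ∈ X, (mult (symF (ζ : G → ℂ)) χ : ℤ) * sg χ with hcs'
  set Wa := ∑ χ ∈ X, (mult (altF (ζ : G → ℂ)) χ : ℤ) * (charDegree (χ : G → ℂ) : ℤ) with hWa
  set Ws := ∑ χ ∈ X, (mult (symF (ζ : G → ℂ)) χ : ℤ) * (charDegree (χ : G → ℂ) : ℤ) with hWs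
  set Ua := ∑ η ∈ Y, (mult (altF (ζ : G → ℂ)) η : ℤ) with hUa
  set Us := ∑ η ∈ Y, (mult (symF (ζ : G → ℂ)) η : ℤ) with hUs
  have hUa0 : 0 ≤ Ua := Finset.sum_nonneg fun _ _ => Int.natCast_nonneg _
  have hUs0 : 0 ≤ Us := Finset.sum_nonneg fun _ _ => Int.natCast_nonneg _
  have hDa : 0 ≤ (D : ℤ) * Ua := mul_nonneg (Int.natCast_nonneg _) hUa0
  norm_num at tA tS wa ws hRa hRs hD
  rcases F.fam.sign with hδ | hδ
  · right
    rw [hδ] at tA tS hD
    have hca4 : ca = -4 := by omega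
    have hUa1 : Ua = 0 := by omega
    have hUs1 : 1 ≤ Us := by omega
    have hDs : (D : ℤ) * 1 ≤ (D : ℤ) * Us := mul_le_mul_of_nonneg_left hUs1 (Int.natCast_nonneg _)
    have hD16 : D = 16 := by omega
    have hUs2 : Us = 1 := by rw [hD16] at hRs hDs; omega
    have hcs4 : cs = -4 := by omega
    refine ⟨hD16, hδ, hca4, hcs4, fun χ hχ h => ?_⟩
    rw [hUa1] at hRa
    rw [hUs2, hD16] at hRs
    have h30 : sg χ = -1 ∧ (charDegree (χ : G → ℂ) : ℤ) = 30 := by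
      rcases h with h | h
      · obtain ⟨h1, h2⟩ := wa' (by norm_num; omega) χ hχ h
        exact ⟨h1, by rw [h2]; norm_num⟩
      · obtain ⟨h1, h2⟩ := ws' (by norm_num; omega) χ hχ h
        exact ⟨h1, by rw [h2]; norm_num⟩
    exact ⟨h30.1, by exact_mod_cast h30.2⟩
  · left
    rw [hδ] at tS hD
    by_contra hne
    have h46 : 46 ≤ (D : ℤ) := by omega
    have hDs : (46 : ℤ) * Us ≤ (D : ℤ) * Us := mul_le_mul_of_nonneg_right h46 hUs0
    have hUs1 : Us = 1 := by omega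
    rw [hUs1] at hRs
    have hD46 : D = 46 := by omega
    refine h23 ((show 23 ∣ 46 by norm_num).trans ?_)
    rw [← hD46]
    exact charDegree_dvd_card θ

/-- A trivial centre leaves no exceptional degree sixteen. -/
theorem absurd_trivial_center (hcore : Core 31 G) (htriv : ∀ v : V, v = 1) {θ : IrrCharacter G}
    (hθ : θ ∈ Y) (hD : charDegree (θ : G → ℂ) = 16) (hδ : δ = 1)
    (hca4 : ∑ χ ∈ X, (mult (altF (ζ : G → ℂ)) χ : ℤ) * sg χ = -4)
    (hcs4 : ∑ χ ∈ X, (mult (symF (ζ : G → ℂ)) χ : ℤ) * sg χ = -4)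
    (h30 : ∀ χ ∈ X, mult (altF (ζ : G → ℂ)) χ ≠ 0 ∨ mult (symF (ζ : G → ℂ)) χ ≠ 0 →
      sg χ = -1 ∧ charDegree (χ : G → ℂ) = 30) : False := by
  classical
  obtain ⟨hev, -, -, hP0⟩ := table_thirtyone
  obtain ⟨-, -, hmp⟩ := L.mult_sq hev
  obtain ⟨hca, hcs, hcp⟩ := L.cen_sq hμ
  obtain ⟨hia, his, hip⟩ := L.isChar
  obtain ⟨-, -, hdp⟩ := L.degrees
  have hμ1 : ∀ v : V, (μ : V → ℂ) v = 1 := fun v => by rw [htriv v, F.lin]
  have hcen : ∀ χ : IrrCharacter G, Cen V (χ : G → ℂ) μ := fun χ v g => by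
    rw [hμ1, one_mul, htriv v, OneMemClass.coe_one, one_mul]
  have hζY : ζ ∈ Y := by
    refine (F.mem_of_cen (hcen ζ) (by rw [L.charDegree_eq]; norm_num)).resolve_left fun h => ?_
    have h1 := F.deg_X h
    rw [L.charDegree_eq] at h1
    rcases F.fam.signX ζ h with h' | h' <;> rw [h'] at h1 <;> norm_num at h1
  obtain ⟨hone, hone_sg⟩ := F.principal_mem hμ1 (by norm_num) fun η hη => by
    rw [F.deg_Y_eq hη hθ, hD]; norm_num
  -- the product
  have hsq : IsCharacter G fun g => altF (ζ : G → ℂ) g + symF (ζ : G → ℂ) g := IsCharacter.add hia his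
  have hsqc : Cen V (fun g => altF (ζ : G → ℂ) g + symF (ζ : G → ℂ) g) μ := fun v g => by
    show altF (ζ : G → ℂ) ((v : G) * g) + symF (ζ : G → ℂ) ((v : G) * g) = _
    rw [hca, hcs]
    ring
  obtain ⟨c0, hc0⟩ := F.agree_X hsq hsqc hip fun g hg => L.prd_reg hg
  set m2 : IrrCharacter G → ℤ := fun χ =>
    (mult (altF (ζ : G → ℂ)) χ : ℤ) + (mult (symF (ζ : G → ℂ)) χ : ℤ) with hm2
  have hc0' : ∀ χ ∈ X, (mult (prdF (ζ : G → ℂ) (ζ' : G → ℂ)) χ : ℤ) = m2 χ + c0 * sg χ := fun χ hχ => by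
    rw [hc0 χ hχ, mult_add hia his, hm2]
    push_cast
    rfl
  have hcard : (X.card : ℤ) = 15 := by rw [F.fam.cardX]; rfl
  have hsum2 : ∑ χ ∈ X, m2 χ * sg χ = -8 := by
    rw [hm2, show (-8 : ℤ) = -4 + -4 by norm_num]
    nth_rewrite 1 [← hca4]
    rw [← hcs4, ← Finset.sum_add_distrib]
    exact Finset.sum_congr rfl fun χ _ => by ring
  have hcp7 : ∑ χ ∈ X, (mult (prdF (ζ : G → ℂ) (ζ' : G → ℂ)) χ : ℤ) * sg χ = -8 + 15 * c0 := by
    rw [Finset.sum_congr rfl fun χ hχ => show (mult (prdF (ζ : G → ℂ) (ζ' : G → ℂ)) χ : ℤ) * sg χ =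
      m2 χ * sg χ + c0 by rw [hc0' χ hχ, add_mul, mul_assoc, F.sg_sq hχ, mul_one],
      Finset.sum_add_distrib, hsum2, Finset.sum_const, nsmul_eq_mul, hcard]
  have tP := F.mult_total C hip hcp hmp hdp
  rw [hP0, hcp7, hδ] at tP
  obtain ⟨R, hR, -⟩ := F.degree_eqn hip hcp hdp hζY
  rw [L.charDegree_eq] at hR
  set UP := ∑ η ∈ Y, (mult (prdF (ζ : G → ℂ) (ζ' : G → ℂ)) η : ℤ) with hUP
  have hUP0 : 0 ≤ UP := Finset.sum_nonneg fun _ _ => Int.natCast_nonneg _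
  have hW0 : 0 ≤ ∑ χ ∈ X, (mult (prdF (ζ : G → ℂ) (ζ' : G → ℂ)) χ : ℤ) * (charDegree (χ : G → ℂ) : ℤ) :=
    Finset.sum_nonneg fun _ _ => mul_nonneg (Int.natCast_nonneg _) (Int.natCast_nonneg _)
  norm_num at tP hR
  have hc01 : c0 = 1 := by omega
  have hUP2 : UP = 2 := by omega
  -- the two signs
  set Q := X.filter (fun χ => sg χ = 1) with hQ
  set Ng := X.filter (fun χ => ¬ sg χ = 1) with hNg
  have hNsg : ∀ χ ∈ Ng, χ ∈ X ∧ sg χ = -1 := fun χ hχ =>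
    ⟨(Finset.mem_filter.1 hχ).1,
      (F.fam.signX χ (Finset.mem_filter.1 hχ).1).resolve_left (Finset.mem_filter.1 hχ).2⟩
  have hQsg : ∀ χ ∈ Q, χ ∈ X ∧ sg χ = 1 := fun χ hχ =>
    ⟨(Finset.mem_filter.1 hχ).1, (Finset.mem_filter.1 hχ).2⟩
  have hQm : ∀ χ ∈ Q, m2 χ = 0 := fun χ hχ => by
    have h : ¬ (mult (altF (ζ : G → ℂ)) χ ≠ 0 ∨ mult (symF (ζ : G → ℂ)) χ ≠ 0) := fun h => by
      have := (h30 χ (hQsg χ hχ).1 h).1
      rw [(hQsg χ hχ).2] at this
      norm_num at this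
    simp only [hm2]
    omega
  have hNm : ∀ χ ∈ Ng, 1 ≤ m2 χ ∧ charDegree (χ : G → ℂ) = 30 := fun χ hχ => by
    obtain ⟨hX, hs⟩ := hNsg χ hχ
    have h := hc0' χ hX
    rw [hc01, hs] at h
    have h1 : 1 ≤ m2 χ := by omega
    refine ⟨h1, (h30 χ hX ?_).2⟩
    simp only [hm2] at h1
    omega
  have split : ∀ f : IrrCharacter G → ℤ, ∑ χ ∈ Q, f χ + ∑ χ ∈ Ng, f χ = ∑ χ ∈ X, f χ :=
    fun f => Finset.sum_filter_add_sum_filter_not X _ f
  have hNcard : (Ng.card : ℤ) ≤ ∑ χ ∈ Ng, m2 χ := by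
    have h := Finset.sum_le_sum (s := Ng) (f := fun _ => (1 : ℤ)) fun χ hχ => (hNm χ hχ).1
    rwa [Finset.sum_const, nsmul_eq_mul, mul_one] at h
  have hN8 : ∑ χ ∈ Ng, m2 χ = 8 := by
    have h := split fun χ => m2 χ * sg χ
    rw [hsum2, Finset.sum_eq_zero fun χ hχ => by rw [hQm χ hχ, zero_mul],
      Finset.sum_congr (s₁ := Ng) rfl fun χ hχ => show m2 χ * sg χ = -m2 χ by
        rw [(hNsg χ hχ).2]; ring, Finset.sum_neg_distrib] at h
    omega
  have hcardQN : (Q.card : ℤ) + Ng.card = 15 := by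
    rw [← hcard]
    exact_mod_cast Finset.card_filter_add_card_filter_not (s := X) _
  have hrel : ∑ χ ∈ Q, (charDegree (χ : G → ℂ) : ℤ) = 30 * Ng.card - 16 := by
    have h := F.deg_rel hθ
    rw [← split, Finset.sum_congr (s₁ := Q) rfl fun χ hχ =>
        show sg χ * (charDegree (χ : G → ℂ) : ℤ) = (charDegree (χ : G → ℂ) : ℤ) by
          rw [(hQsg χ hχ).2, one_mul],
      Finset.sum_congr (s₁ := Ng) rfl fun χ hχ => show sg χ * (charDegree (χ : G → ℂ) : ℤ) = -30 by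
        rw [(hNsg χ hχ).2, (hNm χ hχ).2]; norm_num, Finset.sum_const, nsmul_eq_mul, hD, hδ] at h
    push_cast at h
    omega
  have hprinQ : principal G ∈ Q := Finset.mem_filter.2 ⟨hone, hone_sg⟩
  have hbig : ∀ χ ∈ Q.erase (principal G), (32 : ℤ) ≤ (charDegree (χ : G → ℂ) : ℤ) ∧
      (31 : ℤ) ∣ (charDegree (χ : G → ℂ) : ℤ) - 1 := fun χ hχ => by
    obtain ⟨hne, hQ'⟩ := Finset.mem_erase.1 hχ
    have h1 := F.deg_X (hQsg χ hQ').1
    rw [(hQsg χ hQ').2] at h1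
    push_cast at h1
    have h2 : charDegree (χ : G → ℂ) ≠ 1 := fun h => hne (eq_principal_of_one hcore.perf h)
    have h3 := charDegree_pos χ
    refine ⟨?_, h1⟩
    omega
  set Q' := Q.erase (principal G) with hQ'
  have hQ'sum : ∑ χ ∈ Q', (charDegree (χ : G → ℂ) : ℤ) = 30 * Ng.card - 17 := by
    have h : ∑ χ ∈ Q', (charDegree (χ : G → ℂ) : ℤ) + (charDegree (principal G : G → ℂ) : ℤ) =
        ∑ χ ∈ Q, (charDegree (χ : G → ℂ) : ℤ) := Finset.sum_erase_add Q _ hprinQ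
    rw [hrel, charDegree_principal] at h
    push_cast at h
    omega
  have hQ'card : (Q'.card : ℤ) = Q.card - 1 := by
    have h : Q'.card + 1 = Q.card := Finset.card_erase_add_one hprinQ
    omega
  have hlow : (Q'.card : ℤ) * 32 ≤ ∑ χ ∈ Q', (charDegree (χ : G → ℂ) : ℤ) := by
    have h := Finset.card_nsmul_le_sum Q' (fun χ => (charDegree (χ : G → ℂ) : ℤ)) 32 fun χ hχ => (hbig χ hχ).1
    rwa [nsmul_eq_mul] at h
  have hN : Ng.card = 8 := by omega
  have hQ'6 : (Q'.card : ℤ) = 6 := by omega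
  have hN1 : ∀ χ ∈ Ng, m2 χ = 1 := by
    intro χ hχ
    have h0 : ∀ χ ∈ Ng, 0 ≤ m2 χ - 1 := fun χ hχ => by have := (hNm χ hχ).1; omega
    have h := (Finset.sum_eq_zero_iff_of_nonneg h0).1 (by
      rw [Finset.sum_sub_distrib, Finset.sum_const, nsmul_eq_mul, hN8, hN]; norm_num) χ hχ
    omega
  -- one degree is sixty-three
  obtain ⟨η, hηQ, hη⟩ : ∃ η ∈ Q', charDegree (η : G → ℂ) ≠ 32 := by
    by_contra h
    push Not at h
    rw [Finset.sum_congr (s₁ := Q') rfl fun χ hχ => show (charDegree (χ : G → ℂ) : ℤ) = 32 by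
      rw [h χ hχ]; norm_num, Finset.sum_const, nsmul_eq_mul, hQ'6, hN] at hQ'sum
    norm_num at hQ'sum
  have hsplitη : ∑ χ ∈ Q'.erase η, (charDegree (χ : G → ℂ) : ℤ) + (charDegree (η : G → ℂ) : ℤ) =
      ∑ χ ∈ Q', (charDegree (χ : G → ℂ) : ℤ) := Finset.sum_erase_add Q' _ hηQ
  rw [hQ'sum, hN] at hsplitη
  have hrest5 : ((Q'.erase η).card : ℤ) = 5 := by
    have h : (Q'.erase η).card + 1 = Q'.card := Finset.card_erase_add_one hηQ
    omega
  have hη63 : charDegree (η : G → ℂ) = 63 ∧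
      ∑ χ ∈ Q'.erase η, (charDegree (χ : G → ℂ) : ℤ) = 5 * 32 := by
    have h1 := hbig η hηQ
    have h2 := Finset.card_nsmul_le_sum (Q'.erase η) (fun χ => (charDegree (χ : G → ℂ) : ℤ)) 32
      fun χ hχ => (hbig χ (Finset.mem_of_mem_erase hχ)).1
    rw [nsmul_eq_mul, hrest5] at h2
    have h3 : charDegree (η : G → ℂ) = 63 := by omega
    exact ⟨h3, by omega⟩
  have hrest : ∀ χ ∈ Q'.erase η, charDegree (χ : G → ℂ) = 32 := by
    intro χ hχ
    have h0 : ∀ χ ∈ Q'.erase η, 0 ≤ (charDegree (χ : G → ℂ) : ℤ) - 32 := fun χ hχ => by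
      have := (hbig χ (Finset.mem_of_mem_erase hχ)).1; omega
    have h := (Finset.sum_eq_zero_iff_of_nonneg h0).1 (by
      rw [Finset.sum_sub_distrib, Finset.sum_const, nsmul_eq_mul, hη63.2, hrest5]; norm_num) χ hχ
    omega
  -- an involution
  have heven : 2 ∣ Nat.card G := by
    refine (show 2 ∣ 16 by norm_num).trans ?_
    rw [← L.charDegree_eq]
    exact charDegree_dvd_card ζ
  obtain ⟨s, hs2, hodd⟩ := exists_odd_class heven
  have hss : s * s = ((1 : V) : G) := by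
    rw [OneMemClass.coe_one, ← pow_two, ← hs2, pow_orderOf_eq_one]
  have hsc : s ∉ Subgroup.center G := fun h => by
    have h' : s ∈ V := L.center ▸ h
    rw [show s = 1 from congrArg Subtype.val (htriv ⟨s, h'⟩), orderOf_one] at hs2
    omega
  have hval : ∀ χ : IrrCharacter G, ∃ a : ℤ, (χ : G → ℂ) s = (a : ℂ) ∧
      (2 ≤ charDegree (χ : G → ℂ) → -(charDegree (χ : G → ℂ) : ℤ) < a ∧
        a < (charDegree (χ : G → ℂ) : ℤ)) := fun χ => by
    obtain ⟨n, hn, hv, -, hne⟩ := inv_value hcore F.lin χ (hcen χ) rfl hsc hss (ω := 1)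
      (by rw [one_pow, hμ1]) one_ne_zero
    refine ⟨(charDegree (χ : G → ℂ) : ℤ) - 2 * n, ?_, fun h2 => ?_⟩
    · rw [hv]; push_cast; ring
    · obtain ⟨h3, h4⟩ := hne h2
      omega
  choose a ha harange using hval
  have hzero : ∀ χ : IrrCharacter G, charDegree (χ : G → ℂ) = 16 ∨ charDegree (χ : G → ℂ) = 32 →
      a χ = 0 := fun χ hχ => by
    have hd := dvd_index_mul χ rfl s (ha χ)
    obtain ⟨k, hk⟩ := hodd
    have hr := harange χ (by omega)
    have h2 : IsCoprime (charDegree (χ : G → ℂ) : ℤ)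
        ((Subgroup.centralizer ({s} : Set G)).index : ℤ) := by
      rw [Int.isCoprime_iff_nat_coprime, Int.natAbs_natCast, Int.natAbs_natCast]
      rcases hχ with h | h <;> rw [h]
      · exact Nat.Coprime.pow_left 4 (Nat.coprime_two_left.2 ⟨k, hk⟩)
      · exact Nat.Coprime.pow_left 5 (Nat.coprime_two_left.2 ⟨k, hk⟩)
    obtain ⟨q, hq⟩ := h2.dvd_of_dvd_mul_left hd
    rcases lt_trichotomy q 0 with hq0 | hq0 | hq0
    · have := mul_le_mul_of_nonneg_left (show q ≤ -1 by omega) (Int.natCast_nonneg (charDegree (χ : G → ℂ)))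
      omega
    · rw [hq, hq0, mul_zero]
    · have := mul_le_mul_of_nonneg_left (show (1 : ℤ) ≤ q by omega) (Int.natCast_nonneg (charDegree (χ : G → ℂ)))
      omega
  have hreg : ¬ 31 ∣ orderOf s := by rw [hs2]; norm_num
  have hζs : (ζ : G → ℂ) s = 0 := by rw [ha, hzero ζ (Or.inl L.charDegree_eq), Int.cast_zero]
  have hQrest : ∀ f : IrrCharacter G → ℂ, ∑ χ ∈ Q, f χ =
      ∑ χ ∈ Q'.erase η, f χ + f η + f (principal G) := fun f => by
    rw [Finset.sum_erase_add Q' f hηQ, hQ', Finset.sum_erase_add Q f hprinQ]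
  have splitC : ∀ f : IrrCharacter G → ℂ, ∑ χ ∈ Q, f χ + ∑ χ ∈ Ng, f χ = ∑ χ ∈ X, f χ :=
    fun f => Finset.sum_filter_add_sum_filter_not X _ f
  -- the product at the involution
  have hm' : ∀ χ ∈ X, (mult (prdF (ζ : G → ℂ) (ζ' : G → ℂ)) χ : ℤ) = if sg χ = 1 then 1 else 0 := by
    intro χ hχ
    rw [hc0' χ hχ, hc01]
    by_cases h : sg χ = 1
    · rw [if_pos h, h, hQm χ (Finset.mem_filter.2 ⟨hχ, h⟩)]; norm_num
    · have hχN : χ ∈ Ng := Finset.mem_filter.2 ⟨hχ, h⟩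
      rw [if_neg h, (hNsg χ hχN).2, hN1 χ hχN]; norm_num
  have hfull : ((256 : ℕ) : ℤ) ≤ ∑ χ ∈ X, (mult (prdF (ζ : G → ℂ) (ζ' : G → ℂ)) χ : ℤ) *
      (charDegree (χ : G → ℂ) : ℤ) + (charDegree (ζ : G → ℂ) : ℤ) * UP := by
    rw [← split fun χ => (mult (prdF (ζ : G → ℂ) (ζ' : G → ℂ)) χ : ℤ) * (charDegree (χ : G → ℂ) : ℤ),
      Finset.sum_congr (s₁ := Q) rfl fun χ hχ => show
        (mult (prdF (ζ : G → ℂ) (ζ' : G → ℂ)) χ : ℤ) * (charDegree (χ : G → ℂ) : ℤ) = (charDegree (χ : G → ℂ) : ℤ) by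
          rw [hm' χ (hQsg χ hχ).1, if_pos (hQsg χ hχ).2, one_mul],
      Finset.sum_congr (s₁ := Ng) rfl fun χ hχ => show
        (mult (prdF (ζ : G → ℂ) (ζ' : G → ℂ)) χ : ℤ) * (charDegree (χ : G → ℂ) : ℤ) = 0 by
          rw [hm' χ (hNsg χ hχ).1, (hNsg χ hχ).2, if_neg (by norm_num), zero_mul],
      Finset.sum_const_zero, hrel, hN, L.charDegree_eq, hUP2]
    norm_num
  have hexp := F.expand hip hcp hdp hζY hfull hreg
  rw [show prdF (ζ : G → ℂ) (ζ' : G → ℂ) s = 0 by simp [prdF, hζs], hζs, mul_zero, add_zero,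
    ← splitC, Finset.sum_congr (s₁ := Q) rfl fun χ hχ => show
      (mult (prdF (ζ : G → ℂ) (ζ' : G → ℂ)) χ : ℂ) * (χ : G → ℂ) s = (a χ : ℂ) by
        have h := hm' χ (hQsg χ hχ).1
        rw [if_pos (hQsg χ hχ).2] at h
        rw [show mult (prdF (ζ : G → ℂ) (ζ' : G → ℂ)) χ = 1 by omega, Nat.cast_one, one_mul, ha],
    Finset.sum_eq_zero (s := Ng) fun χ hχ => by
      have h := hm' χ (hNsg χ hχ).1
      rw [(hNsg χ hχ).2, if_neg (by norm_num)] at h
      rw [show mult (prdF (ζ : G → ℂ) (ζ' : G → ℂ)) χ = 0 by omega, Nat.cast_zero, zero_mul],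
    add_zero, hQrest fun χ => (a χ : ℂ),
    Finset.sum_eq_zero (s := Q'.erase η) fun χ hχ => by rw [hzero χ (Or.inr (hrest χ hχ)), Int.cast_zero],
    zero_add] at hexp
  have hprin : (a (principal G) : ℂ) = 1 := by rw [← ha]; rfl
  rw [hprin] at hexp
  have haη : (a η : ℂ) = -1 := by linear_combination -hexp
  -- the class equation
  have heq := class_eqn L F hss hζY
  rw [hζs, zero_pow (by norm_num : 2 ≠ 0), zero_div, mul_zero, add_zero, ← splitC,
    hQrest, Finset.sum_eq_zero (s := Q'.erase η) fun χ hχ => by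
      rw [ha, hzero χ (Or.inr (hrest χ hχ))]; simp,
    zero_add, (hQsg η (Finset.mem_of_mem_erase hηQ)).2, hone_sg, ha η, haη, irr_one_eq_charDegree η,
    hη63.1, principal_apply, principal_apply,
    Finset.sum_congr (s₁ := Ng) rfl fun χ hχ => show
      (sg χ : ℂ) * ((χ : G → ℂ) s ^ 2 / (χ : G → ℂ) 1) = ((a χ ^ 2 : ℤ) : ℂ) * (-1 / 30) by
        rw [(hNsg χ hχ).2, ha, irr_one_eq_charDegree, (hNm χ hχ).2]
        push_cast
        ring, ← Finset.sum_mul, ← Int.cast_sum] at heq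
  have h640 : ((21 * ∑ χ ∈ Ng, a χ ^ 2 : ℤ) : ℂ) = ((640 : ℤ) : ℂ) := by
    push_cast at heq ⊢
    linear_combination (-630 : ℂ) * heq
  have h640' : 21 * ∑ χ ∈ Ng, a χ ^ 2 = 640 := Int.cast_injective h640
  omega

end Thirtyone

/-- A core with a faithful character of degree sixteen at the prime thirty-one. -/
theorem psl_thirtyone : ∀ (n : ℕ) (G : Type u) [Group G] [Fintype G], Nat.card G = n → Core 31 G →
    ¬ 23 ∣ Nat.card G → ∀ (ρ : Representation ℂ G (Fin 16 → ℂ)), ρ.IsIrreducible → Function.Injective ρ →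
      Nonempty (G ⧸ Subgroup.center G ≃* Matrix.ProjectiveSpecialLinearGroup (Fin 2) (ZMod 31)) := by
  intro n
  induction n using Nat.strong_induction_on with
  | _ n ih =>
  intro G _ _ hn hcore h23 ρ hirr hρ
  haveI := hirr
  haveI : Fact (Nat.Prime 31) := ⟨hcore.prime⟩
  refine with_setup hcore ρ hρ ?_
  intro P V N e K _ _ _ _ M _ ζ ζ' b C L μ X Y δ sg F hμ θ hθ
  have he : e = 15 := by rcases L.pe with ⟨h, -⟩ | ⟨-, h⟩ <;> omega
  subst he
  rcases deg_thirtyone L F hμ h23 hθ with h15 | ⟨h16, hδ, hca, hcs, h30⟩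
  · exact psl_of_half hcore θ h15 (by norm_num)
  obtain ⟨H, hHn, hHle, hmem, σ, hσ, hσinj⟩ := faithful_deg_sixteen hcore θ h16
  by_cases hH : H = ⊥
  · exfalso
    refine absurd_trivial_center L F hμ hcore (fun v => ?_) hθ h16 hδ hca hcs h30
    have hcθ := F.cen_of_inR (F.inR_Y hθ)
    have hinj : ∀ w : V, (μ : V → ℂ) w = 1 → w = 1 := fun w hw => by
      have h : (w : G) ∈ H := (hmem _).2 (by rw [hcθ.apply w, hw, one_mul])
      rw [hH, Subgroup.mem_bot] at h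
      exact Subtype.ext h
    have h16' := cen_pow_degree hcore.perf L.lin L.cen v
    rw [L.charDegree_eq, ← lin_pow L.lin] at h16'
    have step : ∀ w : V, (b : V → ℂ) (w * w) = 1 → w = 1 := fun w hw =>
      hinj w (by rwa [hμ, ← lin_mul L.lin])
    have e8 : v ^ 8 = 1 := step _ (by rwa [← pow_add])
    have e4 : v ^ 4 = 1 := step _ (by rw [← pow_add, e8]; exact L.lin)
    have e2 : v ^ 2 = 1 := step _ (by rw [← pow_add, e4]; exact L.lin)
    exact step v (by rw [← pow_two, e2]; exact L.lin)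
  · haveI : Fintype (G ⧸ H) := Fintype.ofFinite _
    obtain ⟨hq, ⟨i⟩⟩ := hcore.quotient H hHle
    have hcard := Subgroup.card_eq_card_quotient_mul_card_subgroup H
    have hlt : Nat.card (G ⧸ H) < n := by
      rw [← hn, hcard]
      exact lt_mul_of_one_lt_right Nat.card_pos (H.one_lt_card_iff_ne_bot.2 hH)
    obtain ⟨j⟩ := ih _ hlt (G ⧸ H) rfl hq (fun h => h23 (hcard ▸ h.mul_right _)) σ hσ hσinj
    exact ⟨i.symm.trans j⟩

end Cfsg.Agent.SmallDeg16
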