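import Cfsg.Agent.Lib.SmallDeg16.Support
import Cfsg.Agent.Lib.DefOne.DegreeMain
import Cfsg.Agent.Lib.Char.Integral
import Cfsg.Agent.Lib.Char.Blichfeldt
import Cfsg.Agent.S0899
import Cfsg.Agent.S4468

/-!
Groups all of whose Sylow subgroups are normal, seen through invariant subspaces.
-/

set_option autoImplicit false
set_option linter.unusedSectionVars false
set_option linter.style.haveILetI false

namespace Cfsg.Agent.SmallDeg16

open Module
open scoped Classical

universe u

/-- Every Sylow `p`-subgroup is normal. -/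
def PNormal (p : ℕ) (G : Type u) [Group G] : Prop := ∀ P : Sylow p G, (P : Subgroup G).Normal

variable {G : Type u} [Group G] [Finite G] {p : ℕ} [hpF : Fact p.Prime]

theorem PNormal.le_sylow (h : PNormal p G) (P : Sylow p G) {R : Subgroup G} (hR : IsPGroup p R) :
    R ≤ P := by
  haveI := h P
  have h1 := IsPGroup.to_sup_of_normal_right hR P.isPGroup'
  rw [← P.is_maximal' h1 le_sup_right]
  exact le_sup_left

/-- An element of order a power of `p`. -/
def IsPElt (p : ℕ) {G : Type u} [Group G] (x : G) : Prop := ∃ k : ℕ, x ^ p ^ k = 1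

theorem isPElt_of_mem {R : Subgroup G} (hR : IsPGroup p R) {x : G} (hx : x ∈ R) : IsPElt p x := by
  obtain ⟨k, hk⟩ := hR ⟨x, hx⟩
  exact ⟨k, congrArg Subtype.val hk⟩

theorem IsPElt.isPGroup_zpowers {x : G} (hx : IsPElt p x) : IsPGroup p (Subgroup.zpowers x) := by
  obtain ⟨k, hk⟩ := hx
  obtain ⟨i, -, hi⟩ := (Nat.dvd_prime_pow hpF.out).1 (orderOf_dvd_of_pow_eq_one hk)
  exact IsPGroup.of_card (n := i) (by rw [Nat.card_zpowers, hi])

theorem IsPElt.map {H : Type*} [Monoid H] (f : G →* H) {x : G} (hx : IsPElt p x) :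
    ∃ k : ℕ, f x ^ p ^ k = 1 := by
  obtain ⟨k, hk⟩ := hx
  exact ⟨k, by rw [← map_pow, hk, map_one]⟩

theorem IsPElt.conj {x : G} (hx : IsPElt p x) (g : G) : IsPElt p (g * x * g⁻¹) := by
  obtain ⟨k, hk⟩ := hx
  exact ⟨k, by rw [conj_pow, hk, mul_one, mul_inv_cancel]⟩

theorem PNormal.mem_sylow (h : PNormal p G) (P : Sylow p G) {x : G} (hx : IsPElt p x) :
    x ∈ (P : Subgroup G) :=
  h.le_sylow P hx.isPGroup_zpowers (Subgroup.mem_zpowers x)

theorem pnormal_of_mem_one (P : Sylow p G) (h : ∀ x : G, IsPElt p x → x ∈ (P : Subgroup G)) :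
    PNormal p G := by
  intro Q
  obtain rfl : Q = P := Sylow.ext
    (Q.is_maximal' P.isPGroup' fun x hx => h x (isPElt_of_mem Q.isPGroup' hx)).symm
  exact ⟨fun a ha g => h _ ((isPElt_of_mem Q.isPGroup' ha).conj g)⟩

theorem pnormal_of_pgroup (S : Subgroup G) (hS : IsPGroup p S) (h : ∀ x : G, IsPElt p x → x ∈ S) :
    PNormal p G := by
  obtain ⟨P, hP⟩ := hS.exists_le_sylow
  exact pnormal_of_mem_one P fun x hx => hP (h x hx)

theorem pnormal_of_isPGroup (h : IsPGroup p G) : PNormal p G :=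
  pnormal_of_pgroup ⊤ (h.to_subgroup ⊤) fun x _ => Subgroup.mem_top x

theorem PNormal.of_injective {H : Type*} [Group H] [Finite H] {f : H →* G}
    (hf : Function.Injective f) (h : PNormal p G) : ∀ Q : Sylow p H, (Q : Subgroup H).Normal := by
  intro Q
  obtain ⟨P⟩ : Nonempty (Sylow p G) := inferInstance
  have hS : IsPGroup p ((P : Subgroup G).comap f) := P.isPGroup'.comap_of_injective f hf
  have hn : ((P : Subgroup G).comap f).Normal := (h P).comap f
  have hle : (Q : Subgroup H) ≤ (P : Subgroup G).comap f := fun x hx => h.mem_sylow P (by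
    obtain ⟨k, hk⟩ := Q.isPGroup' ⟨x, hx⟩
    exact IsPElt.map f ⟨k, congrArg Subtype.val hk⟩)
  rw [← Q.is_maximal' hS hle]
  exact hn

theorem PNormal.subgroup (h : PNormal p G) (K : Subgroup G) : PNormal p K :=
  PNormal.of_injective K.subtype_injective h

/-- A normal subgroup containing the elements of `p`-power order decides. -/
theorem pnormal_of_normal (K : Subgroup G) [K.Normal] (hK : ∀ x : G, IsPElt p x → x ∈ K)
    (h : PNormal p K) : PNormal p G := by
  obtain ⟨Q⟩ : Nonempty (Sylow p K) := inferInstance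
  refine pnormal_of_pgroup ((Q : Subgroup K).map K.subtype) (Q.isPGroup'.map _) fun x hx => ?_
  refine ⟨⟨x, hK x hx⟩, h.mem_sylow Q ?_, rfl⟩
  obtain ⟨k, hk⟩ := hx
  exact ⟨k, Subtype.ext hk⟩

/-- The Sylow subgroups are abelian in degree less than `p`. -/
theorem commute_of_pElt (h : PNormal p G) {d : ℕ} (ρ : Representation ℂ G (Fin d → ℂ))
    (hρ : Function.Injective ρ) (hd : d < p) {a b : G} (ha : IsPElt p a) (hb : IsPElt p b) :
    a * b = b * a := by
  obtain ⟨P⟩ : Nonempty (Sylow p G) := inferInstance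
  exact Char.Blich.comm_of_small ρ hρ hd _ P.isPGroup' a (h.mem_sylow P ha) b (h.mem_sylow P hb)

/-- The `p`-power order elements lie in a normal subgroup of each factor of a separating family. -/
theorem pnormal_of_sep {ι : Type*} (Q : ι → Subgroup G) [∀ i, (Q i).Normal]
    (hsep : ∀ x : G, (∀ i, x ∈ Q i) → x = 1) (h : ∀ i, PNormal p (G ⧸ Q i)) : PNormal p G := by
  let P : ∀ i, Sylow p (G ⧸ Q i) := fun i => Classical.choice inferInstance
  set S : Subgroup G := ⨅ i, ((P i : Subgroup (G ⧸ Q i))).comap (QuotientGroup.mk' (Q i)) with hS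
  refine pnormal_of_pgroup S ?_ fun x hx => ?_
  · rintro ⟨x, hx⟩
    refine ⟨Nat.card G, Subtype.ext (hsep _ fun i => ?_)⟩
    rw [SubmonoidClass.coe_pow]
    have hxi : QuotientGroup.mk' (Q i) x ∈ (P i : Subgroup (G ⧸ Q i)) :=
      Subgroup.mem_comap.1 (Subgroup.mem_iInf.1 hx i)
    obtain ⟨k, hk⟩ := (P i).isPGroup' ⟨_, hxi⟩
    have hk' : QuotientGroup.mk' (Q i) x ^ p ^ k = 1 := congrArg Subtype.val hk
    obtain ⟨j, -, hj⟩ := (Nat.dvd_prime_pow hpF.out).1 (orderOf_dvd_of_pow_eq_one hk')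
    have hjle : j ≤ Nat.card G :=
      (Nat.lt_pow_self hpF.out.one_lt (n := j)).le.trans (hj ▸ (Nat.le_of_dvd Nat.card_pos
        ((orderOf_dvd_natCard _).trans (Subgroup.card_quotient_dvd_card (Q i)))))
    show (x : G) ^ p ^ Nat.card G ∈ Q i
    rw [← QuotientGroup.eq_one_iff, QuotientGroup.mk_pow]
    exact orderOf_dvd_iff_pow_eq_one.1 (hj ▸ pow_dvd_pow p hjle)
  · rw [hS, Subgroup.mem_iInf]
    intro i
    rw [Subgroup.mem_comap]
    exact (h i).mem_sylow (P i) (IsPElt.map (QuotientGroup.mk' (Q i)) hx)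

theorem isPGroup_of_sep {ι : Type*} (Q : ι → Subgroup G) [∀ i, (Q i).Normal]
    (hsep : ∀ x : G, (∀ i, x ∈ Q i) → x = 1) (h : ∀ i, IsPGroup p (G ⧸ Q i)) : IsPGroup p G := by
  intro x
  refine ⟨Nat.card G, hsep _ fun i => ?_⟩
  obtain ⟨k, hk⟩ := h i (x : G ⧸ Q i)
  obtain ⟨j, -, hj⟩ := (Nat.dvd_prime_pow hpF.out).1 (orderOf_dvd_of_pow_eq_one hk)
  have hjle : j ≤ Nat.card G :=
    (Nat.lt_pow_self hpF.out.one_lt (n := j)).le.trans (hj ▸ (Nat.le_of_dvd Nat.card_pos
      ((orderOf_dvd_natCard _).trans (Subgroup.card_quotient_dvd_card (Q i)))))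
  rw [← QuotientGroup.eq_one_iff, QuotientGroup.mk_pow]
  exact orderOf_dvd_iff_pow_eq_one.1 (hj ▸ pow_dvd_pow p hjle)

/-- A `p`-normal group generated by elements of `p`-power order is a `p`-group. -/
theorem PNormal.isPGroup_of_closure (h : PNormal p G) {s : Set G} (hs : ∀ x ∈ s, IsPElt p x)
    (htop : Subgroup.closure s = ⊤) : IsPGroup p G := by
  obtain ⟨P⟩ : Nonempty (Sylow p G) := inferInstance
  have hP : (⊤ : Subgroup G) ≤ P := htop ▸ (Subgroup.closure_le _).2 fun x hx => h.mem_sylow P (hs x hx)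
  exact (P.isPGroup'.to_le hP).of_equiv Subgroup.topEquiv

/-- Degree at most eight. -/
theorem pnormal_of_deg_le_eight {d : ℕ} (ρ : Representation ℂ G (Fin d → ℂ))
    (hρ : Function.Injective ρ) (hd : d ≤ 8) (hp19 : 19 ≤ p) : PNormal p G := by
  intro P
  refine Cfsg.Agent.S0899.result d ρ hρ p (Or.inr ⟨by omega, fun K hK Q => ?_⟩) P
  obtain ⟨i, hi⟩ := Q.isPGroup'.exists_card_eq
  rcases (show i = 0 ∨ i = 1 ∨ 2 ≤ i by omega) with h | h | h
  · rw [h, pow_zero, Subgroup.card_eq_one] at hi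
    rw [hi]; infer_instance
  · rw [h, pow_one] at hi
    let σ : Representation ℂ K (Fin d → ℂ) := MonoidHom.comp ρ K.subtype
    refine DefOne.normal_of_small hpF.out _ K rfl _ hi hK σ.character ⟨d, σ, rfl⟩
      (fun g hg => ?_) ?_
    · rw [Representation.char_one, Char.char_eq_degree_iff, ← Module.End.one_eq_id] at hg
      exact (hρ.comp K.subtype_injective) (hg.trans (map_one σ).symm)
    · have hdeg : Cfsg.charDegree σ.character = d := by
        rw [Cfsg.charDegree, Representation.char_one, Module.finrank_fin_fun]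
        simp
      omega
  · exact absurd ((pow_dvd_pow p h).trans (hi ▸ Q.1.card_subgroup_dvd_card)) hK

/-- A `p'` derived subgroup forces normal Sylow subgroups. -/
theorem dvd_commutator_of_not_pnormal {d : ℕ} (ρ : Representation ℂ G (Fin d → ℂ))
    (hρ : Function.Injective ρ) (hd : d + 1 < p) (hn : ¬ PNormal p G) :
    p ∣ Nat.card (commutator G) := by
  by_contra h
  refine hn fun P => by_contra fun hP => ?_
  set D := commutator G with hD
  haveI hM : (D ⊔ (P : Subgroup G)).Normal := ⟨fun a ha g => by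
    have h1 : g * a * g⁻¹ * a⁻¹ ∈ D :=
      Subgroup.commutator_mem_commutator (Subgroup.mem_top g) (Subgroup.mem_top a)
    have h2 := Subgroup.mul_mem (D ⊔ (P : Subgroup G)) (Subgroup.mem_sup_left h1) ha
    rwa [inv_mul_cancel_right] at h2⟩
  have hsolv : Cfsg.IsPSolvable p G := by
    refine ⟨3, ![⊥, D, D ⊔ (P : Subgroup G), ⊤], rfl, rfl, ?_, fun i => ?_, fun i => ?_⟩
    · rw [Fin.monotone_iff_le_succ]
      intro i
      fin_cases i
      · exact bot_le
      · exact le_sup_left
      · exact le_top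
    · fin_cases i <;> simp <;> infer_instance
    · fin_cases i
      · right
        show ((⊥ : Subgroup G).relIndex D).Coprime p
        rw [Subgroup.relIndex_bot_left]
        exact (hpF.out.coprime_iff_not_dvd.2 h).symm
      · left
        obtain ⟨m, hm⟩ := P.isPGroup'.exists_card_eq
        have hdvd : D.relIndex (D ⊔ (P : Subgroup G)) ∣ p ^ m := by
          rw [Subgroup.relIndex_sup_left, ← hm]
          exact Subgroup.relIndex_dvd_card _ _
        obtain ⟨j, -, hj⟩ := (Nat.dvd_prime_pow hpF.out).1 hdvd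
        exact ⟨j, hj⟩
      · right
        show ((D ⊔ (P : Subgroup G)).relIndex ⊤).Coprime p
        rw [Subgroup.relIndex_top_right]
        exact (hpF.out.coprime_iff_not_dvd.2 fun h' => P.not_dvd_index
          (h'.trans (Subgroup.index_dvd_of_le le_sup_right))).symm
  obtain ⟨hdp, -, -⟩ := Cfsg.Agent.S4468.result ρ.character ⟨d, ρ, rfl⟩ (fun g hg => hρ (by
      rw [Representation.char_one, Char.char_eq_degree_iff, ← Module.End.one_eq_id] at hg
      rw [hg, map_one])) d (by
        rw [Cfsg.charDegree, Representation.char_one, Module.finrank_fin_fun]; simp)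
    p hpF.out hsolv (by omega) P hP
  omega

end Cfsg.Agent.SmallDeg16
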