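import Cfsg.Agent.Lib.SmallDeg16.Square
import Cfsg.Agent.Lib.SmallDim.HalfDegree
import Cfsg.Agent.Lib.DefOne.DegreeMain

/-!
Central quotients of a core, and the characters of very small degree.
-/

set_option autoImplicit false
set_option linter.unusedSectionVars false
set_option linter.style.haveILetI false

namespace Cfsg.Agent.SmallDeg16

open Cfsg Cfsg.Agent.Char Cfsg.Agent.Blocks Cfsg.Agent.CCSylow Cfsg.Agent.DefOne Cfsg.Agent.CharExtend
open scoped ComplexConjugate

universe u

variable {G : Type u} [Group G] [Fintype G] {p : ℕ}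

theorem center_ne_top (hcore : Core p G) : Subgroup.center G ≠ ⊤ := fun h => by
  haveI := Fact.mk hcore.prime
  refine not_dvd_center_of_perfect hcore.perf hcore.sq ?_
  rw [h, Subgroup.card_top]
  exact hcore.dvd

/-- A central quotient of a core is a core with the same central factor group. -/
theorem Core.quotient (hcore : Core p G) (H : Subgroup G) [H.Normal] (hH : H ≤ Subgroup.center G) :
    Core p (G ⧸ H) ∧ Nonempty ((G ⧸ H) ⧸ Subgroup.center (G ⧸ H) ≃* G ⧸ Subgroup.center G) := by
  haveI := Fact.mk hcore.prime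
  have hHp : ¬ p ∣ Nat.card H := fun h =>
    not_dvd_center_of_perfect hcore.perf hcore.sq (h.trans (Subgroup.card_dvd_of_le hH))
  have hcard := Subgroup.card_eq_card_quotient_mul_card_subgroup H
  have hdvd : p ∣ Nat.card (G ⧸ H) :=
    (hcore.prime.dvd_mul.1 (hcard ▸ hcore.dvd)).resolve_right hHp
  have hsurj := QuotientGroup.mk'_surjective H
  have hnorm : ∀ W : Subgroup (G ⧸ H), W.Normal → W ≠ ⊤ →
      W ≤ (Subgroup.center G).map (QuotientGroup.mk' H) := by
    intro W hW hne
    rw [← Subgroup.map_comap_eq_self_of_surjective hsurj W]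
    refine Subgroup.map_mono (hcore.norm _ inferInstance fun h => hne ?_)
    rw [← Subgroup.map_comap_eq_self_of_surjective hsurj W, h, Subgroup.map_top_of_surjective _ hsurj]
  have hmapc : (Subgroup.center G).map (QuotientGroup.mk' H) ≤ Subgroup.center (G ⧸ H) := by
    rintro _ ⟨z, hz, rfl⟩
    rw [Subgroup.mem_center_iff]
    intro q
    obtain ⟨g, rfl⟩ := hsurj q
    rw [← map_mul, ← map_mul, Subgroup.mem_center_iff.1 hz g]
  have hperf : commutator (G ⧸ H) = ⊤ := by
    rw [commutator_def, ← Subgroup.map_top_of_surjective _ hsurj, ← Subgroup.map_commutator,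
      ← commutator_def, hcore.perf, Subgroup.map_top_of_surjective _ hsurj]
  have hsq : ¬ p ^ 2 ∣ Nat.card (G ⧸ H) := fun h => hcore.sq (hcard ▸ h.mul_right _)
  have hcne : Subgroup.center (G ⧸ H) ≠ ⊤ := fun h => by
    refine not_dvd_center_of_perfect hperf hsq ?_
    rw [h, Subgroup.card_top]
    exact hdvd
  refine ⟨⟨hcore.prime, hcore.big, hperf, hdvd, hsq, fun W hW hne => (hnorm W hW hne).trans hmapc⟩, ?_⟩
  have hcen : Subgroup.center (G ⧸ H) = (Subgroup.center G).map (QuotientGroup.mk' H) :=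
    le_antisymm (hnorm _ inferInstance hcne) hmapc
  haveI : ((Subgroup.center G).map (QuotientGroup.mk' H)).Normal :=
    Subgroup.Normal.map inferInstance _ hsurj
  exact ⟨(QuotientGroup.quotientMulEquivOfEq hcen).trans
    (QuotientGroup.quotientQuotientEquivQuotient H (Subgroup.center G) hH)⟩

set_option maxHeartbeats 800000 in
/-- A nonlinear character gives a faithful representation of a central quotient. -/
theorem exists_faithful_quot_rep (hcore : Core p G) (χ : IrrCharacter G) {d : ℕ}
    (hd : charDegree (χ : G → ℂ) = d) (hd2 : 2 ≤ d) :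
    ∃ (H : Subgroup G) (_ : H.Normal), H ≤ Subgroup.center G ∧
      (∀ g, g ∈ H ↔ (χ : G → ℂ) g = (χ : G → ℂ) 1) ∧
      ∃ ρ : Representation ℂ (G ⧸ H) (Fin d → ℂ), ρ.IsIrreducible ∧ Function.Injective ρ := by
  obtain ⟨m, σ, hσ, hχ⟩ := id χ.2
  have h1 := irr_one_eq_charDegree χ
  rw [← hχ, Representation.char_one, Module.finrank_fin_fun] at h1
  have hm : m = d := by rw [← hd, ← hχ]; exact_mod_cast h1
  subst hm
  set H := MonoidHom.ker (σ : G →* Module.End ℂ (Fin m → ℂ)) with hH
  have hmem : ∀ g, g ∈ H ↔ (χ : G → ℂ) g = (χ : G → ℂ) 1 := fun g => by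
    rw [hH, MonoidHom.mem_ker, ← hχ, Representation.char_one, char_eq_degree_iff,
      ← Module.End.one_eq_id]
  have hle : H ≤ Subgroup.center G := by
    refine hcore.norm H inferInstance fun htop => ?_
    have h := classInner_self_irr χ.2
    rw [classInner, Finset.sum_congr rfl (g := fun _ => ((m : ℂ)) * m) (fun g _ => by
      rw [(hmem g).1 (htop ▸ Subgroup.mem_top g), irr_one_eq_charDegree, hd, map_natCast]),
      Finset.sum_const, Finset.card_univ, nsmul_eq_mul, ← Nat.card_eq_fintype_card,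
      inv_mul_cancel_left₀ (Nat.cast_ne_zero.2 Nat.card_pos.ne')] at h
    have h' : m * m = 1 := by exact_mod_cast h
    have := Nat.mul_le_mul hd2 hd2
    omega
  have hmk : ∀ g, g ∈ H → σ g = 1 := fun g hg => MonoidHom.mem_ker.1 hg
  let ρ : Representation ℂ (G ⧸ H) (Fin m → ℂ) := QuotientGroup.lift H σ fun g hg => hmk g hg
  have hinj : Function.Injective ρ := by
    intro a b hab
    obtain ⟨x, rfl⟩ := QuotientGroup.mk_surjective a
    obtain ⟨y, rfl⟩ := QuotientGroup.mk_surjective b
    have hxy : σ x = σ y := hab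
    rw [QuotientGroup.eq, hH, MonoidHom.mem_ker]
    show σ (x⁻¹ * y) = 1
    rw [map_mul, ← hxy, ← map_mul, inv_mul_cancel, map_one]
  refine ⟨H, inferInstance, hle, hmem, ρ, ?_, hinj⟩
  have iso : Subrepresentation ρ ≃o Subrepresentation σ :=
    { toFun := fun a => ⟨a.toSubmodule, fun g => a.apply_mem_toSubmodule (g : G ⧸ H)⟩
      invFun := fun a => ⟨a.toSubmodule, fun q v hv => by
        obtain ⟨g, rfl⟩ := QuotientGroup.mk_surjective q
        exact a.apply_mem_toSubmodule g hv⟩
      left_inv := fun _ => rfl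
      right_inv := fun _ => rfl
      map_rel_iff' := Iff.rfl }
  exact iso.isSimpleOrder_iff.mpr inferInstance

/-- A character of degree half of `p` gives the projective special linear group. -/
theorem psl_of_half (hcore : Core p G) [Fact p.Prime] (χ : IrrCharacter G) {d : ℕ}
    (hd : charDegree (χ : G → ℂ) = d) (hdp : 2 * d + 1 = p) :
    Nonempty (G ⧸ Subgroup.center G ≃* Matrix.ProjectiveSpecialLinearGroup (Fin 2) (ZMod p)) := by
  have := hcore.big
  obtain ⟨H, hHn, hHle, -, ρ, -, hρ⟩ := exists_faithful_quot_rep hcore χ hd (by omega)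
  haveI : Fintype (G ⧸ H) := Fintype.ofFinite _
  obtain ⟨hq, ⟨i⟩⟩ := hcore.quotient H hHle
  obtain ⟨j⟩ := SmallDim.center_quotient_psl (by omega) hq.dvd hq.sq
    (fun W hW hc => not_dvd_center_of_perfect hq.perf hq.sq (by
      have hne : W ≠ ⊤ := fun h => center_ne_top hq (eq_top_iff.2 (h ▸ ?_))
      · exact hc ▸ Subgroup.card_dvd_of_le (hq.norm W hW hne)
      · intro x _
        haveI : IsCyclic (G ⧸ H) := isCyclic_of_prime_card (p := p) (by rw [← Subgroup.card_top, ← h, hc])
        exact Subgroup.mem_center_iff.2 fun g => (IsCyclic.commGroup (α := G ⧸ H)).mul_comm g x))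
    ρ hρ hdp
  exact ⟨i.symm.trans j⟩

/-- There are no nonlinear characters of degree below half of `p`. -/
theorem not_small_degree (hcore : Core p G) (χ : IrrCharacter G) {d : ℕ}
    (hd : charDegree (χ : G → ℂ) = d) (hd2 : 2 ≤ d) (hdp : 2 * d + 1 < p) : False := by
  haveI := Fact.mk hcore.prime
  obtain ⟨H, hHn, hHle, -, ρ, -, hρ⟩ := exists_faithful_quot_rep hcore χ hd hd2
  haveI : Fintype (G ⧸ H) := Fintype.ofFinite _
  obtain ⟨hq, -⟩ := hcore.quotient H hHle
  obtain ⟨x, hx⟩ := exists_prime_orderOf_dvd_card' p hq.dvd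
  have hc : Nat.card (Subgroup.zpowers x) = p := by rw [Nat.card_zpowers, hx]
  have hn := DefOne.normal_of_small hcore.prime _ _ rfl _ hc hq.sq ρ.character (isCharacter_of_rep ρ)
    (fun g hg => hρ (by
      rw [Representation.char_one, char_eq_degree_iff] at hg
      rw [map_one, hg, Module.End.one_eq_id]))
    (by rwa [charDegree, Representation.char_one, Module.finrank_fin_fun, Complex.natCast_re,
      Nat.floor_natCast])
  have hne : Subgroup.zpowers x ≠ ⊤ := fun h => center_ne_top hq (eq_top_iff.2 fun y _ => by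
    haveI : IsCyclic (G ⧸ H) := isCyclic_of_prime_card (p := p) (by rw [← Subgroup.card_top, ← h, hc])
    exact Subgroup.mem_center_iff.2 fun g => (IsCyclic.commGroup (α := G ⧸ H)).mul_comm g y)
  exact not_dvd_center_of_perfect hq.perf hq.sq (hc ▸ Subgroup.card_dvd_of_le (hq.norm _ hn hne))

open scoped Classical in
/-- The local data of a faithful character of degree sixteen, with the family of the squares. -/
theorem with_setup [NeZero p] (hcore : Core p G) (ρ : Representation ℂ G (Fin 16 → ℂ)) [ρ.IsIrreducible]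
    (hρ : Function.Injective ρ) {motive : Prop}
    (h : ∀ {P V N : Subgroup G} {e : ℕ} (K : Conf p P V N e) [Fintype P] [Fintype V] [Fintype N]
      [Fintype (P →* ℂˣ)] (M : Ideal AlgInt) [M.IsPrime] (ζ ζ' : IrrCharacter G) (b : IrrCharacter V)
      (C : Coord p P) (_ : Local K ζ ζ' b C) (μ : IrrCharacter V) (X Y : Finset (IrrCharacter G))
      (δ : ℤ) (sg : IrrCharacter G → ℤ) (_ : Fam K (M := M) μ X Y δ sg)
      (_ : ∀ v : V, (μ : V → ℂ) v = (b : V → ℂ) v * (b : V → ℂ) v) (θ : IrrCharacter G) (_ : θ ∈ Y),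
      motive) : motive := by
  haveI := Fact.mk hcore.prime
  obtain ⟨P⟩ : Nonempty (Sylow p G) := inferInstance
  have hfac : (Nat.card G).factorization p = 1 := by
    have a1 := (hcore.prime.dvd_iff_one_le_factorization Nat.card_pos.ne').1 hcore.dvd
    have a2 : ¬ 2 ≤ (Nat.card G).factorization p := fun h =>
      hcore.sq ((hcore.prime.pow_dvd_iff_le_factorization Nat.card_pos.ne').2 h)
    omega
  have hP : Nat.card P = p := by rw [Sylow.card_eq_multiplicity, hfac, pow_one]
  have hPn : ¬ (P : Subgroup G).Normal := fun hn => by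
    have hne : (P : Subgroup G) ≠ ⊤ := fun h => center_ne_top hcore (eq_top_iff.2 fun y _ => by
      haveI : IsCyclic G := isCyclic_of_prime_card (p := p) (by rw [← Subgroup.card_top, ← h, hP])
      exact Subgroup.mem_center_iff.2 fun g => (IsCyclic.commGroup (α := G)).mul_comm g y)
    exact not_dvd_center_of_perfect hcore.perf hcore.sq
      (hP ▸ Subgroup.card_dvd_of_le (hcore.norm _ hn hne))
  obtain ⟨V, e, K, -⟩ := exists_conf hcore.prime P hP
  haveI : Fintype ((P : Subgroup G) →* ℂˣ) := Fintype.ofFinite _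
  obtain ⟨M, hM⟩ := exists_isPModular_witness p
  haveI := IsPModular.isPrime hM
  obtain ⟨ζ', b, C, L⟩ := exists_local K hcore hM hPn ρ hρ
    ⟨ρ.character, isIrrCharacter_of_rep ρ⟩ rfl
  obtain ⟨μ, hμ1, hμ⟩ := L.exists_mu
  obtain ⟨X, Y, δ, sg, F⟩ := exists_fam K hM L.hV μ hμ1
  obtain ⟨θ, hθ⟩ := F.fam.nonempty
  exact h K M _ ζ' b C L μ X Y δ sg F hμ θ hθ

/-- A faithful representation of degree sixteen of a central quotient. -/
theorem faithful_deg_sixteen (hcore : Core p G) (θ : IrrCharacter G)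
    (hd : charDegree (θ : G → ℂ) = 16) :
    ∃ (H : Subgroup G) (_ : H.Normal), H ≤ Subgroup.center G ∧
      (∀ g, g ∈ H ↔ (θ : G → ℂ) g = (θ : G → ℂ) 1) ∧
      ∃ ρ : Representation ℂ (G ⧸ H) (Fin 16 → ℂ), ρ.IsIrreducible ∧ Function.Injective ρ :=
  exists_faithful_quot_rep hcore θ hd (by norm_num)

end Cfsg.Agent.SmallDeg16
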