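import Cfsg.Agent.Lib.SmallDeg16.FewEigen
import Cfsg.Agent.S0801

/-!
An automorphism of a perfect central extension of `PSL₂(p)` fixing an element of order `p` is inner.
-/

set_option autoImplicit false
set_option linter.unusedSectionVars false
set_option linter.style.haveILetI false

namespace Cfsg.Agent.SmallDeg16

open SmallDim
open scoped Classical MatrixGroups commutatorElement

universe u

variable {p : ℕ} [hpF : Fact p.Prime]

/-- Membership in the centre of `SL₂(p)`, for two elements equal up to sign. -/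
theorem iota_eq_iff {k : Type} [Field k] [CharP k p] {a b : Matrix.SpecialLinearGroup (Fin 2) (ZMod p)} :
    iotaSL k p a = iotaSL k p b ↔ (a.1 = b.1 ∨ a.1 = -b.1) := by
  rw [← div_eq_one, ← map_div, ← MonoidHom.mem_ker, iotaSL_ker, div_eq_mul_inv]
  have e : a.1 = (a * b⁻¹).1 * b.1 := by
    rw [← Matrix.SpecialLinearGroup.coe_mul, inv_mul_cancel_right]
  constructor
  · intro h
    rcases center_sl_eq h with hc | hc
    · exact Or.inl (by rw [e, hc, one_mul])
    · exact Or.inr (by rw [e, hc, neg_one_mul])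
  · intro h
    have hb : b.1 * (b⁻¹).1 = 1 := by
      rw [← Matrix.SpecialLinearGroup.coe_mul, mul_inv_cancel]; rfl
    rw [Matrix.SpecialLinearGroup.mem_center_iff]
    rcases h with h | h
    · refine ⟨1, one_pow _, ?_⟩
      rw [Matrix.SpecialLinearGroup.coe_mul, h, hb]
      simp
    · refine ⟨-1, by rw [Fintype.card_fin]; ring, ?_⟩
      rw [Matrix.SpecialLinearGroup.coe_mul, h, Matrix.neg_mul, hb]
      ext r s
      fin_cases r <;> fin_cases s <;> simp

/-- Correcting a torus element by a transvection. -/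
theorem torus_key (u v a b : ZMod p) (h : u * a + b * v - u * b = 0) :
    !![1, b; 0, 1] * (!![u, 0; 0, v] * !![1, a; 0, 1]) * !![1, -b; -0, 1] = !![u, 0; 0, v] := by
  ext r s
  fin_cases r <;> fin_cases s <;> simp [Matrix.mul_apply, Fin.sum_univ_two]
  linear_combination h

/-- The Weyl element inverts the torus. -/
theorem weyl_key (u v : ZMod p) :
    !![0, 1; -1, 0] * !![u, 0; 0, v] = !![v, -0; -0, u] * !![(0 : ZMod p), 1; -1, 0] := by
  ext r s
  fin_cases r <;> fin_cases s <;> simp [Matrix.mul_apply, Fin.sum_univ_two]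

/-- A matrix inverting the torus up to sign is antidiagonal. -/
theorem antidiag_key {u v : ZMod p} (M : Matrix (Fin 2) (Fin 2) (ZMod p)) (huv : u * v = 1) (h4 : u ^ 4 ≠ 1)
    (h : M * !![u, 0; 0, v] = !![v, -0; -0, u] * M ∨
      M * !![u, 0; 0, v] = -(!![v, -0; -0, u] * M)) : M 0 0 = 0 ∧ M 1 1 = 0 := by
  rcases h with h | h <;>
  · have a := congrFun (congrFun h 0) 0
    have b := congrFun (congrFun h 1) 1
    simp [Matrix.mul_apply, Matrix.vecMul, dotProduct, Fin.sum_univ_two] at a b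
    constructor <;> by_contra hne <;>
      first
      | exact h4 (mul_left_cancel₀ hne (by linear_combination (u ^ 2 + 1) * u * a + (u ^ 2 + 1) * M 0 0 * huv))
      | exact h4 (mul_left_cancel₀ hne (by linear_combination (u ^ 2 - 1) * u * a - (u ^ 2 - 1) * M 0 0 * huv))
      | exact h4 (mul_left_cancel₀ hne (by linear_combination -(u ^ 2 + 1) * u * b + (u ^ 2 + 1) * M 1 1 * huv))
      | exact h4 (mul_left_cancel₀ hne (by linear_combination (u ^ 2 - 1) * u * b - (u ^ 2 - 1) * M 1 1 * huv))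

/-- An antidiagonal matrix with the cube relation is the Weyl element up to sign. -/
theorem cube_key (M : Matrix (Fin 2) (Fin 2) (ZMod p)) (h00 : M 0 0 = 0) (h11 : M 1 1 = 0)
    (hdet : M 0 0 * M 1 1 - M 0 1 * M 1 0 = 1)
    (h : (M * !![1, 1; 0, 1]) ^ 3 = 1 ∨ (M * !![1, 1; 0, 1]) ^ 3 = -1) :
    M = !![0, 1; -1, 0] ∨ M = -!![0, 1; -1, 0] := by
  rw [h00, zero_mul, zero_sub] at hdet
  have h01 : ((M * !![1, 1; 0, 1]) ^ 3 : Matrix (Fin 2) (Fin 2) (ZMod p)) 0 1 = 0 := by
    rcases h with h | h <;> rw [h] <;> simp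
  simp [pow_succ, Matrix.mul_apply, Fin.sum_univ_two, h00, h11] at h01
  have ha : M 0 1 = 1 ∨ M 0 1 = -1 := mul_self_eq_one_iff.1 (by grind)
  rcases ha with h | h
  · left
    ext r s
    fin_cases r <;> fin_cases s <;> simp [h00, h11, h]
    rw [h, one_mul] at hdet
    linear_combination -hdet
  · right
    ext r s
    fin_cases r <;> fin_cases s <;> simp [h00, h11, h]
    rw [h] at hdet
    linear_combination hdet
variable {L : Type u} [Group L] [Finite L]

/-- The rigidity of the automorphisms. -/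
theorem exists_pow_inner (hp7 : 7 ≤ p) (hperf : commutator L = ⊤) (hsq : ¬ p ^ 2 ∣ Nat.card L)
    {k : Type} [Field k] [CharP k p] (φ : L →* PGL(2, k))
    (hk : φ.ker = Subgroup.center L) (hr : φ.range = (iotaSL k p).range) {x : L} (hx : orderOf x = p)
    (hφx : φ x = Matrix.SpecialLinearGroup.toPGL (sU 1)) (β : L ≃* L) (hβ : β x = x) :
    ∃ j : ℕ, ∀ l : L, β (x ^ j * l * (x ^ j)⁻¹) = l := by
  have hp := hpF.out
  have hp5 : 5 ≤ p := by omega
  have hxp : x ^ p = 1 := hx ▸ pow_orderOf_eq_one x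
  have hT : iotaSL k p (sU 1) = φ x := by
    rw [hφx, iotaSL, MonoidHom.comp_apply]
    refine congrArg Matrix.SpecialLinearGroup.toPGL (Subtype.ext (Matrix.ext fun i j => ?_))
    show ZMod.castHom (dvd_refl p) k ((sU (1 : ZMod p)).1 i j) = (sU (1 : k)).1 i j
    fin_cases i <;> fin_cases j <;> simp [sU]
  have hβc : ∀ z : L, z ∈ Subgroup.center L → β z ∈ Subgroup.center L := fun z hz =>
    Subgroup.mem_center_iff.2 fun g => by
      obtain ⟨g, rfl⟩ := β.surjective g
      rw [← map_mul, ← map_mul, Subgroup.mem_center_iff.1 hz g]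
  obtain ⟨hC, -, -⟩ := centralizer_of_std hp5 hperf hsq φ hx hk hr hφx
  obtain ⟨t, ht⟩ := IsCyclic.exists_generator (α := (ZMod p)ˣ)
  have hto : orderOf t = p - 1 := by
    rw [orderOf_eq_card_of_forall_mem_zpowers ht, Nat.card_eq_fintype_card, ZMod.card_units]
  have ht4 : (t : ZMod p) ^ 4 ≠ 1 := by
    rw [← Units.val_pow_eq_pow_val, Ne, Units.val_eq_one, ← orderOf_dvd_iff_pow_eq_one, hto]
    intro h
    have h1 := Nat.le_of_dvd (by norm_num) h
    omega
  have ht2 : (t : ZMod p) ^ 2 ≠ 1 := fun h => ht4 (by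
    rw [show 4 = 2 * 2 from rfl, pow_mul, h, one_pow])
  let D : Matrix.SpecialLinearGroup (Fin 2) (ZMod p) :=
    ⟨!![(t : ZMod p), 0; 0, ((t⁻¹ : (ZMod p)ˣ) : ZMod p)], by
      rw [Matrix.det_fin_two_of, Units.mul_inv, mul_zero, sub_zero]⟩
  let W : Matrix.SpecialLinearGroup (Fin 2) (ZMod p) := ⟨!![0, 1; -1, 0], by simp [Matrix.det_fin_two]⟩
  obtain ⟨d, hd⟩ : iotaSL k p D ∈ φ.range := hr ▸ ⟨D, rfl⟩
  obtain ⟨w, hw⟩ : iotaSL k p W ∈ φ.range := hr ▸ ⟨W, rfl⟩
  set e : ℕ := ((t : ZMod p) ^ 2).val with he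
  set e' : ℕ := (((t : ZMod p) ^ 2)⁻¹).val with he'
  have hpowU : ∀ a : ℕ, φ (x ^ a) = iotaSL k p (sU (a : ZMod p)) := fun a => by
    rw [map_pow, ← hT, ← map_pow, sU_pow, mul_one]
  -- the torus element acts on `x` by the square
  have hdx : d * x * d⁻¹ = x ^ e := by
    have h1 : φ (d * x * d⁻¹) = φ (x ^ e) := by
      rw [map_mul, map_mul, map_inv, hd, hpowU, ← hT, ← map_mul, ← map_inv, ← map_mul]
      congr 1
      rw [mul_inv_eq_iff_eq_mul]
      refine Subtype.ext ?_
      rw [he, ZMod.natCast_zmod_val]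
      show D.1 * (sU (1 : ZMod p)).1 = (sU ((t : ZMod p) ^ 2)).1 * D.1
      have key : ∀ u v : ZMod p, u * v = 1 → (!![u, 0; 0, v] : Matrix (Fin 2) (Fin 2) (ZMod p)) *
          !![1, 1; 0, 1] = !![1, u ^ 2; 0, 1] * !![u, 0; 0, v] := by
        intro u v huv
        ext i j
        fin_cases i <;> fin_cases j <;> simp [Matrix.mul_apply]
        linear_combination -u * huv
      exact key _ _ (Units.mul_inv t)
    have hc : (x ^ e)⁻¹ * (d * x * d⁻¹) ∈ Subgroup.center L := by
      rw [← hk, MonoidHom.mem_ker, map_mul, map_inv, h1, inv_mul_cancel]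
    set c := (x ^ e)⁻¹ * (d * x * d⁻¹) with hcd
    have e2 : d * x * d⁻¹ = x ^ e * c := by rw [hcd, mul_inv_cancel_left]
    have hcp : c ^ p = 1 := by
      have hcm : Commute (x ^ e) c := Subgroup.mem_center_iff.1 hc _
      have h2 : (d * x * d⁻¹) ^ p = 1 := by rw [conj_pow, hxp, mul_one, mul_inv_cancel]
      rw [e2, hcm.mul_pow, ← pow_mul, mul_comm e p, pow_mul, hxp, one_pow, one_mul] at h2
      exact h2
    rcases (Nat.dvd_prime hp).1 (orderOf_dvd_of_pow_eq_one hcp) with ho | ho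
    · rw [e2, orderOf_eq_one_iff.1 ho, mul_one]
    · exact absurd hc (not_mem_center_of_order hperf hsq ho)
  have hβd : β d * x * (β d)⁻¹ = x ^ e := by
    have := congrArg β hdx
    rwa [map_mul, map_mul, map_inv, map_pow, hβ] at this
  have hcd : d⁻¹ * β d ∈ Subgroup.centralizer ({x} : Set L) := by
    rw [Subgroup.mem_centralizer_singleton_iff]
    calc d⁻¹ * β d * x = d⁻¹ * (β d * x * (β d)⁻¹) * β d := by group
      _ = d⁻¹ * (d * x * d⁻¹) * β d := by rw [hβd, hdx]
      _ = x * (d⁻¹ * β d) := by group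
  rw [hC] at hcd
  obtain ⟨x', hx', z, hz, hdz⟩ := Subgroup.mem_sup_of_normal_right.1 hcd
  obtain ⟨i, rfl⟩ := (isOfFinOrder_of_finite x).mem_powers_iff_mem_zpowers.2 hx'
  have hdz' : β d = d * (x ^ i * z) := by rw [hdz, mul_inv_cancel_left]
  -- choose the inner correction
  set j : ℕ := ((i : ZMod p) * (1 - ((t : ZMod p) ^ 2)⁻¹)⁻¹).val with hj
  have hne : (1 - ((t : ZMod p) ^ 2)⁻¹) ≠ 0 := sub_ne_zero.2 fun h => ht2 (by
    rw [← inv_inv ((t : ZMod p) ^ 2), ← h, inv_one])
  refine ⟨j, ?_⟩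
  set γ : L ≃* L := (MulAut.conj (x ^ j)).trans β with hγ
  have hγ' : ∀ l, γ l = β (x ^ j * l * (x ^ j)⁻¹) := fun l => rfl
  have hγc : ∀ z : L, z ∈ Subgroup.center L → γ z ∈ Subgroup.center L := fun z hz => by
    rw [hγ', Subgroup.mem_center_iff.1 hz (x ^ j), mul_inv_cancel_right]
    exact hβc z hz
  have hγx : γ x = x := by
    rw [hγ', show x ^ j * x * (x ^ j)⁻¹ = x by rw [← pow_succ, pow_succ', mul_inv_cancel_right], hβ]
  have hγd : φ (γ d) = φ d := by
    have hd' : d * x = x ^ e * d := mul_inv_eq_iff_eq_mul.1 hdx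
    have hφz : φ z = 1 := MonoidHom.mem_ker.1 (hk ▸ hz)
    rw [hγ']
    simp only [map_mul, map_inv, map_pow, hβ, hdz', hφz, mul_one]
    rw [← map_pow, ← map_pow]
    rw [hpowU, hpowU, hd]
    simp only [← map_mul, ← map_inv]
    refine iota_eq_iff.2 (Or.inl ?_)
    rw [Matrix.SpecialLinearGroup.coe_mul, Matrix.SpecialLinearGroup.coe_mul,
      Matrix.SpecialLinearGroup.coe_mul, Matrix.SpecialLinearGroup.coe_inv,
      show (sU (i : ZMod p)).1 = !![1, (i : ZMod p); 0, 1] from rfl,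
      show (sU (j : ZMod p)).1 = !![1, (j : ZMod p); 0, 1] from rfl, Matrix.adjugate_fin_two_of]
    have hji : (j : ZMod p) * (1 - ((t : ZMod p) ^ 2)⁻¹) = i := by
      rw [hj, ZMod.natCast_zmod_val, mul_assoc, inv_mul_cancel₀ hne, mul_one]
    refine torus_key _ _ _ _ ?_
    rw [← hji]
    have hu : ((t⁻¹ : (ZMod p)ˣ) : ZMod p) = (t : ZMod p)⁻¹ := Units.val_inv_eq_inv_val t
    have ht0 : (t : ZMod p) ≠ 0 := t.ne_zero
    rw [hu]
    field_simp
    ring
  -- the Weyl element
  have hγw : φ (γ w) = φ w := by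
    obtain ⟨m, hm⟩ : φ (γ w) ∈ (iotaSL k p).range := hr ▸ ⟨γ w, rfl⟩
    have hwd : φ (w * d) = φ (d⁻¹ * w) := by
      rw [map_mul, map_mul, map_inv, hw, hd, ← map_mul, ← map_inv, ← map_mul]
      refine iota_eq_iff.2 (Or.inl ?_)
      rw [Matrix.SpecialLinearGroup.coe_mul, Matrix.SpecialLinearGroup.coe_mul,
        Matrix.SpecialLinearGroup.coe_inv, show D.1 = !![(t : ZMod p), 0; 0,
          ((t⁻¹ : (ZMod p)ˣ) : ZMod p)] from rfl, show W.1 = !![0, 1; -1, 0] from rfl,
        Matrix.adjugate_fin_two_of]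
      exact weyl_key _ _
    have hmd : iotaSL k p (m * D) = iotaSL k p (D⁻¹ * m) := by
      have h := hwd
      have hk' : (w * d)⁻¹ * (d⁻¹ * w) ∈ Subgroup.center L := by
        rw [← hk, MonoidHom.mem_ker, map_mul, map_inv, h, inv_mul_cancel]
      have h1 : φ (γ ((w * d)⁻¹ * (d⁻¹ * w))) = 1 := by
        rw [← MonoidHom.mem_ker, hk]
        exact hγc _ hk'
      rw [map_mul, map_inv, map_mul, map_inv, inv_mul_eq_one, map_mul, map_mul, map_mul, map_mul,
        map_inv, map_inv, hγd, hd, ← hm] at h1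
      rw [map_mul, map_mul, map_inv]
      exact h1
    have hdet := m.2
    rw [Matrix.det_fin_two] at hdet
    have ht0 : (t : ZMod p) ≠ 0 := t.ne_zero
    have hdiag : m 0 0 = 0 ∧ m 1 1 = 0 := by
      refine antidiag_key m.1 (Units.mul_inv t) ht4 ?_
      have h := iota_eq_iff.1 hmd
      rw [Matrix.SpecialLinearGroup.coe_mul, Matrix.SpecialLinearGroup.coe_mul,
        Matrix.SpecialLinearGroup.coe_inv, show D.1 = !![(t : ZMod p), 0; 0,
          ((t⁻¹ : (ZMod p)ˣ) : ZMod p)] from rfl, Matrix.adjugate_fin_two_of] at h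
      exact h
    obtain ⟨h00, h11⟩ := hdiag
    -- the cube of `w x`
    have hcube : iotaSL k p ((m * sU 1) ^ 3) = 1 := by
      have hk' : (w * x) ^ 3 ∈ Subgroup.center L := by
        rw [← hk, MonoidHom.mem_ker, map_pow, map_mul, hw, ← hT, ← map_mul, ← map_pow,
          ← map_one (iotaSL k p)]
        refine iota_eq_iff.2 ?_
        have : ((W * sU 1) ^ 3).1 = (1 : Matrix (Fin 2) (Fin 2) (ZMod p)) := by
          rw [Matrix.SpecialLinearGroup.coe_pow, Matrix.SpecialLinearGroup.coe_mul,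
            show W.1 = !![0, 1; -1, 0] from rfl, show (sU (1 : ZMod p)).1 = !![1, 1; 0, 1] from rfl]
          ext r s
          fin_cases r <;> fin_cases s <;> simp [pow_succ, Matrix.mul_apply, Fin.sum_univ_two]
        exact Or.inl this
      have h1 : φ (γ ((w * x) ^ 3)) = 1 := by
        rw [← MonoidHom.mem_ker, hk]
        exact hγc _ hk'
      rw [map_pow, map_pow, map_mul, map_mul, hγx, ← hm, ← hT, ← map_mul, ← map_pow] at h1
      exact h1
    rw [← hm, hw]
    refine iota_eq_iff.2 ?_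
    have h3 := iota_eq_iff.1 (hcube.trans (map_one (iotaSL k p)).symm)
    rw [Matrix.SpecialLinearGroup.coe_pow, Matrix.SpecialLinearGroup.coe_mul,
      show (sU (1 : ZMod p)).1 = !![1, 1; 0, 1] from rfl, Matrix.SpecialLinearGroup.coe_one] at h3
    exact cube_key m.1 h00 h11 hdet h3
  -- they generate
  set E : Subgroup L := MonoidHom.eqLocus (φ.comp γ.toMonoidHom) φ with hE
  have hker : Subgroup.center L ≤ E := fun z hz => by
    show φ (γ z) = φ z
    rw [MonoidHom.mem_ker.1 (hk ▸ hz : z ∈ φ.ker), ← MonoidHom.mem_ker, hk]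
    exact hγc z hz
  have hxE : x ∈ E := by show φ (γ x) = φ x; rw [hγx]
  have hwE : w ∈ E := hγw
  have hEtop : E = ⊤ := by
    have h2 : (2 : ZMod p) ≠ 0 := SmallDim.two_ne_zero_of hp5
    have hclo : Subfield.closure ({1} : Set (ZMod p)) = ⊤ := eq_top_iff.2 fun x _ => by
      rw [← ZMod.natCast_zmod_val x]; exact natCast_mem _ _
    rcases Cfsg.Agent.S0801.result (F := ZMod p) h2 1 one_ne_zero hclo with ⟨h, -⟩ | ⟨h9, -, -⟩
    · have hle : (⊤ : Subgroup (Matrix.SpecialLinearGroup (Fin 2) (ZMod p))) ≤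
          (E.map φ).comap (iotaSL k p) := by
        rw [← h, Subgroup.closure_le]
        intro v hv
        show iotaSL k p v ∈ E.map φ
        rcases hv with hv | hv
        · refine ⟨w * x⁻¹ * w⁻¹, E.mul_mem (E.mul_mem hwE (E.inv_mem hxE)) (E.inv_mem hwE), ?_⟩
          rw [map_mul, map_mul, map_inv, map_inv, hw, ← hT, ← map_inv, ← map_inv, ← map_mul, ← map_mul]
          refine iota_eq_iff.2 (Or.inl ?_)
          rw [Matrix.SpecialLinearGroup.coe_mul, Matrix.SpecialLinearGroup.coe_mul,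
            Matrix.SpecialLinearGroup.coe_inv, Matrix.SpecialLinearGroup.coe_inv, hv,
            show W.1 = !![0, 1; -1, 0] from rfl, show (sU (1 : ZMod p)).1 = !![1, 1; 0, 1] from rfl,
            Matrix.adjugate_fin_two_of, Matrix.adjugate_fin_two_of]
          ext r s
          fin_cases r <;> fin_cases s <;> simp [Matrix.mul_apply]
        · refine ⟨x, hxE, ?_⟩
          rw [show v = sU 1 from Subtype.ext hv, hT]
      refine eq_top_iff.2 fun l _ => ?_
      obtain ⟨v, hv⟩ : φ l ∈ (iotaSL k p).range := hr ▸ ⟨l, rfl⟩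
      obtain ⟨u, hu, huv⟩ := hle (Subgroup.mem_top v)
      have hm : u⁻¹ * l ∈ E := hker (by
        rw [← hk, MonoidHom.mem_ker, map_mul, map_inv, huv, hv, inv_mul_cancel])
      have := E.mul_mem hu hm
      rwa [mul_inv_cancel_left] at this
    · exfalso
      rw [ZMod.card] at h9
      subst h9
      exact absurd hp (by norm_num)
  -- from the quotient to the group
  have hmod : ∀ l : L, l⁻¹ * γ l ∈ Subgroup.center L := fun l => by
    rw [← hk, MonoidHom.mem_ker, map_mul, map_inv,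
      show φ (γ l) = φ l from (hEtop ▸ Subgroup.mem_top l : l ∈ E), inv_mul_cancel]
  have hle : commutator L ≤ MonoidHom.eqLocus γ.toMonoidHom (MonoidHom.id L) := by
    rw [commutator_def, Subgroup.commutator_le]
    intro a _ b _
    show γ ⁅a, b⁆ = ⁅a, b⁆
    have ca := Subgroup.mem_center_iff.1 (hmod a)
    have cb := Subgroup.mem_center_iff.1 (hmod b)
    rw [map_commutatorElement, ← mul_inv_cancel_left a (γ a), ← mul_inv_cancel_left b (γ b)]
    generalize a⁻¹ * γ a = za at ca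
    generalize b⁻¹ * γ b = zb at cb
    rw [commutatorElement_def, commutatorElement_def]
    calc a * za * (b * zb) * (a * za)⁻¹ * (b * zb)⁻¹
        = a * (za * (b * zb) * za⁻¹) * a⁻¹ * (zb⁻¹ * b⁻¹) := by group
      _ = a * (b * zb) * a⁻¹ * (zb⁻¹ * b⁻¹) := by rw [← ca (b * zb), mul_inv_cancel_right]
      _ = a * b * (zb * a⁻¹ * zb⁻¹) * b⁻¹ := by group
      _ = a * b * a⁻¹ * b⁻¹ := by rw [← cb a⁻¹, mul_inv_cancel_right]
  intro l
  rw [hperf] at hle
  exact hle (Subgroup.mem_top l)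

end Cfsg.Agent.SmallDeg16
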