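import Cfsg.Agent.Lib.SmallDeg16.FewEigen
import Cfsg.Agent.Lib.SmallDeg16.Mult

/-!
The eigenvalue multiplicities of the elements of order `p` in degree at most sixteen.
-/

set_option autoImplicit false
set_option linter.unusedSectionVars false
set_option linter.style.haveILetI false

namespace Cfsg.Agent.SmallDeg16

open Finset Module SmallDim
open scoped Classical Polynomial commutatorElement Pointwise

universe u

variable {G : Type u} [Group G] [Finite G] {p : ℕ} [hpF : Fact p.Prime] {d : ℕ}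

/-- A normal subgroup of index prime to `p` contains the elements of order `p`. -/
theorem mem_of_not_dvd_index {M : Subgroup G} [M.Normal] (h : ¬ p ∣ M.index) {x : G}
    (hx : x ^ p = 1) : x ∈ M := by
  rcases (Nat.dvd_prime hpF.out).1 (orderOf_dvd_of_pow_eq_one
    (show ((x : G) : G ⧸ M) ^ p = 1 by rw [← QuotientGroup.mk_pow, hx]; rfl)) with e | e
  · exact (QuotientGroup.eq_one_iff x).1 (orderOf_eq_one_iff.1 e)
  · exact absurd (e ▸ orderOf_dvd_natCard ((x : G) : G ⧸ M) :) (by rwa [← Subgroup.index_eq_card])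

theorem not_dvd_index_of_sq {M : Subgroup G} (h : p ∣ Nat.card M) (hsq : ¬ p ^ 2 ∣ Nat.card G) :
    ¬ p ∣ M.index := fun h' => hsq (by
  rw [← Subgroup.card_mul_index M, pow_two]
  exact Nat.mul_dvd_mul h h')

/-- A normal `p'`-subgroup centralises the elements of order `p`, in small complex degree. -/
theorem commute_of_compl (ρ : Representation ℂ G (Fin d → ℂ)) (hρ : Function.Injective ρ)
    (hd : d + 2 ≤ p) (hsq : ¬ p ^ 2 ∣ Nat.card G) (K : Subgroup G) [K.Normal]
    (hK : ¬ p ∣ Nat.card K) {x : G} (hx : x ^ p = 1) {z : G} (hz : z ∈ K) : z * x = x * z := by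
  haveI : Fintype G := Fintype.ofFinite G
  by_cases h : ∀ H : Subgroup G, H.Normal → IsPGroup p H → H = ⊥
  · obtain ⟨V, -, hch, -, σ, -, hinj, -⟩ := exists_reduction h ρ hρ
    haveI := hch
    exact commute_of_normal_compl σ hinj (by rw [Module.finrank_fin_fun]; exact hd) hsq K hK hx hz
  · push Not at h
    obtain ⟨Q, hQn, hQp, hQ⟩ := h
    obtain ⟨i, hi⟩ := hQp.exists_card_eq
    have hi1 : i = 1 := by
      rcases (show i = 0 ∨ i = 1 ∨ 2 ≤ i by omega) with h | h | h
      · rw [h, pow_zero, Subgroup.card_eq_one] at hi; exact absurd hi hQ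
      · exact h
      · exact absurd ((pow_dvd_pow p h).trans (hi ▸ Q.card_subgroup_dvd_card)) hsq
    rw [hi1, pow_one] at hi
    have hxQ : x ∈ Q := mem_of_not_dvd_index (not_dvd_index_of_sq (by rw [hi]) hsq) hx
    have hdis : Disjoint K Q := disjoint_iff.2 (Subgroup.inf_eq_bot_of_coprime (by
      rw [hi]; exact (hpF.out.coprime_iff_not_dvd.2 hK).symm))
    exact Subgroup.commute_of_normal_of_disjoint K Q inferInstance hQn hdis z x hz hxQ

/-- An element of order `p` is, up to a central factor, an element of the derived subgroup. -/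
theorem exists_derived_element (ρ : Representation ℂ G (Fin d → ℂ)) (hρ : Function.Injective ρ)
    (hd : d + 2 ≤ p) (hind : ¬ p ^ 2 ∣ (Subgroup.center G).index) {y : G} (hy : orderOf y = p)
    (hyc : y ∉ Subgroup.center G) :
    ¬ p ^ 2 ∣ Nat.card (commutator G) ∧ ∃ x ∈ commutator G, orderOf x = p ∧
      x ∉ Subgroup.center G ∧ ∃ c ∈ Subgroup.center G, y = x * c := by
  have hp := hpF.out
  set Z := Subgroup.center G with hZ
  have hS : Nat.card (Subgroup.zpowers y) = p := by rw [Nat.card_zpowers, hy]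
  have hyp : y ^ p = 1 := hy ▸ pow_orderOf_eq_one y
  have hinf : Z ⊓ Subgroup.zpowers y = ⊥ := by
    rcases (Nat.dvd_prime hp).1 (hS ▸ Subgroup.card_dvd_of_le
      (inf_le_right : Z ⊓ Subgroup.zpowers y ≤ _)) with e | e
    · exact Subgroup.card_eq_one.1 e
    · have e' := Subgroup.eq_of_le_of_card_ge (inf_le_right : Z ⊓ Subgroup.zpowers y ≤ _)
        (by rw [hS, e])
      exact absurd ((e' ▸ inf_le_left : Subgroup.zpowers y ≤ Z) (Subgroup.mem_zpowers y)) hyc
  set A := Subgroup.zpowers y ⊔ Z with hA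
  have hrel : Z.relIndex A = p := by
    rw [hA, Subgroup.relIndex_sup_right, ← Subgroup.inf_relIndex_right, hinf,
      Subgroup.relIndex_bot_left, hS]
  have hAind : ¬ p ∣ A.index := fun h => hind (by
    rw [← Subgroup.relIndex_mul_index (le_sup_right : Z ≤ A), hrel, pow_two]
    exact Nat.mul_dvd_mul_left p h)
  have hcomm : ∀ a b : A, a * b = b * a := fun a b => by
    obtain ⟨a₁, ha₁, a₂, ha₂, ha⟩ := Subgroup.mem_sup_of_normal_right.1 a.2
    obtain ⟨b₁, hb₁, b₂, hb₂, hb⟩ := Subgroup.mem_sup_of_normal_right.1 b.2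
    obtain ⟨i, rfl⟩ := Subgroup.mem_zpowers_iff.1 ha₁
    obtain ⟨j, rfl⟩ := Subgroup.mem_zpowers_iff.1 hb₁
    refine Subtype.ext ?_
    show (a : G) * b = b * a
    rw [← ha, ← hb]
    have c1 : Commute (y ^ i) (y ^ j * b₂) :=
      ((Commute.refl y).zpow_zpow i j).mul_right (Subgroup.mem_center_iff.1 hb₂ _)
    have c2 : Commute a₂ (y ^ j * b₂) := (Subgroup.mem_center_iff.1 ha₂ _).symm
    exact c1.mul_left c2
  letI : CommGroup A := { (inferInstance : Group A) with mul_comm := hcomm }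
  -- central elements of the derived subgroup
  have hcd : ¬ p ∣ Nat.card (Z ⊓ commutator G : Subgroup G) := by
    intro h
    obtain ⟨z, hz⟩ := exists_prime_orderOf_dvd_card' p h
    have hzo : orderOf (z : G) = p := by rw [Subgroup.orderOf_coe, hz]
    have key : ∀ (k : ℕ) (g : G), g⁻¹ * (z : G) ^ k * g ∈ A →
        g⁻¹ * (z : G) ^ k * g = (z : G) ^ k := fun k g _ => by
      have hcm : Commute g (z : G) := Subgroup.mem_center_iff.1 z.2.1 g
      rw [mul_assoc, ← (hcm.pow_right k).eq, inv_mul_cancel_left]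
    have ht := MonoidHom.transfer_eq_pow (MonoidHom.id A) (z : G) key
    have h0 : (MonoidHom.id A).transfer (z : G) = 1 :=
      Abelianization.commutator_subset_ker _ z.2.2
    rw [h0] at ht
    have h1 : (z : G) ^ A.index = 1 := (congrArg Subtype.val ht).symm
    exact hAind (hzo ▸ orderOf_dvd_of_pow_eq_one h1)
  have hdiv : p ∣ Nat.card (commutator G) := by
    by_contra hK
    set H := commutator G ⊔ Subgroup.zpowers y with hH
    have hdis : commutator G ⊓ Subgroup.zpowers y = ⊥ := Subgroup.inf_eq_bot_of_coprime (by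
      rw [hS]; exact (hp.coprime_iff_not_dvd.2 hK).symm)
    have hsqH : ¬ p ^ 2 ∣ Nat.card H := by
      have hr : (commutator G).relIndex H = p := by
        rw [hH, Subgroup.relIndex_sup_left, ← Subgroup.inf_relIndex_right, hdis,
          Subgroup.relIndex_bot_left, hS]
      rw [← Subgroup.card_mul_index ((commutator G).subgroupOf H),
        Nat.card_congr (Subgroup.subgroupOfEquivOfLe (le_sup_left : commutator G ≤ H)).toEquiv,
        show ((commutator G).subgroupOf H).index = p from hr, pow_two]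
      exact fun h => hK ((Nat.mul_dvd_mul_iff_right hp.pos).1 h)
    have hKc : ∀ c ∈ commutator G, c * y = y * c := fun c hc => congrArg Subtype.val
      (commute_of_compl (G := H) (MonoidHom.comp ρ H.subtype) (hρ.comp H.subtype_injective) hd hsqH
        ((commutator G).subgroupOf H) (by
          rwa [Nat.card_congr (Subgroup.subgroupOfEquivOfLe
            (le_sup_left : commutator G ≤ H)).toEquiv])
        (x := ⟨y, (le_sup_right : _ ≤ H) (Subgroup.mem_zpowers y)⟩) (Subtype.ext hyp)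
        (z := ⟨c, (le_sup_left : _ ≤ H) hc⟩) hc)
    refine hyc (Subgroup.mem_center_iff.2 fun g => ?_)
    have hcG : ⁅g, y⁆ ∈ commutator G := Subgroup.commutator_mem_commutator (Subgroup.mem_top g)
      (Subgroup.mem_top y)
    have e : g * y * g⁻¹ = ⁅g, y⁆ * y := by rw [commutatorElement_def]; group
    have hcp : ⁅g, y⁆ ^ p = 1 := by
      have h1 : (g * y * g⁻¹) ^ p = 1 := by rw [conj_pow, hyp, mul_one, mul_inv_cancel]
      have hcm : Commute ⁅g, y⁆ y := hKc _ hcG
      rwa [e, hcm.mul_pow, hyp, mul_one] at h1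
    rcases (Nat.dvd_prime hp).1 (orderOf_dvd_of_pow_eq_one hcp) with ho | ho
    · exact commutatorElement_eq_one_iff_mul_comm.1 (orderOf_eq_one_iff.1 ho)
    · exact absurd (ho ▸ Subgroup.orderOf_dvd_natCard _ hcG) hK
  refine ⟨fun h => hind ?_, ?_⟩
  · have e := Subgroup.card_mul_index (Z.subgroupOf (commutator G))
    have hc : Nat.card (Z.subgroupOf (commutator G)) = Nat.card (Z ⊓ commutator G : Subgroup G) := by
      rw [← Subgroup.inf_subgroupOf_right,
        Nat.card_congr (Subgroup.subgroupOfEquivOfLe inf_le_right).toEquiv]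
    rw [← e, hc] at h
    exact ((Nat.Coprime.pow_left 2 (hp.coprime_iff_not_dvd.2 hcd)).dvd_of_dvd_mul_left h).trans
      (Subgroup.relIndex_dvd_index_of_normal Z (commutator G))
  obtain ⟨x₀, hx₀⟩ := exists_prime_orderOf_dvd_card' p hdiv
  have hx₀o : orderOf (x₀ : G) = p := by rw [Subgroup.orderOf_coe, hx₀]
  have hx₀c : (x₀ : G) ∉ Z := fun h =>
    hcd (hx₀o ▸ Subgroup.orderOf_dvd_natCard _ (⟨h, x₀.2⟩ : (x₀ : G) ∈ Z ⊓ commutator G))
  have hord : ∀ w : G, orderOf w = p → w ∉ Z → orderOf ((w : G) : G ⧸ Z) = p := fun w hw hwc =>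
    orderOf_eq_prime (by rw [← QuotientGroup.mk_pow, ← hw, pow_orderOf_eq_one]; rfl)
      (fun h => hwc ((QuotientGroup.eq_one_iff w).1 h))
  have hsyl : ∀ w : G, orderOf w = p → w ∉ Z →
      IsPGroup p (Subgroup.zpowers ((w : G) : G ⧸ Z)) ∧
        ¬ p ∣ (Subgroup.zpowers ((w : G) : G ⧸ Z)).index := fun w hw hwc => by
    have hc : Nat.card (Subgroup.zpowers ((w : G) : G ⧸ Z)) = p := by
      rw [Nat.card_zpowers, hord w hw hwc]
    exact ⟨IsPGroup.of_card (n := 1) (by rw [hc, pow_one]),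
      not_dvd_index_of_sq (by rw [hc]) (by rwa [← Subgroup.index_eq_card])⟩
  obtain ⟨gq, hgq⟩ := MulAction.exists_smul_eq (G ⧸ Z)
    ((hsyl _ hx₀o hx₀c).1.toSylow (hsyl _ hx₀o hx₀c).2) ((hsyl _ hy hyc).1.toSylow (hsyl _ hy hyc).2)
  obtain ⟨g, rfl⟩ := QuotientGroup.mk_surjective gq
  have hmem : ((y : G) : G ⧸ Z) ∈ (MulAut.conj ((g : G) : G ⧸ Z)) •
      Subgroup.zpowers (((x₀ : G)) : G ⧸ Z) := by
    have h := congrArg Sylow.toSubgroup hgq
    rw [Sylow.coe_subgroup_smul, IsPGroup.toSylow_coe, IsPGroup.toSylow_coe] at h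
    rw [h]; exact Subgroup.mem_zpowers _
  obtain ⟨w, hw, hwy⟩ := Subgroup.mem_smul_pointwise_iff_exists _ _ _ |>.1 hmem
  obtain ⟨i, rfl⟩ := Subgroup.mem_zpowers_iff.1 hw
  set x := g * (x₀ : G) ^ i * g⁻¹ with hx
  have hc : x⁻¹ * y ∈ Z := by
    rw [← QuotientGroup.eq]
    rw [MulAut.smul_def, MulAut.conj_apply] at hwy
    rw [hx, ← hwy]
    simp
  have hxd : x ∈ commutator G :=
    (inferInstance : (commutator G).Normal).conj_mem _ (zpow_mem x₀.2 i) g
  have hxne : x ≠ 1 := fun h => hyc (by rw [h, inv_one, one_mul] at hc; exact hc)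
  have hxp : x ^ p = 1 := by
    rw [hx, conj_pow, ← zpow_natCast, ← zpow_mul, mul_comm i, zpow_mul, zpow_natCast,
      ← hx₀o, pow_orderOf_eq_one, one_zpow, mul_one, mul_inv_cancel]
  refine ⟨x, hxd, orderOf_eq_prime hxp hxne, fun h => hyc ?_, x⁻¹ * y, hc, (mul_inv_cancel_left x y).symm⟩
  have := Subgroup.mul_mem Z h hc
  rwa [mul_inv_cancel_left] at this

/-- The normal closure of a non-normal element of order `p` of the derived subgroup. -/
theorem core_normalClosure (ρ : Representation ℂ G (Fin d → ℂ)) (hρ : Function.Injective ρ)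
    (hd : d + 2 ≤ p) (hp19 : 19 ≤ p) (hsq : ¬ p ^ 2 ∣ Nat.card (commutator G)) {x : G}
    (hxd : x ∈ commutator G) (hx : orderOf x = p) (hxn : ¬ (Subgroup.zpowers x).Normal) :
    Core p (Subgroup.normalClosure ({x} : Set G)) := by
  have hp := hpF.out
  set L := Subgroup.normalClosure ({x} : Set G) with hL
  have hxp : x ^ p = 1 := hx ▸ pow_orderOf_eq_one x
  have hxL : x ∈ L := Subgroup.subset_normalClosure rfl
  set xl : L := ⟨x, hxL⟩ with hxl
  have hLd : L ≤ commutator G := Subgroup.normalClosure_le_normal (Set.singleton_subset_iff.2 hxd)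
  have hsqL : ¬ p ^ 2 ∣ Nat.card L := fun h => hsq (h.trans (Subgroup.card_dvd_of_le hLd))
  have hdvd : p ∣ Nat.card L := hx ▸ Subgroup.orderOf_dvd_natCard L hxL
  have hgen : ∀ M : Subgroup L, (∀ w : L, w ^ p = 1 → w ∈ M) → M = ⊤ := by
    intro M h
    have hle : L ≤ M.map L.subtype := (Subgroup.closure_le _).2 fun w hw => by
      obtain ⟨a, ha, hc⟩ := Group.mem_conjugatesOfSet_iff.1 hw
      rw [Set.mem_singleton_iff] at ha
      subst a
      obtain ⟨c, hc⟩ := isConj_iff.1 hc
      have hwL : w ∈ L := Subgroup.subset_closure hw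
      exact ⟨⟨w, hwL⟩, h _ (Subtype.ext (by
        show w ^ p = 1
        rw [← hc, conj_pow, hxp, mul_one, mul_inv_cancel])), rfl⟩
    refine eq_top_iff.2 fun w _ => ?_
    obtain ⟨w', hw', e⟩ := hle w.2
    rwa [show w' = w from Subtype.ext e] at hw'
  have hbig : ∀ M : Subgroup L, M.Normal → p ∣ Nat.card M → M = ⊤ := fun M hM h =>
    hgen M fun w hw => mem_of_not_dvd_index (not_dvd_index_of_sq h hsqL) hw
  have hsmall : ∀ M : Subgroup L, M.Normal → ¬ p ∣ Nat.card M → M ≤ Subgroup.center L := by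
    intro M hM h z hz
    have htop := hgen (Subgroup.centralizer ({z} : Set L)) fun w hw =>
      Subgroup.mem_centralizer_singleton_iff.2
        (commute_of_compl (G := L) (MonoidHom.comp ρ L.subtype) (hρ.comp L.subtype_injective) hd hsqL
          M h hw hz).symm
    rw [Subgroup.mem_center_iff]
    exact fun g => Subgroup.mem_centralizer_singleton_iff.1 (htop ▸ Subgroup.mem_top g)
  refine ⟨hp, hp19, ?_, hdvd, hsqL, fun M hM hne => hsmall M hM fun h => hne (hbig M hM h)⟩
  by_contra hne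
  have hnd : ¬ p ∣ Nat.card (commutator L) := fun h => hne (hbig _ inferInstance h)
  have hcen := hsmall _ inferInstance hnd
  -- conjugates of `x` are then central in `L`
  have hxc : ∀ w : L, w ^ p = 1 → w ∈ Subgroup.center L := by
    intro w hw
    refine Subgroup.mem_center_iff.2 fun g => ?_
    have hc : ⁅g, w⁆ ∈ commutator L :=
      Subgroup.commutator_mem_commutator (Subgroup.mem_top g) (Subgroup.mem_top w)
    have e : g * w * g⁻¹ = ⁅g, w⁆ * w := by rw [commutatorElement_def]; group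
    have hcm : Commute ⁅g, w⁆ w := (Subgroup.mem_center_iff.1 (hcen hc) w).symm
    have hcp : ⁅g, w⁆ ^ p = 1 := by
      have h1 : (g * w * g⁻¹) ^ p = 1 := by rw [conj_pow, hw, mul_one, mul_inv_cancel]
      rwa [e, hcm.mul_pow, hw, mul_one] at h1
    rcases (Nat.dvd_prime hp).1 (orderOf_dvd_of_pow_eq_one hcp) with ho | ho
    · exact commutatorElement_eq_one_iff_mul_comm.1 (orderOf_eq_one_iff.1 ho)
    · exact absurd (ho ▸ Subgroup.orderOf_dvd_natCard _ hc) hnd
  have hab : ∀ a b : L, a * b = b * a := fun a b =>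
    Subgroup.mem_center_iff.1 (hgen _ hxc ▸ Subgroup.mem_top b) a
  letI : CommGroup L := { (inferInstance : Group L) with mul_comm := hab }
  have hker : (powMonoidHom p : L →* L).ker = ⊤ := hgen _ fun w hw => hw
  have hall : ∀ w : L, w ^ p = 1 := fun w => by
    have h : w ∈ (powMonoidHom p : L →* L).ker := hker ▸ Subgroup.mem_top w
    exact h
  have htop : Subgroup.zpowers xl = ⊤ := by
    haveI : (Subgroup.zpowers xl).Normal := ⟨fun a ha g => by
      rwa [hab g a, mul_inv_cancel_right]⟩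
    refine hbig _ inferInstance ?_
    rw [Nat.card_zpowers, ← Subgroup.orderOf_coe, hxl, hx]
  have hLeq : L = Subgroup.zpowers x := by
    refine le_antisymm (fun w hw => ?_) (Subgroup.zpowers_le.2 hxL)
    obtain ⟨i, hi⟩ := Subgroup.mem_zpowers_iff.1 (htop ▸ Subgroup.mem_top (⟨w, hw⟩ : L))
    exact Subgroup.mem_zpowers_iff.2 ⟨i, congrArg Subtype.val hi⟩
  exact hxn (hLeq ▸ Subgroup.normalClosure_normal)

/-- A non-central element of order `p` does not generate a normal subgroup. -/
theorem not_normal_zpowers (hind : ¬ p ^ 2 ∣ (Subgroup.center G).index) (P : Sylow p G)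
    (hP : ¬ (P : Subgroup G).Normal) {x : G} (hx : orderOf x = p) (hxc : x ∉ Subgroup.center G) :
    ¬ (Subgroup.zpowers x).Normal := by
  intro hn
  set Z := Subgroup.center G with hZ
  set A := Subgroup.zpowers x ⊔ Z with hA
  haveI : A.Normal := Subgroup.sup_normal _ _
  have hAind : ¬ p ∣ A.index := fun h => hind (by
    have hd : p ∣ Z.relIndex A := by
      have hor : orderOf (((⟨x, (le_sup_left : _ ≤ A) (Subgroup.mem_zpowers x)⟩ : A)) :
          A ⧸ Z.subgroupOf A) = p := by
        refine orderOf_eq_prime ?_ fun h => hxc ?_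
        · rw [← QuotientGroup.mk_pow, QuotientGroup.eq_one_iff, Subgroup.mem_subgroupOf,
            SubmonoidClass.coe_pow, ← hx, pow_orderOf_eq_one]
          exact one_mem _
        · rwa [QuotientGroup.eq_one_iff, Subgroup.mem_subgroupOf] at h
      exact hor ▸ orderOf_dvd_natCard _
    rw [← Subgroup.relIndex_mul_index (le_sup_right : Z ≤ A), pow_two]
    exact Nat.mul_dvd_mul hd h)
  have hab : ∀ a ∈ A, ∀ b ∈ A, a * b = b * a := by
    intro a ha b hb
    obtain ⟨a₁, ha₁, a₂, ha₂, rfl⟩ := Subgroup.mem_sup_of_normal_right.1 ha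
    obtain ⟨b₁, hb₁, b₂, hb₂, rfl⟩ := Subgroup.mem_sup_of_normal_right.1 hb
    obtain ⟨i, rfl⟩ := Subgroup.mem_zpowers_iff.1 ha₁
    obtain ⟨j, rfl⟩ := Subgroup.mem_zpowers_iff.1 hb₁
    have c1 : Commute (x ^ i) (x ^ j * b₂) :=
      ((Commute.refl x).zpow_zpow i j).mul_right (Subgroup.mem_center_iff.1 hb₂ _)
    have c2 : Commute a₂ (x ^ j * b₂) := (Subgroup.mem_center_iff.1 ha₂ _).symm
    exact c1.mul_left c2
  have hPA : (P : Subgroup G) ≤ A := by
    intro q hq
    obtain ⟨j, hj⟩ := P.isPGroup' ⟨q, hq⟩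
    have hj' : q ^ p ^ j = 1 := congrArg Subtype.val hj
    have ho : orderOf ((q : G) : G ⧸ A) ∣ p ^ j :=
      orderOf_dvd_of_pow_eq_one (by rw [← QuotientGroup.mk_pow, hj']; rfl)
    have hi : orderOf ((q : G) : G ⧸ A) ∣ A.index := by
      rw [Subgroup.index_eq_card]; exact orderOf_dvd_natCard _
    exact (QuotientGroup.eq_one_iff q).1 (orderOf_eq_one_iff.1 (Nat.eq_one_of_dvd_coprimes
      (Nat.Coprime.pow_left j (hpF.out.coprime_iff_not_dvd.2 hAind)) ho hi))
  refine hP ⟨fun a ha g => ?_⟩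
  set b := g * a * g⁻¹ with hb
  have hbA : b ∈ A := (inferInstance : A.Normal).conj_mem _ (hPA ha) g
  obtain ⟨j, hj⟩ := P.isPGroup' ⟨a, ha⟩
  have hj' : a ^ p ^ j = 1 := congrArg Subtype.val hj
  have hbp : IsPGroup p (Subgroup.zpowers b) := by
    obtain ⟨i, -, hi⟩ := (Nat.dvd_prime_pow hpF.out).1 (orderOf_dvd_of_pow_eq_one
      (show b ^ p ^ j = 1 by rw [hb, conj_pow, hj', mul_one, mul_inv_cancel]))
    exact IsPGroup.of_card (n := i) (by rw [Nat.card_zpowers, hi])
  have hnorm : Subgroup.zpowers b ≤ Subgroup.normalizer ((P : Subgroup G) : Set G) :=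
    Subgroup.zpowers_le.2 (Subgroup.mem_normalizer_iff.2 fun h => by
      constructor
      · intro hh
        rwa [show b * h * b⁻¹ = h by rw [hab b hbA h (hPA hh), mul_inv_cancel_right]]
      · intro hh
        have e : h = b⁻¹ * (b * h * b⁻¹) * b := by group
        have hc : Commute (b * h * b⁻¹) b := hab _ (hPA hh) b hbA
        rw [e, mul_assoc, hc.eq, inv_mul_cancel_left]
        exact hh)
  have hsup := IsPGroup.to_sup_of_normal_left' P.isPGroup' hbp hnorm
  rw [← P.is_maximal' hsup le_sup_left]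
  exact le_sup_right (a := (P : Subgroup G)) (Subgroup.mem_zpowers b)

/-- The orbit of a primitive root under the squares of the units. -/
noncomputable def sqOrbit (p : ℕ) [Fact p.Prime] (l : ℂ) : Finset ℂ :=
  (Finset.univ.filter fun a : (ZMod p)ˣ =>
    a ∈ (powMonoidHom 2 : (ZMod p)ˣ →* (ZMod p)ˣ).range).image
      (fun a : (ZMod p)ˣ => l ^ (a : ZMod p).val)

theorem card_sqOrbit {l : ℂ} (hl : orderOf l = p) (hp2 : p ≠ 2) :
    (sqOrbit p l).card = (p - 1) / 2 := by
  have hp := hpF.out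
  rw [sqOrbit, Finset.card_image_of_injective _ fun a b h => Units.ext (ZMod.val_injective p
      (pow_injOn_Iio_orderOf
        (show (a : ZMod p).val ∈ Set.Iio (orderOf l) by rw [hl]; exact ZMod.val_lt _)
        (show (b : ZMod p).val ∈ Set.Iio (orderOf l) by rw [hl]; exact ZMod.val_lt _) h)),
    ← Fintype.card_subtype, ← Nat.card_eq_fintype_card,
    IsCyclic.card_powMonoidHom_range, Nat.card_eq_fintype_card, ZMod.card_units,
    Nat.gcd_eq_right]
  rcases hp.eq_two_or_odd with h | h <;> omega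

theorem mem_sqOrbit {l m : ℂ} (hm : m ∈ sqOrbit p l) :
    ∃ t : (ZMod p)ˣ, m = l ^ (((t : ZMod p) ^ 2).val) := by
  obtain ⟨a, ha, rfl⟩ := Finset.mem_image.1 hm
  obtain ⟨t, rfl⟩ := (Finset.mem_filter.1 ha).2
  exact ⟨t, by simp [powMonoidHom]⟩

/-- Multiplicities constant along the orbits of the squares. -/
theorem orbit_bound (f : Module.End ℂ (Fin d → ℂ)) (hp2 : p ≠ 2)
    (hconj : ∀ (t : (ZMod p)ˣ) (l : ℂ), finrank ℂ (f.eigenspace l) ≤
      finrank ℂ (f.eigenspace (l ^ (((t : ZMod p) ^ 2).val))))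
    {l : ℂ} (hl : l ^ p = 1) (hl1 : l ≠ 1) :
    (p - 1) / 2 * finrank ℂ (f.eigenspace l) ≤ d ∧
      (0 < finrank ℂ (f.eigenspace l) → (p - 1) / 2 ≤ ((eigenset f).erase 1).card) := by
  have hlo : orderOf l = p := orderOf_eq_prime hl hl1
  have hTm : ∀ m ∈ sqOrbit p l,
      m ≠ 1 ∧ finrank ℂ (f.eigenspace l) ≤ finrank ℂ (f.eigenspace m) := by
    intro m hm
    obtain ⟨t, rfl⟩ := mem_sqOrbit hm
    refine ⟨fun h => ?_, hconj t l⟩
    have h1 := orderOf_dvd_of_pow_eq_one h
    rw [hlo] at h1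
    exact pow_ne_zero 2 t.ne_zero ((ZMod.val_eq_zero _).1
      (Nat.eq_zero_of_dvd_of_lt h1 (ZMod.val_lt _)))
  rw [← card_sqOrbit hlo hp2]
  refine ⟨?_, fun hpos => Finset.card_le_card fun m hm => Finset.mem_erase.2
    ⟨(hTm m hm).1, mem_eigenset.2 (lt_of_lt_of_le hpos (hTm m hm).2)⟩⟩
  have hfr : finrank ℂ (Fin d → ℂ) = d := Module.finrank_fin_fun _
  rw [← smul_eq_mul]
  calc _ ≤ ∑ m ∈ sqOrbit p l, finrank ℂ (f.eigenspace m) :=
        Finset.card_nsmul_le_sum _ _ _ fun m hm => (hTm m hm).2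
    _ ≤ _ := (sum_finrank_eigenspace_le f _).trans_eq hfr

/-- The multiplicities of an element of order `p` of the derived subgroup. -/
theorem mult_of_derived (ρ : Representation ℂ G (Fin d → ℂ)) (hρ : Function.Injective ρ)
    (hp19 : 19 ≤ p) (hd : d ≤ 16) (hsq : ¬ p ^ 2 ∣ Nat.card (commutator G)) {x : G}
    (hxd : x ∈ commutator G) (hx : orderOf x = p) (hxn : ¬ (Subgroup.zpowers x).Normal) (ν : ℂ) :
    finrank ℂ (Module.End.eigenspace (ρ x) ν) + 8 ≤ d ∧
      (ν = 1 → finrank ℂ (Module.End.eigenspace (ρ x) ν) + 9 ≤ d) := by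
  haveI : Fintype G := Fintype.ofFinite G
  have hp := hpF.out
  have hcore := core_normalClosure ρ hρ (by omega) hp19 hsq hxd hx hxn
  have hfr : finrank ℂ (Fin d → ℂ) = d := Module.finrank_fin_fun _
  have hxne : ρ x ≠ 1 := fun h => hp.ne_one (by
    rw [← hx, hρ (h.trans (map_one ρ).symm), orderOf_one])
  set f : Module.End ℂ (Fin d → ℂ) := ρ x with hf
  set E := eigenset f with hE
  have htop := iSup_eigenspace_rep ρ x
  have hker := aeval_prod_eigenset htop
  rw [← hE] at hker
  rcases Nat.lt_or_ge p (2 * E.card) with hbig | hsmall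
  · have h1 := mult_add_card_erase_le f ν
    have h2 := Finset.pred_card_le_card_erase (s := E) (a := ν)
    rw [← hE, hfr] at h1
    exact ⟨by omega, fun _ => by omega⟩
  set L := Subgroup.normalClosure ({x} : Set G) with hL
  set xl : L := ⟨x, Subgroup.subset_normalClosure rfl⟩ with hxl
  have hxlo : orderOf xl = p := by rw [← Subgroup.orderOf_coe, hxl, hx]
  obtain ⟨k, _, _, _, φ, hk, hr, hφ⟩ := exists_hom_few (G := L) (by omega) hcore.perf hcore.sq
    hcore.norm (MonoidHom.comp ρ L.subtype) (hρ.comp L.subtype_injective) (by omega) hxlo E hsmall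
    hker
  obtain ⟨-, -, hsqr⟩ :=
    centralizer_of_std (by omega) hcore.perf hcore.sq φ hxlo hk hr hφ
  have hconj : ∀ (t : (ZMod p)ˣ) (l : ℂ), finrank ℂ (f.eigenspace l) ≤
      finrank ℂ (f.eigenspace (l ^ (((t : ZMod p) ^ 2).val))) := by
    intro t l
    obtain ⟨n, hn⟩ := hsqr t
    have hn' : (n : G) * x * (n : G)⁻¹ = x ^ (((t : ZMod p) ^ 2).val) := by
      simpa [hxl] using congrArg Subtype.val hn
    refine le_of_le_of_eq (Submodule.finrank_mono (eigenspace_le_pow f l (((t : ZMod p) ^ 2).val))) ?_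
    rw [hf, ← map_pow, ← hn', finrank_eigenspace_conj]
  -- an eigenvalue other than one
  obtain ⟨l, hlE, hl1⟩ : ∃ l ∈ E, l ≠ 1 := by
    by_contra h
    push Not at h
    refine hxne (LinearMap.ext fun v => ?_)
    have hle : ⨆ μ : ℂ, f.eigenspace μ ≤ LinearMap.ker (f - 1) := iSup_le fun m w hw => by
      rw [LinearMap.mem_ker, LinearMap.sub_apply, Module.End.one_apply]
      rcases eq_or_ne w 0 with rfl | hw0
      · simp
      · have hm : m ∈ E := by
          rw [hE, mem_eigenset, Nat.pos_iff_ne_zero, Ne, Submodule.finrank_eq_zero]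
          intro h0
          rw [h0, Submodule.mem_bot] at hw
          exact hw0 hw
        rw [Module.End.mem_eigenspace_iff.1 hw, h m hm, one_smul, sub_self]
    rw [htop, top_le_iff, LinearMap.ker_eq_top, sub_eq_zero] at hle
    rw [hle]
  have hxp : x ^ p = 1 := hx ▸ pow_orderOf_eq_one x
  have hroot : ∀ m ∈ E, m ^ p = 1 := by
    intro m hm
    obtain ⟨v, hv, hv0⟩ := Submodule.exists_mem_ne_zero_of_ne_bot (p := f.eigenspace m) fun h0 => by
      rw [hE, mem_eigenset, h0, finrank_bot] at hm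
      omega
    have := Module.End.mem_eigenspace_iff.1 (eigenspace_le_pow f m p hv)
    rw [hf, ← map_pow, hxp, map_one, Module.End.one_apply] at this
    exact (smul_left_injective ℂ hv0 ((one_smul ℂ v).trans this)).symm
  have hlpos : 0 < finrank ℂ (f.eigenspace l) := mem_eigenset.1 hlE
  have h9 : 9 ≤ (p - 1) / 2 := by omega
  obtain ⟨-, hcard⟩ := orbit_bound f (by omega) hconj (hroot l hlE) hl1
  have hcard' := hcard hlpos
  have hE1 := mult_add_card_erase_le f 1
  rw [hfr] at hE1
  rcases eq_or_ne ν 1 with hν1 | hν1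
  · rw [hν1]
    exact ⟨by omega, fun _ => by omega⟩
  refine ⟨?_, fun h => absurd h hν1⟩
  rcases Nat.eq_zero_or_pos (finrank ℂ (f.eigenspace ν)) with h0 | hpos
  · omega
  obtain ⟨hm, -⟩ := orbit_bound f (by omega) hconj (hroot ν (mem_eigenset.2 hpos)) hν1
  have hm1 : finrank ℂ (f.eigenspace ν) ≤ 1 := by nlinarith
  omega

/-- In degree at most sixteen every eigenvalue of a non-central element of order `p` has
multiplicity at most the degree less eight. -/
theorem mult_le (ρ : Representation ℂ G (Fin d → ℂ)) [ρ.IsIrreducible] (hρ : Function.Injective ρ)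
    (hp19 : 19 ≤ p) (hd : d ≤ 16) (P : Sylow p G) (hP : ¬ (P : Subgroup G).Normal)
    (hind : ¬ p ^ 2 ∣ (Subgroup.center G).index) {y : G} (hy : orderOf y = p)
    (hyc : y ∉ Subgroup.center G) (μ : ℂ) :
    finrank ℂ (Module.End.eigenspace (ρ y) μ) + 8 ≤ d := by
  haveI : Fintype G := Fintype.ofFinite G
  have hp := hpF.out
  obtain ⟨hsq, x, hxd, hx, hxc, c, hc, rfl⟩ :=
    exists_derived_element ρ hρ (by omega) hind hy hyc
  -- the central factor is a scalar
  obtain ⟨s, hs⟩ := Char.schur_scalar ρ (ρ c) fun g v => by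
    rw [← Module.End.mul_apply, ← map_mul, ← Subgroup.mem_center_iff.1 hc g, map_mul,
      Module.End.mul_apply]
  have hfr : finrank ℂ (Fin d → ℂ) = d := Module.finrank_fin_fun _
  have hxne : ρ x ≠ 1 := fun h => hp.ne_one (by
    rw [← hx, hρ (h.trans (map_one ρ).symm), orderOf_one])
  have hd0 : 0 < d := by
    rcases Nat.eq_zero_or_pos d with h | h
    · subst h; exact absurd (Subsingleton.elim _ _) hxne
    · exact h
  have hs0 : s ≠ 0 := by
    intro h
    rw [h, zero_smul] at hs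
    have h1 := congrArg (fun f => ρ c⁻¹ * f) hs
    simp only [← map_mul, inv_mul_cancel, map_one, mul_zero] at h1
    haveI : Nontrivial (Fin d → ℂ) := Module.nontrivial_of_finrank_pos (R := ℂ) (by rw [hfr]; exact hd0)
    exact one_ne_zero h1
  have hyx : ρ (x * c) = s • ρ x := by
    rw [map_mul, hs]
    refine LinearMap.ext fun v => ?_
    simp
  rw [hyx, show μ = s * (s⁻¹ * μ) by rw [mul_inv_cancel_left₀ hs0], finrank_eigenspace_smul hs0]
  exact (mult_of_derived ρ hρ hp19 hd hsq hxd hx (not_normal_zpowers hind P hP hx hxc) (s⁻¹ * μ)).1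

end Cfsg.Agent.SmallDeg16
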